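import Cfsg.Agent.ThreeTransposition.M22Count.Centraliser

/-!
Three bases of a totally isotropic plane with the same product of transvections show that, in a class of type M(22),
a member is a product of six commuting members of its neighbourhood; the centraliser of a member is perfect and so
is the group.  The width of the class is 22.
-/

set_option autoImplicit false
set_option linter.unusedSectionVars false
set_option linter.style.haveILetI false

open scoped commutatorElement

namespace Cfsg.Lib.ThreeTr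

open Cfsg Subgroup Cfsg.Lib.Classical Cfsg.Lib.TTUnitary

universe u v

/-- The elements `0, 1, ω, ω + 1` of the field with four elements, multiplied through their indices. -/
def mulCode : Fin 4 → Fin 4 → Fin 4 := ![![0, 0, 0, 0], ![0, 1, 2, 3], ![0, 2, 3, 1], ![0, 3, 1, 2]]

/-- The coordinates of nine points of a projective plane forming three bases. -/
def baseCode : Fin 3 → Fin 3 → Fin 3 → Fin 4 := ![![![1, 0, 0], ![0, 1, 0], ![0, 0, 1]],
  ![![1, 1, 1], ![1, 2, 3], ![1, 3, 2]], ![![1, 1, 2], ![1, 2, 1], ![2, 1, 1]]]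

theorem baseCode_sep : ∀ b i b' i', (∀ k l, mulCode (baseCode b i k) (baseCode b' i' l) =
    mulCode (baseCode b i l) (baseCode b' i' k)) → b = b' ∧ i = i' := by decide +kernel

theorem baseCode_ne : ∀ b i, ¬ ∀ k, baseCode b i k = 0 := by decide +kernel

namespace IsSixSpace

variable {F : Type u} [Field F] {V : Type v} [AddCommGroup V] [Module F V] {H : HermSpace F V}
  (hS : IsSixSpace H)
include hS

/-- Three independent pairwise orthogonal isotropic vectors. -/
theorem exists_lagrange [Finite F] : ∃ e : Fin 3 → V, (∀ i j, H.h (e i) (e j) = 0) ∧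
    ∀ c : Fin 3 → F, c 0 • e 0 + c 1 • e 1 + c 2 • e 2 = 0 → c = 0 := by
  haveI := hS.fd
  have hq := hS.toFour
  have hd : 2 ≤ Module.finrank F (⊤ : Submodule F V) := by rw [hS.finrank_top_eq]; norm_num
  obtain ⟨a, -, ha0, ha⟩ := exists_iso hS.nondegOn_top hd
  obtain ⟨b, p⟩ := hS.exists_top_pair ha0 ha
  have hn1 := p.nondeg hq hS.nondegOn_top
  have h1 := p.finrank hq
  rw [hS.finrank_top_eq] at h1
  obtain ⟨a', haW, ha'0, ha'⟩ := exists_iso hn1 (by omega)
  obtain ⟨b', p'⟩ := exists_pair hn1 haW ha'0 ha'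
  have hn2 := p'.nondeg hq hn1
  have h2 := p'.finrank hq
  obtain ⟨c, hcW, hc0, hc⟩ := exists_iso hn2 (by omega)
  obtain ⟨hcW', hca', hcb'⟩ := mem_perp2.mp hcW
  obtain ⟨-, hca, hcb⟩ := mem_perp2.mp hcW'
  obtain ⟨-, haa, hab⟩ := mem_perp2.mp haW
  refine ⟨![a, a', c], ?_, fun t ht => ?_⟩
  · intro i j
    fin_cases i <;> fin_cases j <;>
      simp [ha, ha', hc, hca, haa, hca', H.eq_zero_symm hca, H.eq_zero_symm haa, H.eq_zero_symm hca']
  simp only [Matrix.cons_val_zero, Matrix.cons_val_one, Matrix.cons_val] at ht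
  have e0 : t 0 = 0 := by
    have := congrArg (fun v => H.h v b) ht
    simp only [H.add_left, H.smul_left, H.zero_left, p.prod, hab, hcb, mul_zero, mul_one, add_zero] at this
    exact this
  have e1 : t 1 = 0 := by
    have := congrArg (fun v => H.h v b') ht
    rw [e0] at this
    simp only [H.add_left, H.smul_left, H.zero_left, p'.prod, hcb', mul_zero, mul_one, add_zero, zero_mul,
      zero_add] at this
    exact this
  have e2 : t 2 = 0 := by
    rw [e0, e1, zero_smul, zero_smul, zero_add, zero_add, smul_eq_zero] at ht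
    exact ht.resolve_right hc0
  funext i
  fin_cases i <;> assumption

theorem tv_triple {u₀ u₁ u₂ : V} (h0 : H.h u₀ u₀ = 0) (h1 : H.h u₁ u₁ = 0) (h2 : H.h u₂ u₂ = 0)
    (h01 : H.h u₁ u₀ = 0) (h02 : H.h u₂ u₀ = 0) (h12 : H.h u₂ u₁ = 0) (x : V) :
    (hS.tv h0 * hS.tv h1 * hS.tv h2).1.1 x = x + H.h x u₀ • u₀ + H.h x u₁ • u₁ + H.h x u₂ • u₂ := by
  simp only [HermSpace.smul_mul_apply, hS.tv_apply, H.add_left, H.smul_left, h01, h02, h12, mul_zero, add_zero]
  abel

end IsSixSpace

namespace M22

variable {G : Type u} [Group G] [Finite G] {D : Set G} (h : M22 D)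
include h

/-- Members on three independent isotropic vectors of a totally isotropic plane: another such triple has the product
multiplied by the centre. -/
theorem other_triple {a : G} (ha : a ∈ D) {F : Type} [Field F] [Fintype F] {H : HermSpace F (Fin 6 → F)}
    {π : H.SIsom →* ↥(closure (perp D a)) ⧸ center ↥(closure (perp D a))} {vec : G → (Fin 6 → F)}
    (hM : IsModel D a H π vec) {y : Fin 3 → G} (hy : ∀ i, y i ∈ perp D a)
    (hyc : ∀ i j, Commute (y i) (y j))
    (hind : ∀ c : Fin 3 → F, c 0 • vec (y 0) + c 1 • vec (y 1) + c 2 • vec (y 2) = 0 → c = 0) :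
    ∃ z : Fin 3 → G, (∀ i, z i ∈ perp D a) ∧ (∀ i j, Commute (z i) (z j)) ∧
      z 0 * z 1 * z 2 = a * (y 0 * y 1 * y 2) := by
  have hS := hM.six
  let e : Fin 3 → (Fin 6 → F) := fun i => vec (y i)
  have he : ∀ i j, H.h (e i) (e j) = 0 := fun i j => (hM.comm_iff h ha (hy i) (hy j)).1 (hyc i j)
  obtain ⟨ω, hω⟩ := H.conj.exists_trace_one
  have hω0 : ω ≠ 0 := fun e => by rw [e, map_zero, zero_add] at hω; exact zero_ne_one hω
  have hω1 : ω ≠ 1 := fun e => by rw [e, map_one, hS.add_self] at hω; exact zero_ne_one hω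
  have hσω : H.σ ω = ω + 1 := by linear_combination hω - ω * hS.two
  have hωω : ω * ω = ω + 1 := by
    have := hS.norm ω hω0
    rw [hσω] at this
    linear_combination this - ω * hS.two
  have hω10 : ω + 1 ≠ 0 := fun e => hω1 (by linear_combination e - hS.two)
  -- the three bases, as coordinate vectors
  let val : Fin 4 → F := ![0, 1, ω, ω + 1]
  have hval : ∀ c d, val c * val d = val (mulCode c d) := by
    intro c d
    fin_cases c <;> fin_cases d <;> simp [val, mulCode, hωω] <;>
      first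
        | linear_combination hωω + ω * hS.two
        | linear_combination hωω + (ω + 1) * hS.two
  have hωω1 : ω + 1 ≠ 1 := fun e => hω0 (by linear_combination e)
  have hωω2 : ω + 1 ≠ ω := fun e => one_ne_zero (α := F) (by linear_combination e)
  have hvalinj : Function.Injective val := by
    intro c d e
    fin_cases c <;> fin_cases d <;>
      simp [val, hω0, hω1, hω10, hωω1, hωω2, Ne.symm hω0, Ne.symm hω1, Ne.symm hω10, Ne.symm hωω1,
        Ne.symm hωω2] at e ⊢
  let B : Fin 3 → Fin 3 → (Fin 3 → F) := fun b i k => val (baseCode b i k)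
  let u : Fin 3 → Fin 3 → (Fin 6 → F) := fun b i => B b i 0 • e 0 + B b i 1 • e 1 + B b i 2 • e 2
  have horth : ∀ b i b' i', H.h (u b i) (u b' i') = 0 := fun b i b' i' => by
    simp only [u, H.add_left, H.add_right, H.smul_left, H.smul_right, he, mul_zero, add_zero]
  have hu0 : ∀ b i, u b i ≠ 0 := by
    intro b i h0
    have := hind _ h0
    have h3 : ∀ k, baseCode b i k = 0 := fun k => hvalinj ((congrFun this k).trans rfl)
    exact baseCode_ne b i h3
  have hx : ∀ b i, ∃ x ∈ perp D a, ∃ t : F, t ≠ 0 ∧ u b i = t • vec x := fun b i =>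
    hM.cover _ (hu0 b i) (horth b i b i)
  choose x hxp t ht hxt using hx
  -- different coordinate points give different members
  have hsep : ∀ b i b' i', x b i = x b' i' → ∃ s : F, ∀ k, B b i k = s * B b' i' k := by
    intro b i b' i' hxx
    refine ⟨t b i * (t b' i')⁻¹, fun k => ?_⟩
    have h1 : u b i - (t b i * (t b' i')⁻¹) • u b' i' = 0 := by
      rw [hxt, hxt, hxx, smul_smul, mul_assoc, inv_mul_cancel₀ (ht b' i'), mul_one, sub_self]
    have h2 := hind (fun k => B b i k - t b i * (t b' i')⁻¹ * B b' i' k) (by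
      rw [← h1]; simp only [u, sub_smul, smul_add, smul_smul]; abel)
    exact sub_eq_zero.1 (congrFun h2 k)
  let X : Fin 3 → Fin 3 → ↥(closure (perp D a)) := fun b i => ⟨x b i, subset_closure (hxp b i)⟩
  have himg : ∀ b i, (QuotientGroup.mk (X b i) : _ ⧸ center ↥(closure (perp D a))) = π (hS.tv (horth b i b i)) := fun b i => by
    rw [hM.img (X b i) (hxp b i) (hM.vec_iso _ (hxp b i))]
    exact ((hS.tv_image_eq_iff π hM.ker _ _ (hu0 b i)).2 ⟨t b i, ht b i, hxt b i⟩).symm
  have hcode : ∀ b i b' i', x b i = x b' i' → b = b' ∧ i = i' := fun b i b' i' hxx => by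
    obtain ⟨s, hs⟩ := hsep b i b' i' hxx
    refine baseCode_sep b i b' i' fun k l => hvalinj ?_
    rw [← hval, ← hval]
    show B b i k * B b' i' l = B b i l * B b' i' k
    rw [hs k, hs l]; ring
  let j : Fin 3 → ↥(closure (perp D a)) := fun b => X b 0 * X b 1 * X b 2
  have hsame : ∀ b, (QuotientGroup.mk (j b) : _ ⧸ center ↥(closure (perp D a))) = QuotientGroup.mk (j 0) := by
    intro b
    simp only [j, QuotientGroup.mk_mul, himg, ← map_mul]
    congr 1
    refine H.sisom_ext fun z => ?_
    rw [hS.tv_triple _ _ _ (horth _ _ _ _) (horth _ _ _ _) (horth _ _ _ _),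
      hS.tv_triple _ _ _ (horth _ _ _ _) (horth _ _ _ _) (horth _ _ _ _)]
    fin_cases b
    · rfl
    all_goals
      simp only [u, B, val, baseCode, Fin.isValue, Fin.zero_eta, Fin.mk_one, Fin.reduceFinMk, Matrix.cons_val_zero,
        Matrix.cons_val_one, Matrix.cons_val, H.add_right, H.smul_right, map_one, map_zero, map_add, hσω]
      match_scalars
      all_goals ring_nf
      all_goals simp [show ω ^ 2 = ω + 1 from (sq ω).trans hωω, hS.two, hS.three, hS.four, hS.five]
      all_goals ring_nf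
      all_goals simp [show ω ^ 2 = ω + 1 from (sq ω).trans hωω, hS.two, hS.three, hS.four, hS.five]
  have hcomm : ∀ b i b' i', Commute (x b i) (x b' i') := fun b i b' i' => (hM.comm_iff h ha (hxp b i) (hxp b' i')).2 (by
    have := horth b i b' i'
    rw [hxt, hxt, H.smul_left, H.smul_right] at this
    simpa [ht] using this)
  have hE := h.cls.1
  have hinv : ∀ b, ((j b : ↥(closure (perp D a))) : G)⁻¹ = x b 2 * x b 1 * x b 0 := fun b => by
    simp only [j, X, coe_mul, mul_inv_rev, inv_eq hE (hxp b 0).1, inv_eq hE (hxp b 1).1, inv_eq hE (hxp b 2).1,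
      mul_assoc]
  have hzero : ∃ b, (j b : G) ≠ j 0 := by
    by_contra hall
    push Not at hall
    let l : Fin 3 → List G := fun b => [x b 0, x b 1, x b 2]
    have hmeml : ∀ {b y}, y ∈ l b → ∃ i, y = x b i := by
      intro b y hy
      simp only [l, List.mem_cons, List.not_mem_nil, or_false] at hy
      rcases hy with rfl | rfl | rfl <;> exact ⟨_, rfl⟩
    have hl : ∀ b, (l b).Nodup ∧ (l b).length = 3 ∧ (∀ y ∈ l b, y ∈ D) ∧
        (∀ y ∈ l b, ∀ z ∈ l b, Commute y z) ∧ (l b).prod = (j 0 : G) := by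
      intro b
      refine ⟨?_, rfl, fun y hy => ?_, fun y hy z hz => ?_, ?_⟩
      · have key : ∀ i i', i ≠ i' → x b i ≠ x b i' := by
          intro i i' hii e'
          exact hii (hcode b i b i' e').2
        simp [l, key 0 1 (by decide), key 0 2 (by decide), key 1 2 (by decide)]
      · obtain ⟨i, rfl⟩ := hmeml hy; exact (hxp b i).1
      · obtain ⟨i, rfl⟩ := hmeml hy
        obtain ⟨i', rfl⟩ := hmeml hz
        exact hcomm b i b i'
      · rw [← hall b]; simp [l, j, X, mul_assoc]
    have hdiff : ∀ b b', b ≠ b' → ¬ ∀ y, y ∈ l b ↔ y ∈ l b' := by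
      intro b b' hbb hiff
      obtain ⟨i, hi⟩ := hmeml ((hiff (x b 0)).1 (by simp [l]))
      exact hbb (hcode b 0 b' i hi).1
    obtain ⟨l₁, l₂, -, -, -, htwo⟩ := m22_triples h.cls h.prim h.twin h.type (hl 0)
    rcases htwo _ (hl 0) with c0 | c0 <;> rcases htwo _ (hl 1) with c1 | c1 <;> rcases htwo _ (hl 2) with c2 | c2 <;>
      first
        | exact hdiff 0 1 (by decide) fun y => (c0 y).trans (c1 y).symm
        | exact hdiff 0 2 (by decide) fun y => (c0 y).trans (c2 y).symm
        | exact hdiff 1 2 (by decide) fun y => (c1 y).trans (c2 y).symm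
  obtain ⟨b, hb⟩ := hzero
  have hc := QuotientGroup.eq.1 (hsame b)
  rcases h.eq_one_or_self ha (closure_perp_commute (SetLike.coe_mem ((j b)⁻¹ * j 0))).symm
      (fun y hy => congrArg Subtype.val (mem_center_iff.1 hc ⟨y, subset_closure hy⟩)) with e' | e'
  · refine absurd (inv_injective (eq_inv_of_mul_eq_one_left ?_)) hb
    simpa using e'
  · have hx0 : ∀ i, x 0 i = y i := by
      intro i
      refine hM.eq_of_prop h ha (hxp 0 i) (hy i) (a := (t 0 i)⁻¹) ?_
      have : u 0 i = vec (y i) := by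
        fin_cases i <;> simp [u, B, val, baseCode, e]
      rw [← this, hxt, smul_smul, inv_mul_cancel₀ (ht 0 i), one_smul]
    refine ⟨x b, hxp b, fun i j => hcomm b i b j, ?_⟩
    rw [coe_mul, coe_inv, inv_mul_eq_iff_eq_mul] at e'
    have e0 : (j 0 : G) = y 0 * y 1 * y 2 := by simp [j, X, hx0]
    have eb : (j b : G) = x b 0 * x b 1 * x b 2 := by simp [j, X]
    have hca : Commute a (j 0 : G) := (closure_perp_commute (SetLike.coe_mem (j 0))).symm
    rw [← eb, ← e0, hca.eq, e', mul_assoc, sq_eq_one hE ha, mul_one]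

/-- A member is the product of six commuting members of its neighbourhood. -/
theorem exists_six_prod {a : G} (ha : a ∈ D) :
    ∃ l : List G, l.length = 6 ∧ (∀ x ∈ l, x ∈ perp D a) ∧ l.prod = a := by
  obtain ⟨F, _, _, H, π, vec, hM⟩ := h.exists_model ha
  obtain ⟨e, he, hind⟩ := hM.six.exists_lagrange
  have hne : ∀ i, e i ≠ 0 := fun i hi => by
    have := congrFun (hind (Pi.single i 1) (by fin_cases i <;> simp [Pi.single_apply] at hi ⊢ <;> exact hi)) i
    simp at this
  choose y hy t ht hty using fun i => hM.cover (e i) (hne i) (he i i)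
  have hyc : ∀ i j, Commute (y i) (y j) := fun i j => (hM.comm_iff h ha (hy i) (hy j)).2 (by
    have := he i j
    rw [hty, hty, H.smul_left, H.smul_right] at this
    simpa [ht] using this)
  obtain ⟨z, hz, -, hzy⟩ := h.other_triple ha hM hy hyc fun c hc => by
    have h0 := hind (fun i => c i * (t i)⁻¹) (by
      simp only [hty, smul_smul, mul_assoc, inv_mul_cancel₀ (ht _), mul_one]; exact hc)
    funext i
    have hi := congrFun h0 i
    simpa [ht i] using hi
  refine ⟨[z 0, z 1, z 2, y 2, y 1, y 0], rfl, fun w hw => ?_, ?_⟩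
  · simp only [List.mem_cons, List.not_mem_nil, or_false] at hw
    rcases hw with rfl | rfl | rfl | rfl | rfl | rfl <;> first | exact hz _ | exact hy _
  · have hp : [z 0, z 1, z 2, y 2, y 1, y 0].prod = (z 0 * z 1 * z 2) * (y 2 * y 1 * y 0) := by simp [mul_assoc]
    rw [hp, hzy]
    have hE := h.cls.1
    calc a * (y 0 * y 1 * y 2) * (y 2 * y 1 * y 0) = a * (y 0 * (y 1 * ((y 2 * y 2) * y 1)) * y 0) := by
          simp only [mul_assoc]
      _ = a := by rw [sq_eq_one hE (hy 2).1, one_mul, sq_eq_one hE (hy 1).1, mul_one, sq_eq_one hE (hy 0).1, mul_one]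

theorem commutator_closure_perp {a : G} (ha : a ∈ D) : commutator ↥(closure (perp D a)) = ⊤ := by
  obtain ⟨l5, hl5, hm5, -, hp5⟩ := h.exists_five ha
  obtain ⟨l6, hl6, hm6, hp6⟩ := h.exists_six_prod ha
  set K := closure (perp D a)
  let π := QuotientGroup.mk' (commutator ↥K)
  let ι : {y // y ∈ perp D a} → ↥K := fun y => ⟨y.1, subset_closure y.2⟩
  have hconst : ∀ y z, π (ι y) = π (ι z) := by
    intro y z
    obtain ⟨g, hg, hgy⟩ := h.exists_pair.perp_transitive ha y.2 z.2
    show (QuotientGroup.mk (ι y) : ↥K ⧸ commutator ↥K) = QuotientGroup.mk (ι z)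
    refine QuotientGroup.eq.2 ?_
    have e : ι z = ⟨g, hg⟩ * ι y * (⟨g, hg⟩)⁻¹ := Subtype.ext hgy.symm
    rw [e, show (ι y)⁻¹ * (⟨g, hg⟩ * ι y * (⟨g, hg⟩)⁻¹) = ⁅(ι y)⁻¹, (⟨g, hg⟩ : ↥K)⁆ by
      rw [commutatorElement_def]; group]
    rw [commutator_def]
    exact commutator_mem_commutator (mem_top _) (mem_top _)
  have hpow : ∀ (y : {y // y ∈ perp D a}) (l : List G) (hl : ∀ z ∈ l, z ∈ perp D a),
      π ((l.pmap (fun z hz => ι ⟨z, hz⟩) hl).prod) = π (ι y) ^ l.length := by
    intro y l
    induction l with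
    | nil => intro _; simp
    | cons z t ih =>
      intro hl
      rw [List.pmap_cons, List.prod_cons, map_mul, ih, List.length_cons, hconst _ y, pow_succ']
  have hval : ∀ (l : List G) (hl : ∀ z ∈ l, z ∈ perp D a), (((l.pmap (fun z hz => ι ⟨z, hz⟩) hl).prod : ↥K) : G) = l.prod :=
    fun l hl => by rw [SubmonoidClass.coe_list_prod]; simp [ι, List.map_pmap]
  rw [eq_top_iff, ← closure_perp_eq_top (D := D) a, closure_le]
  intro y hy
  let y' : {y // y ∈ perp D a} := ⟨(y : G), hy⟩
  have e : (l5.pmap (fun z hz => ι ⟨z, hz⟩) hm5).prod = (l6.pmap (fun z hz => ι ⟨z, hz⟩) hm6).prod :=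
    Subtype.ext (by rw [hval, hval, hp5, hp6])
  have e2 := congrArg π e
  rw [hpow y' l5 hm5, hpow y' l6 hm6, hl5, hl6, pow_succ _ 5] at e2
  have e3 : π (ι y') = 1 := mul_eq_left.1 e2.symm
  exact (QuotientGroup.eq_one_iff (ι y')).1 e3

theorem commutator_eq_top : commutator G = ⊤ := by
  rw [eq_top_iff, ← h.cls.2.2, closure_le]
  intro a ha
  have := Subgroup.mem_map_of_mem (closure (perp D a)).subtype
    (show (⟨a, h.self_mem ha⟩ : ↥(closure (perp D a))) ∈ commutator _ from h.commutator_closure_perp ha ▸ mem_top _)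
  rw [commutator_def, map_commutator] at this
  rw [commutator_def]
  exact commutator_mono le_top le_top this

/-- At most twenty-one pairwise commuting members of a neighbourhood, and twenty-one occur. -/
theorem clique_perp {a : G} (ha : a ∈ D) :
    (∀ E ⊆ perp D a, (∀ x ∈ E, ∀ y ∈ E, Commute x y) → E.ncard ≤ 21) ∧
      ∃ E ⊆ perp D a, (∀ x ∈ E, ∀ y ∈ E, Commute x y) ∧ E.ncard = 21 := by
  classical
  obtain ⟨F, _, _, H, π, vec, hM⟩ := h.exists_model ha
  have hS := hM.six
  haveI := hS.fd
  have hbil : ∀ S : Set (Fin 6 → F), (∀ v ∈ S, ∀ w ∈ S, H.h v w = 0) →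
      ∀ v ∈ Submodule.span F S, ∀ w ∈ Submodule.span F S, H.h v w = 0 := by
    intro S hS' v hv w hw
    induction hv, hw using Submodule.span_induction₂ with
    | mem_mem x y hx hy => exact hS' x hx y hy
    | zero_left y _ => exact H.zero_left y
    | zero_right x _ => exact H.zero_right x
    | add_left x y z _ _ _ h1 h2 => rw [H.add_left, h1, h2, add_zero]
    | add_right x y z _ _ _ h1 h2 => rw [H.add_right, h1, h2, add_zero]
    | smul_left r x y _ _ h1 => rw [H.smul_left, h1, mul_zero]
    | smul_right r x y _ _ h1 => rw [H.smul_right, h1, mul_zero]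
  have hcount : ∀ W : Submodule F (Fin 6 → F), (∀ v ∈ W, H.h v v = 0) →
      3 * ({x : G | x ∈ perp D a ∧ vec x ∈ W}).ncard + 1 = 4 ^ Module.finrank F W := by
    intro W hW
    rw [hM.card_points h ha (fun v => v ∈ W) (fun c v hc => W.smul_mem_iff hc) W.zero_mem,
      show {v | H.h v v = 0 ∧ v ∈ W} = (W : Set (Fin 6 → F)) from Set.ext fun v => ⟨fun h => h.2, fun h => ⟨hW v h, h⟩⟩,
      ← Nat.card_coe_set_eq, ← hM.four]
    exact Module.natCard_eq_pow_finrank (K := F) (V := W)
  constructor
  · intro E hE hEc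
    set W := Submodule.span F (vec '' E)
    have hiso := hbil (vec '' E) (by
      rintro _ ⟨x, hx, rfl⟩ _ ⟨y, hy, rfl⟩
      exact (hM.comm_iff h ha (hE hx) (hE hy)).1 (hEc x hx y hy))
    have hle : W ≤ H.orth W := fun v hv w hw => hiso v hv w hw
    have h3 : Module.finrank F W ≤ 3 := by
      have := Submodule.finrank_mono hle
      rw [H.finrank_orth, hS.dim] at this
      omega
    have hsub : E ⊆ {x : G | x ∈ perp D a ∧ vec x ∈ W} := fun x hx =>
      ⟨hE hx, Submodule.subset_span ⟨x, hx, rfl⟩⟩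
    have h4 := hcount W fun v hv => hiso v hv v hv
    have h5 := Set.ncard_le_ncard hsub (Set.toFinite _)
    have h6 : 4 ^ Module.finrank F W ≤ 4 ^ 3 := Nat.pow_le_pow_right (by norm_num) h3
    omega
  · obtain ⟨e, he, hind⟩ := hS.exists_lagrange
    set W := Submodule.span F (Set.range e)
    have hiso := hbil (Set.range e) (by rintro _ ⟨i, rfl⟩ _ ⟨j, rfl⟩; exact he i j)
    refine ⟨{x : G | x ∈ perp D a ∧ vec x ∈ W}, fun x hx => hx.1,
      fun x hx y hy => (hM.comm_iff h ha hx.1 hy.1).2 (hiso _ hx.2 _ hy.2), ?_⟩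
    have hli : LinearIndependent F e := Fintype.linearIndependent_iff.2 fun c hc i => by
      rw [Fin.sum_univ_three] at hc
      exact congrFun (hind c hc) i
    have := hcount W fun v hv => hiso v hv v hv
    rw [finrank_span_eq_card hli, Fintype.card_fin] at this
    omega

theorem width {a : G} (ha : a ∈ D) : Cfsg.commutingWidth D = 22 := by
  obtain ⟨hup, E, hE, hEc, hE21⟩ := h.clique_perp ha
  refine le_antisymm (csSup_le' ?_) (le_csSup ⟨Nat.card G, ?_⟩ ?_)
  · rintro n ⟨E', hE', -, hc, rfl⟩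
    rcases E'.eq_empty_or_nonempty with rfl | ⟨x, hx⟩
    · simp
    have hsub : E' \ {x} ⊆ perp D x := fun y hy => ⟨hE' hy.1, hy.2, hc x hx y hy.1⟩
    have h21 := (h.clique_perp (hE' hx)).1 (E' \ {x}) hsub fun y hy z hz => hc y hy.1 z hz.1
    rw [Set.ncard_sdiff_singleton_of_mem hx] at h21
    omega
  · rintro n ⟨E', -, -, -, rfl⟩
    exact Set.ncard_le_card E'
  · refine ⟨insert a E, Set.insert_subset ha fun x hx => (hE hx).1, Set.toFinite _, ?_, ?_⟩
    · rintro x (rfl | hx) y (rfl | hy)
      exacts [Commute.refl _, (hE hy).2.2, (hE hx).2.2.symm, hEc x hx y hy]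
    · rw [Set.ncard_insert_of_notMem (fun hh => (hE hh).2.1 rfl) (Set.toFinite _), hE21]

end M22

end Cfsg.Lib.ThreeTr
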