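import Cfsg.Agent.ThreeTransposition.M22Count.Triples
import Cfsg.Agent.S5361
import Cfsg.Agent.S0111

/-!
In a group of type M(22) every involution is a product of at most three commuting members of the class, and the
number of factors is determined by the involution.
-/

set_option autoImplicit false
set_option linter.unusedSectionVars false
set_option linter.style.haveILetI false

namespace Cfsg.Lib.ThreeTr

open Cfsg Subgroup Cfsg.Lib.Classical Cfsg.Lib.TTUnitary

attribute [local instance] _root_.Classical.propDecidable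

universe u v

namespace IsSixSpace

variable {F : Type u} [Field F] {V : Type v} [AddCommGroup V] [Module F V] {H : HermSpace F V}
  (hS : IsSixSpace H)
include hS

/-- Involutions are products of transvections at orthogonal vectors. -/
theorem involution_prod [Finite F] : ∀ (n : ℕ) (W : Submodule F V) (T : H.SIsom),
    Module.finrank F W ≤ n → (∀ v ∈ W, ∀ w ∈ W, H.h v w = 0) → T * T = 1 → (∀ x, T.1.1 x + x ∈ W) →
    ∃ L : List V, L.length ≤ n ∧ (∀ u ∈ L, u ∈ W ∧ u ≠ 0) ∧
      T = (L.map fun u => TTUnitary.tv hS.toFour u).prod := by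
  haveI := hS.fd
  have hq := hS.toFour
  intro n
  induction n with
  | zero =>
    intro W T hW _ _ hTW
    refine ⟨[], le_rfl, by simp, H.sisom_ext fun x => ?_⟩
    have : T.1.1 x + x ∈ (⊥ : Submodule F V) := Submodule.finrank_eq_zero.1 (Nat.le_zero.1 hW) ▸ hTW x
    rw [List.map_nil, List.prod_nil]
    exact hq.eq_of_vadd ((Submodule.mem_bot F).1 this)
  | succ n ih =>
    intro W T hW hWiso hT hTW
    by_cases hT1 : T = 1
    · exact ⟨[], Nat.zero_le _, by simp, by simp [hT1]⟩
    have hTT : ∀ x, T.1.1 (T.1.1 x) = x := fun x => by rw [← HermSpace.smul_mul_apply, hT]; rfl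
    have hTs : ∀ x y, H.h (T.1.1 x) y = H.h x (T.1.1 y) := fun x y => by
      conv_lhs => rw [← hTT y]
      exact H.map_form T.1 x (T.1.1 y)
    let N : V → V := fun x => T.1.1 x + x
    have hN : ∀ x, N x = T.1.1 x + x := fun _ => rfl
    have hTN : ∀ x, T.1.1 x = N x + x := fun x => (hq.vadd_cancel _ _).symm
    have hBs : ∀ x y, H.h (N x) y = H.h x (N y) := fun x y => by simp only [hN, H.add_left, H.add_right, hTs]
    obtain ⟨θ, hθ⟩ := H.conj.exists_trace_one
    obtain ⟨x₁, hx₁⟩ : ∃ x, H.h (N x) x ≠ 0 := by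
      by_contra hc
      push Not at hc
      refine hT1 (H.sisom_ext fun x => ?_)
      show T.1.1 x = x
      suffices N x = 0 from hq.eq_of_vadd this
      by_contra hNx
      obtain ⟨w, hw⟩ := H.exists_partner hNx
      have e1 : H.h x (N w) = 1 := (hBs x w).symm.trans hw
      have e2 : H.h (N w) x = 1 := by rw [H.symm, e1, map_one]
      have hNadd : N (θ • x + w) = θ • N x + N w := by simp only [hN, map_add, map_smul, smul_add]; abel
      have := hc (θ • x + w)
      rw [hNadd] at this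
      simp only [H.add_left, H.add_right, H.smul_left, H.smul_right, hc x, hc w, hw, e2, mul_zero, zero_add,
        add_zero, mul_one] at this
      exact one_ne_zero (show (1 : F) = 0 by linear_combination this - hθ)
    have hfix : H.σ (H.h (N x₁) x₁) = H.h (N x₁) x₁ := by rw [← H.symm, ← hBs]
    have hx1 : H.h (N x₁) x₁ = 1 := (hq.fixed_cases hfix).resolve_left hx₁
    set a := N x₁ with hadef
    have haW : a ∈ W := hTW x₁
    have haa : H.h a a = 0 := hWiso a haW a haW
    have ha0 : a ≠ 0 := fun e => by rw [e, H.zero_left] at hx1; exact zero_ne_one hx1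
    set T' := T * TTUnitary.tv hq a with hT'def
    have hTa : T.1.1 a = a := by
      rw [hadef, hN, map_add, hTT, add_comm]
    have hcom : Commute T (TTUnitary.tv hq a) := tv_commute_of_fix hq T haa hTa
    have hT' : T' * T' = 1 := by
      rw [hT'def, hcom.symm.mul_mul_mul_comm T (TTUnitary.tv hq a), hT, tv_sq hq haa, one_mul]
    set W' := W ⊓ H.orth (Submodule.span F ({x₁} : Set V)) with hW'
    have hlt : Module.finrank F W' < Module.finrank F W := Submodule.finrank_lt_finrank_of_lt <| by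
      refine lt_of_le_of_ne inf_le_left fun e => ?_
      have : a ∈ H.orth (Submodule.span F ({x₁} : Set V)) := (e.symm ▸ haW : a ∈ W').2
      rw [this x₁ (Submodule.mem_span_singleton_self x₁)] at hx1
      exact zero_ne_one hx1
    have hT'W : ∀ x, T'.1.1 x + x ∈ W' := by
      intro x
      have e : T'.1.1 x + x = N x + H.h x a • a := by
        rw [hT'def, HermSpace.smul_mul_apply, TTUnitary.tv_apply hq haa, map_add, map_smul, hTa, hN]
        abel
      rw [e]
      refine ⟨W.add_mem (hTW x) (W.smul_mem _ haW), ?_⟩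
      rw [SetLike.mem_coe, H.mem_orth_span]
      intro w hw
      rw [Set.mem_singleton_iff.1 hw, H.add_left, H.smul_left, hx1, mul_one, hBs, ← hadef]
      exact hS.add_self _
    obtain ⟨L, hL, hLW, hLT⟩ := ih W' T' (by omega) (fun v hv w hw => hWiso v hv.1 w hw.1) hT' hT'W
    refine ⟨L ++ [a], by simp only [List.length_append, List.length_singleton]; omega, ?_, ?_⟩
    · intro u hu
      rcases List.mem_append.1 hu with hu | hu
      · exact ⟨(hLW u hu).1.1, (hLW u hu).2⟩
      · rw [List.mem_singleton.1 hu]; exact ⟨haW, ha0⟩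
    · rw [List.map_append, List.prod_append, ← hLT, List.map_singleton, List.prod_singleton, hT'def, mul_assoc,
        tv_sq hq haa, mul_one]

theorem involution_prod_three [Finite F] {T : H.SIsom} (hT : T * T = 1) :
    ∃ L : List V, L.length ≤ 3 ∧ (∀ u ∈ L, H.h u u = 0 ∧ u ≠ 0) ∧ (∀ u ∈ L, ∀ w ∈ L, H.h u w = 0) ∧
      T = (L.map fun u => TTUnitary.tv hS.toFour u).prod := by
  haveI := hS.fd
  have hTT : ∀ x, T.1.1 (T.1.1 x) = x := fun x => by rw [← HermSpace.smul_mul_apply, hT]; rfl
  have hTs : ∀ x y, H.h (T.1.1 x) y = H.h x (T.1.1 y) := fun x y => by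
    conv_lhs => rw [← hTT y]
    exact H.map_form T.1 x (T.1.1 y)
  set W := LinearMap.range (T.1.1.toLinearMap + LinearMap.id)
  have hiso : ∀ v ∈ W, ∀ w ∈ W, H.h v w = 0 := by
    rintro _ ⟨x, rfl⟩ _ ⟨y, rfl⟩
    simp only [LinearMap.add_apply, LinearEquiv.coe_coe, LinearMap.id_apply, H.add_left, H.add_right, H.map_form,
      hTs]
    linear_combination (H.h x y + H.h x (T.1.1 y)) * hS.two
  have h3 : Module.finrank F W ≤ 3 := by
    have := Submodule.finrank_mono (show W ≤ H.orth W from fun v hv w hw => hiso v hv w hw)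
    rw [H.finrank_orth, hS.dim] at this
    omega
  obtain ⟨L, hL, hLW, hLT⟩ := hS.involution_prod 3 W T h3 hiso hT fun x => ⟨x, rfl⟩
  exact ⟨L, hL, fun u hu => ⟨hiso u (hLW u hu).1 u (hLW u hu).1, (hLW u hu).2⟩,
    fun u hu w hw => hiso u (hLW u hu).1 w (hLW w hw).1, hLT⟩

end IsSixSpace

variable {G : Type u} [Group G] {D : Set G}

theorem reduce_dup (hE : IsThreeTranspositionSet D) : ∀ (n : ℕ) (l : List G), l.length ≤ n → (∀ x ∈ l, x ∈ D) →
    (∀ x ∈ l, ∀ y ∈ l, Commute x y) →
    ∃ m : List G, m.Nodup ∧ m.length ≤ l.length ∧ (∀ x ∈ m, x ∈ D) ∧ (∀ x ∈ m, ∀ y ∈ m, Commute x y) ∧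
      m.prod = l.prod := by
  intro n
  induction n with
  | zero =>
    intro l hl _ _
    rw [List.eq_nil_of_length_eq_zero (Nat.le_zero.1 hl)]
    exact ⟨[], List.nodup_nil, le_rfl, by simp, by simp, rfl⟩
  | succ n ih =>
    intro l hl hD hc
    by_cases hn : l.Nodup
    · exact ⟨l, hn, le_rfl, hD, hc, rfl⟩
    obtain ⟨a, ha⟩ : ∃ a, [a, a].Sublist l := by
      simpa [List.nodup_iff_sublist] using hn
    obtain ⟨rest, hperm⟩ : ∃ rest, (a :: a :: rest).Perm l := by
      exact ⟨l.diff [a, a], List.subperm_append_diff_self_of_count_le (List.subperm_ext_iff.1 ha.subperm)⟩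
    have hmem : ∀ x ∈ rest, x ∈ l := fun x hx =>
      hperm.subset (List.mem_cons_of_mem _ (List.mem_cons_of_mem _ hx))
    have hlen := hperm.length_eq
    simp only [List.length_cons] at hlen
    obtain ⟨m, hm, hml, hmD, hmc, hmp⟩ := ih rest (by omega) (fun x hx => hD x (hmem x hx))
      (fun x hx y hy => hc x (hmem x hx) y (hmem y hy))
    refine ⟨m, hm, by omega, hmD, hmc, hmp.trans ?_⟩
    have hpw : (a :: a :: rest).Pairwise Commute := List.pairwise_of_forall_mem_list fun x hx y hy =>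
      hc x (hperm.subset hx) y (hperm.subset hy)
    rw [← hperm.prod_eq' hpw, List.prod_cons, List.prod_cons, ← mul_assoc,
      sq_eq_one hE (hD a (hperm.subset List.mem_cons_self)), one_mul]

namespace M22

variable [Finite G] (h : M22 D)
include h

theorem isSimple : IsSimpleGroup G := by
  have hs := ((Cfsg.Agent.S5361.result h.cls h.center_eq h.exists_pair.pair).1).2 h.prim
  rw [h.commutator_eq_top] at hs
  haveI := hs
  haveI := hs.toNontrivial
  haveI : Nontrivial G := Subgroup.topEquiv.symm.toEquiv.nontrivial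
  exact IsSimpleGroup.isSimpleGroup_of_surjective (Subgroup.topEquiv (G := G)).toMonoidHom Subgroup.topEquiv.surjective

/-- A product of four members reduces to fewer. -/
theorem four_to_three {a b c e : G} (hn : [a, b, c, e].Nodup) (hD : ∀ x ∈ [a, b, c, e], x ∈ D)
    (hcm : ∀ x ∈ [a, b, c, e], ∀ y ∈ [a, b, c, e], Commute x y) :
    ∃ m : List G, m.length ≤ 3 ∧ (∀ x ∈ m, x ∈ D) ∧ (∀ x ∈ m, ∀ y ∈ m, Commute x y) ∧
      m.prod = [a, b, c, e].prod := by
  have hE := h.cls.1
  have ha := hD a (by simp)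
  have hperp : ∀ x ∈ [b, c, e], x ∈ perp D a := fun x hx =>
    ⟨hD x (List.mem_cons_of_mem _ hx), fun e' => (List.nodup_cons.1 hn).1 (e' ▸ hx),
      hcm a (by simp) x (List.mem_cons_of_mem _ hx)⟩
  have hb := hperp b (by simp)
  have hc := hperp c (by simp)
  have he := hperp e (by simp)
  obtain ⟨⟨hab, hac, hae⟩, ⟨hbc, hbe⟩, hce⟩ : (a ≠ b ∧ a ≠ c ∧ a ≠ e) ∧ (b ≠ c ∧ b ≠ e) ∧ c ≠ e := by simpa using hn
  obtain ⟨F, _, _, H, π, vec, hM⟩ := h.exists_model ha
  let y : Fin 3 → G := ![b, c, e]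
  have hy : ∀ i, y i ∈ perp D a := fun i => by fin_cases i <;> assumption
  have hyc : ∀ i j, Commute (y i) (y j) := fun i j =>
    hcm _ (by fin_cases i <;> simp [y]) _ (by fin_cases j <;> simp [y])
  by_cases hind : ∀ t : Fin 3 → F, t 0 • vec (y 0) + t 1 • vec (y 1) + t 2 • vec (y 2) = 0 → t = 0
  · obtain ⟨z, hz, hzc, hzy⟩ := h.other_triple ha hM hy hyc hind
    refine ⟨[z 0, z 1, z 2], le_rfl, ?_, ?_, ?_⟩
    · intro x hx
      simp only [List.mem_cons, List.not_mem_nil, or_false] at hx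
      rcases hx with rfl | rfl | rfl <;> exact (hz _).1
    · intro x hx w hw
      simp only [List.mem_cons, List.not_mem_nil, or_false] at hx hw
      rcases hx with rfl | rfl | rfl <;> rcases hw with rfl | rfl | rfl <;> exact hzc _ _
    · simp only [List.prod_cons, List.prod_nil, mul_one, ← mul_assoc]
      rw [hzy]; simp [y, mul_assoc]
  push Not at hind
  obtain ⟨t, ht, ht0⟩ := hind
  have ht2 : t 2 ≠ 0 := by
    intro h2
    simp only [y, Matrix.cons_val_zero, Matrix.cons_val_one, Matrix.cons_val, h2, zero_smul, add_zero] at ht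
    by_cases h1 : t 1 = 0
    · rw [h1, zero_smul, add_zero, smul_eq_zero] at ht
      exact ht0 (funext fun i => by fin_cases i <;> simp [h1, h2, ht.resolve_right (hM.vec_ne b hb)])
    · refine hbc (hM.eq_of_prop h ha hc hb (a := -(t 1)⁻¹ * t 0) ?_).symm
      have e := congrArg (fun v => (t 1)⁻¹ • v) (eq_neg_of_add_eq_zero_right ht)
      simp only [smul_neg, smul_smul, inv_mul_cancel₀ h1, one_smul] at e
      rw [e, neg_mul, neg_smul]
  have het : e ∈ tperp D a b c := by
    refine ⟨he.1, fun f hf h1 h2 h3 => ?_⟩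
    by_cases hfa : f = a
    · rw [hfa]; exact he.2.2
    refine (hM.comm_iff h ha ⟨hf, hfa, h1.symm⟩ he).2 ?_
    have hfb := (hM.comm_iff h ha ⟨hf, hfa, h1.symm⟩ hb).1 h2
    have hfc := (hM.comm_iff h ha ⟨hf, hfa, h1.symm⟩ hc).1 h3
    have := congrArg (fun v => H.h (vec f) v) ht
    simp only [y, Matrix.cons_val_zero, Matrix.cons_val_one, Matrix.cons_val, H.add_right, H.smul_right, hfb, hfc,
      mul_zero, zero_add, H.zero_right, mul_eq_zero] at this
    exact this.resolve_left fun e' => ht2 (H.conj.eq_zero.mp e')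
  obtain ⟨p, q, r, hnd, hcomm, hmem, hprod, hall⟩ := m22_hexad h.cls h.prim h.twin h.type ha hb.1 hc.1 hab hac hbc
    hb.2.2 hc.2.2 (hcm b (by simp) c (by simp))
  have he6 := hall e het
  simp only [List.mem_cons, List.not_mem_nil, or_false] at he6
  obtain ⟨u, w, hsub, hpe⟩ : ∃ u w, [e, u, w].Perm [p, q, r] ∧ True := by
    rcases he6 with r' | r' | r' | r' | r' | r'
    · exact absurd r'.symm hae
    · exact absurd r'.symm hbe
    · exact absurd r'.symm hce
    · exact ⟨q, r, r' ▸ List.Perm.refl _, trivial⟩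
    · exact ⟨p, r, r' ▸ List.Perm.swap _ _ _, trivial⟩
    · exact ⟨p, q, r' ▸ (List.perm_append_comm : ([r] ++ [p, q]).Perm ([p, q] ++ [r])), trivial⟩
  have hp3 : ([a, b, c] ++ [e, u, w]).Perm ([a, b, c] ++ [p, q, r]) := hsub.append_left _
  refine ⟨[w, u], by simp, ?_, ?_, ?_⟩
  · intro x hx
    refine hmem x (hp3.subset ?_)
    simp only [List.mem_cons, List.not_mem_nil, or_false] at hx
    rcases hx with rfl | rfl <;> simp
  · intro x hx z hz
    simp only [List.mem_cons, List.not_mem_nil, or_false] at hx hz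
    refine hcomm x (hp3.subset ?_) z (hp3.subset ?_)
    · rcases hx with rfl | rfl <;> simp
    · rcases hz with rfl | rfl <;> simp
  · have e6 : ([a, b, c] ++ [e, u, w]).prod = 1 := by
      rw [hp3.prod_eq' (List.pairwise_of_forall_mem_list fun x hx y hy => hcomm x (hp3.subset hx) y (hp3.subset hy))]
      exact hprod
    have hu : u ∈ D := hmem u (hp3.subset (by simp))
    have hw : w ∈ D := hmem w (hp3.subset (by simp))
    have e7 : [a, b, c, e].prod * (u * w) = 1 := by rw [← e6]; simp [mul_assoc]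
    rw [eq_inv_of_mul_eq_one_left e7, mul_inv_rev, inv_eq hE hu, inv_eq hE hw]
    simp

/-- The involutions of the centraliser of a member. -/
theorem involution_in_centraliser {a x : G} (ha : a ∈ D) (hx : x ∈ closure (perp D a)) (hx2 : orderOf x = 2) :
    ∃ l : List G, l.Nodup ∧ 1 ≤ l.length ∧ l.length ≤ 3 ∧ (∀ y ∈ l, y ∈ D) ∧ (∀ y ∈ l, ∀ z ∈ l, Commute y z) ∧
      l.prod = x := by
  have hxx : x * x = 1 := mul_self_of_orderOf_two hx2
  have hx1 : x ≠ 1 := fun e => by rw [e, orderOf_one] at hx2; norm_num at hx2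
  obtain ⟨F, _, _, H, π, vec, hM⟩ := h.exists_model ha
  have hS := hM.six
  haveI := hS.fd
  set X : ↥(closure (perp D a)) := ⟨x, hx⟩
  obtain ⟨T₀, hT₀⟩ := hM.surj (QuotientGroup.mk X)
  have hX2 : X ^ 2 = 1 := Subtype.ext (by simpa [sq, X] using hxx)
  have hz : T₀ ^ 2 ∈ center H.SIsom := by
    rw [← hM.ker, MonoidHom.mem_ker, map_pow, hT₀, ← QuotientGroup.mk_pow, hX2, QuotientGroup.mk_one]
  obtain ⟨k, hk0, hk⟩ := hS.center_scalar hz
  obtain ⟨k', hk1, hk6, hkx⟩ := (H.mem_center_SIsom_iff (by rw [hS.dim]; norm_num)).1 hz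
  have hk3 : k' * k' * k' = 1 := by
    rw [hS.dim] at hk6
    have h3 : (k' * k' * k' + 1) * (k' * k' * k' + 1) = 0 := by
      linear_combination hk6 + (k' * k' * k' + 1) * hS.two
    linear_combination mul_self_eq_zero.mp h3 - hS.two
  set T := T₀ ^ 3 with hTdef
  have hT : T * T = 1 := by
    rw [hTdef, ← pow_add, show (3 + 3) = 2 * 3 by rfl, pow_mul]
    refine H.sisom_ext fun v => ?_
    simp only [pow_succ, pow_zero, one_mul, HermSpace.smul_mul_apply] at hkx ⊢
    simp only [hkx, map_smul, smul_smul]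
    rw [hk3, one_smul]
    rfl
  have hπT : π T = QuotientGroup.mk X := by
    rw [hTdef, map_pow, hT₀, ← QuotientGroup.mk_pow, pow_succ, hX2, one_mul]
  obtain ⟨L, hL, hLi, hLc, hLT⟩ := hS.involution_prod_three hT
  have hcov : ∀ u ∈ L, ∃ y ∈ perp D a, ∃ t : F, t ≠ 0 ∧ u = t • vec y := fun u hu =>
    hM.cover u (hLi u hu).2 (hLi u hu).1
  choose y hy t ht hyt using hcov
  let ls : List ↥(closure (perp D a)) := L.pmap (fun u hu => ⟨y u hu, subset_closure (hy u hu)⟩) fun _ hu => hu
  have hls : ∀ w ∈ ls, (w : G) ∈ perp D a := fun w hw => by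
    obtain ⟨u, hu, rfl⟩ := List.mem_pmap.1 hw
    exact hy u hu
  have hlsc : ∀ v ∈ ls, ∀ w ∈ ls, Commute (v : G) (w : G) := fun v hv w hw => by
    obtain ⟨u, hu, rfl⟩ := List.mem_pmap.1 hv
    obtain ⟨u', hu', rfl⟩ := List.mem_pmap.1 hw
    refine (hM.comm_iff h ha (hy u hu) (hy u' hu')).2 ?_
    have := hLc u hu u' hu'
    rw [hyt u hu, hyt u' hu', H.smul_left, H.smul_right, mul_eq_zero, or_iff_right (ht u hu), mul_eq_zero,
      or_iff_right (fun e => ht u' hu' (H.conj.eq_zero.mp e))] at this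
    exact this
  have hmk : (QuotientGroup.mk ls.prod : _ ⧸ center ↥(closure (perp D a))) = QuotientGroup.mk X := by
    rw [← hπT, hLT, map_list_prod, List.map_map]
    show QuotientGroup.mk' _ ls.prod = _
    rw [map_list_prod]
    congr 1
    simp only [ls, List.map_pmap]
    rw [← List.pmap_eq_map (p := fun u => u ∈ L) (H := fun _ hu => hu)]
    refine List.pmap_congr_left L fun u _ hu hu' => ?_
    show QuotientGroup.mk (⟨y u hu, _⟩ : ↥(closure (perp D a))) = π (TTUnitary.tv hS.toFour u)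
    have e : TTUnitary.tv hS.toFour u = hS.tv (hLi u hu).1 :=
      H.sisom_ext fun v => by rw [hS.tv_apply, TTUnitary.tv_apply _ (hLi u hu).1]
    rw [e, hM.img ⟨y u hu, subset_closure (hy u hu)⟩ (hy u hu) (hM.vec_iso _ (hy u hu))]
    exact ((hS.tv_image_eq_iff π hM.ker _ _ (hLi u hu).2).2 ⟨t u hu, ht u hu, hyt u hu⟩).symm
  have hc := QuotientGroup.eq.1 hmk
  have hlen : ls.length ≤ 3 := by simpa [ls] using hL
  set l₀ := ls.map Subtype.val with hl₀
  have hl₀D : ∀ w ∈ l₀, w ∈ perp D a := by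
    intro w hw
    obtain ⟨v, hv, rfl⟩ := List.mem_map.1 hw
    exact hls v hv
  have hl₀c : ∀ v ∈ l₀, ∀ w ∈ l₀, Commute v w := by
    intro v hv w hw
    obtain ⟨v', hv', rfl⟩ := List.mem_map.1 hv
    obtain ⟨w', hw', rfl⟩ := List.mem_map.1 hw
    exact hlsc v' hv' w' hw'
  obtain ⟨l, hl, hlD, hlc, hlp⟩ : ∃ l : List G, l.length ≤ 4 ∧ (∀ w ∈ l, w ∈ D) ∧
      (∀ v ∈ l, ∀ w ∈ l, Commute v w) ∧ l.prod = x := by
    have hval : ((ls.prod : ↥(closure (perp D a))) : G) = l₀.prod := SubmonoidClass.coe_list_prod ls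
    rcases h.eq_one_or_self ha (closure_perp_commute (SetLike.coe_mem (ls.prod⁻¹ * X))).symm
        (fun e he => congrArg Subtype.val (mem_center_iff.1 hc ⟨e, subset_closure he⟩)) with e | e
    · refine ⟨l₀, by simp [hl₀]; omega, fun w hw => (hl₀D w hw).1, hl₀c, ?_⟩
      rw [coe_mul, coe_inv, hval] at e
      exact inv_mul_eq_one.1 e
    · refine ⟨l₀ ++ [a], by simp [hl₀]; omega, ?_, ?_, ?_⟩
      · intro w hw
        rcases List.mem_append.1 hw with hw | hw
        · exact (hl₀D w hw).1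
        · rw [List.mem_singleton.1 hw]; exact ha
      · intro v hv w hw
        rcases List.mem_append.1 hv with hv | hv <;> rcases List.mem_append.1 hw with hw | hw
        · exact hl₀c v hv w hw
        · rw [List.mem_singleton.1 hw]; exact (hl₀D v hv).2.2.symm
        · rw [List.mem_singleton.1 hv]; exact (hl₀D w hw).2.2
        · rw [List.mem_singleton.1 hv, List.mem_singleton.1 hw]
      · rw [coe_mul, coe_inv, hval, inv_mul_eq_iff_eq_mul] at e
        rw [List.prod_append, List.prod_singleton]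
        exact e.symm
  have hfin : ∀ m : List G, m.Nodup → m.length ≤ 3 → (∀ w ∈ m, w ∈ D) → (∀ v ∈ m, ∀ w ∈ m, Commute v w) →
      m.prod = x → ∃ l : List G, l.Nodup ∧ 1 ≤ l.length ∧ l.length ≤ 3 ∧ (∀ y ∈ l, y ∈ D) ∧
        (∀ y ∈ l, ∀ z ∈ l, Commute y z) ∧ l.prod = x := by
    intro m hm hl hD hc' hp
    refine ⟨m, hm, List.length_pos_of_ne_nil fun e => hx1 ?_, hl, hD, hc', hp⟩
    rw [← hp, e, List.prod_nil]
  obtain ⟨m, hm, hml, hmD, hmc, hmp⟩ := reduce_dup h.cls.1 _ l le_rfl hlD hlc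
  by_cases hm3 : m.length ≤ 3
  · exact hfin m hm hm3 hmD hmc (hmp.trans hlp)
  obtain ⟨p, q, r, s, rfl⟩ : ∃ p q r s, m = [p, q, r, s] := by
    have : m.length = 4 := by omega
    match m, this with
    | [p, q, r, s], _ => exact ⟨p, q, r, s, rfl⟩
  obtain ⟨m', hm', hm'D, hm'c, hm'p⟩ := h.four_to_three hm hmD hmc
  obtain ⟨m'', hm'', hl'', hm''D, hm''c, hm''p⟩ := reduce_dup h.cls.1 _ m' le_rfl hm'D hm'c
  exact hfin m'' hm'' (hl''.trans hm') hm''D hm''c (hm''p.trans (hm'p.trans (hmp.trans hlp)))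

/-- Every involution is conjugate into the centraliser of a member. -/
theorem exists_conj_into {a x : G} (ha : a ∈ D) (hx : orderOf x = 2) : ∃ g : G, g * x * g⁻¹ ∈ closure (perp D a) := by
  haveI : Fact (Nat.Prime 2) := ⟨Nat.prime_two⟩
  haveI := h.isSimple
  set K := closure (perp D a)
  obtain ⟨M₀⟩ := Sylow.nonempty (p := 2) (G := ↥K)
  set M : Subgroup G := (M₀ : Subgroup ↥K).map K.subtype
  have hMK : M ≤ K := map_subtype_le _
  have f1 : Nat.factorization (Nat.card ↥K) 2 = 16 := by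
    rw [h.card_closure_perp ha, show (18393661440 : ℕ) = 2 ^ 16 * 280665 by norm_num,
      Nat.factorization_mul (by norm_num) (by norm_num), Finsupp.add_apply, Nat.Prime.factorization_pow Nat.prime_two,
      Finsupp.single_eq_same, Nat.factorization_eq_zero_of_not_dvd (by norm_num)]
  have f2 : Nat.factorization (Nat.card G) 2 = 17 := by
    rw [h.card_group ha, show (3510 * 18393661440 : ℕ) = 2 ^ 17 * (1755 * 280665) by norm_num,
      Nat.factorization_mul (by norm_num) (by norm_num), Finsupp.add_apply, Nat.Prime.factorization_pow Nat.prime_two,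
      Finsupp.single_eq_same, Nat.factorization_eq_zero_of_not_dvd (by norm_num)]
  have hMcard : Nat.card ↥M = 2 ^ 16 := by
    rw [Subgroup.card_subtype, Sylow.card_eq_multiplicity, f1]
  obtain ⟨P, hP⟩ := (IsPGroup.of_card hMcard).exists_le_sylow
  have hrel : M.relIndex (P : Subgroup G) = 2 := by
    have h1 := Subgroup.relIndex_mul_relIndex (⊥ : Subgroup G) M (P : Subgroup G) bot_le hP
    rw [relIndex_bot_left, relIndex_bot_left, hMcard, Sylow.card_eq_multiplicity, f2] at h1
    omega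
  obtain ⟨Q, hQ⟩ := (IsPGroup.of_card (p := 2) (n := 1) (by rw [Nat.card_zpowers, hx, pow_one] :
    Nat.card ↥(zpowers x) = 2 ^ 1)).exists_le_sylow
  obtain ⟨g, hg⟩ := MulAction.exists_smul_eq G Q P
  have hxP : g * x * g⁻¹ ∈ (P : Subgroup G) := by
    rw [← hg, Sylow.coe_subgroup_smul]
    exact ⟨x, hQ (mem_zpowers x), by simp⟩
  by_cases hxM : g * x * g⁻¹ ∈ M
  · exact ⟨g, hMK hxM⟩
  rcases Cfsg.Agent.S0111.result P M hP hrel (g * x * g⁻¹) (by
      rw [← hx]; exact orderOf_injective (MulAut.conj g).toMonoidHom (MulAut.conj g).injective x) hxP hxM with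
    ⟨N, hN, hN2, hxN⟩ | ⟨g', hg'⟩
  · rcases IsSimpleGroup.eq_bot_or_eq_top_of_normal N hN with e | e
    · rw [e, index_bot, h.card_group ha] at hN2
      omega
    · exact absurd (e ▸ mem_top _) hxN
  · exact ⟨g' * g, by rw [show g' * g * x * (g' * g)⁻¹ = g' * (g * x * g⁻¹) * g'⁻¹ by group]; exact hMK hg'⟩

/-- Three classes of involutions. -/
theorem involution_form {x : G} (hx : orderOf x = 2) :
    ∃ l : List G, l.Nodup ∧ 1 ≤ l.length ∧ l.length ≤ 3 ∧ (∀ y ∈ l, y ∈ D) ∧ (∀ y ∈ l, ∀ z ∈ l, Commute y z) ∧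
      l.prod = x := by
  obtain ⟨a, ha, -⟩ := h.type.2
  obtain ⟨g, hg⟩ := h.exists_conj_into ha hx
  obtain ⟨l, hn, h1, h3, hD, hc, hp⟩ := h.involution_in_centraliser ha hg (by
    rw [← hx]; exact orderOf_injective (MulAut.conj g).toMonoidHom (MulAut.conj g).injective x)
  refine ⟨l.map (MulAut.conj g⁻¹).toMonoidHom, hn.map (MulAut.conj g⁻¹).injective, by simpa using h1, by simpa using h3,
    ?_, ?_, ?_⟩
  · intro y hy
    obtain ⟨z, hz, rfl⟩ := List.mem_map.1 hy
    simpa using conj_mem h.cls g⁻¹ (hD z hz)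
  · intro y hy z hz
    obtain ⟨y', hy', rfl⟩ := List.mem_map.1 hy
    obtain ⟨z', hz', rfl⟩ := List.mem_map.1 hz
    exact (hc y' hy' z' hz').map _
  · rw [← map_list_prod, hp]
    simp [mul_assoc]

/-- The number of members commuting with a product of one, two or three commuting members. -/
theorem comm_count {l : List G} (hn : l.Nodup) (hD : ∀ y ∈ l, y ∈ D) (hc : ∀ y ∈ l, ∀ z ∈ l, Commute y z)
    (h1 : 1 ≤ l.length) (h3 : l.length ≤ 3) :
    ((mem' D).filter fun e => Commute e l.prod).card =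
      if l.length = 1 then 694 else if l.length = 2 then 182 else 54 := by
  have hE := h.cls.1
  match l, h1, h3 with
  | [a], _, _ => simpa using h.card_comm (hD a (by simp))
  | [a, b], _, _ =>
    have hab : a ≠ b := by simpa using hn
    have ha := hD a (by simp); have hb := hD b (by simp)
    have cab := hc a (by simp) b (by simp)
    have e : (mem' D).filter (fun e => Commute e [a, b].prod) = insert a ((nb D a).filter fun e => Commute e b) := by
      ext e
      simp only [List.prod_cons, List.prod_nil, mul_one, Finset.mem_filter, mem_mem', Finset.mem_insert, mem_nb]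
      constructor
      · rintro ⟨he, hep⟩
        obtain ⟨k1, k2⟩ := (commute_pair_iff hE ha hb he hab cab).1 hep
        by_cases e' : e = a
        · exact Or.inl e'
        · exact Or.inr ⟨⟨he, e', k1.symm⟩, k2⟩
      · rintro (rfl | ⟨he, heb⟩)
        · exact ⟨ha, (Commute.refl e).mul_right cab⟩
        · exact ⟨he.1, he.2.2.symm.mul_right heb⟩
    rw [e, Finset.card_insert_of_notMem (fun hh => (mem_nb.1 (Finset.mem_filter.1 hh).1).2.1 rfl),
      h.nb_one ha ⟨hb, hab.symm, cab⟩]
    rfl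
  | [a, b, c], _, _ =>
    obtain ⟨⟨hab, hac⟩, hbc⟩ : (a ≠ b ∧ a ≠ c) ∧ b ≠ c := by simpa using hn
    have ha := hD a (by simp); have hb := hD b (by simp); have hc' := hD c (by simp)
    have cab := hc a (by simp) b (by simp)
    have cac := hc a (by simp) c (by simp)
    have cbc := hc b (by simp) c (by simp)
    have e : (mem' D).filter (fun e => Commute e [a, b, c].prod) =
        insert a ((nb D a).filter fun e => Commute e b ∧ Commute e c) := by
      ext e
      simp only [List.prod_cons, List.prod_nil, mul_one, ← mul_assoc, Finset.mem_filter, mem_mem', Finset.mem_insert,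
        mem_nb]
      constructor
      · rintro ⟨he, hep⟩
        obtain ⟨k1, k2, k3⟩ := (commute_triple_iff hE ha hb hc' he hab hac hbc cab cac cbc).1 hep
        by_cases e' : e = a
        · exact Or.inl e'
        · exact Or.inr ⟨⟨he, e', k1.symm⟩, k2, k3⟩
      · rintro (rfl | ⟨he, heb, hec⟩)
        · exact ⟨ha, ((Commute.refl e).mul_right cab).mul_right cac⟩
        · exact ⟨he.1, (he.2.2.symm.mul_right heb).mul_right hec⟩
    rw [e, Finset.card_insert_of_notMem (fun hh => (mem_nb.1 (Finset.mem_filter.1 hh).1).2.1 rfl),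
      h.nb_two ha ⟨hb, hab.symm, cab⟩ ⟨hc', hac.symm, cac⟩ hbc cbc]
    rfl

theorem length_unique {l l' : List G} (hn : l.Nodup) (hD : ∀ y ∈ l, y ∈ D) (hc : ∀ y ∈ l, ∀ z ∈ l, Commute y z)
    (h1 : 1 ≤ l.length) (h3 : l.length ≤ 3) (hn' : l'.Nodup) (hD' : ∀ y ∈ l', y ∈ D)
    (hc' : ∀ y ∈ l', ∀ z ∈ l', Commute y z) (h1' : 1 ≤ l'.length) (h3' : l'.length ≤ 3) (hp : l.prod = l'.prod) :
    l.length = l'.length := by
  have e := h.comm_count hn hD hc h1 h3
  rw [hp, h.comm_count hn' hD' hc' h1' h3'] at e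
  split_ifs at e <;> omega

/-- Products of equally many commuting members are conjugate. -/
theorem prod_conj {l l' : List G} (hn : l.Nodup) (hD : ∀ y ∈ l, y ∈ D) (hc : ∀ y ∈ l, ∀ z ∈ l, Commute y z)
    (hn' : l'.Nodup) (hD' : ∀ y ∈ l', y ∈ D) (hc' : ∀ y ∈ l', ∀ z ∈ l', Commute y z) (h1 : 1 ≤ l.length)
    (h3 : l.length ≤ 3) (hlen : l'.length = l.length) : IsConj l.prod l'.prod := by
  match l, l', h1, h3, hlen with
  | [a], [a'], _, _, _ =>
    obtain ⟨g, hg⟩ := exists_conj h.cls (hD a (by simp)) (hD' a' (by simp))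
    exact isConj_iff.2 ⟨g, by simpa using hg⟩
  | [a, b], [a', b'], _, _, _ =>
    obtain ⟨g, rfl, rfl⟩ := h.pair_transitive (hD a (by simp))
      ⟨hD b (by simp), fun e => by simp [e] at hn, hc a (by simp) b (by simp)⟩ (hD' a' (by simp))
      ⟨hD' b' (by simp), fun e => by simp [e] at hn', hc' a' (by simp) b' (by simp)⟩
    exact isConj_iff.2 ⟨g, by simp only [List.prod_cons, List.prod_nil, mul_one]; group⟩
  | [a, b, c], [a', b', c'], _, _, _ =>
    obtain ⟨g, rfl, rfl, rfl⟩ := h.triple_transitive (hD a (by simp))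
      ⟨hD b (by simp), fun e => by simp [e] at hn, hc a (by simp) b (by simp)⟩
      ⟨hD c (by simp), fun e => by simp [e] at hn, hc a (by simp) c (by simp)⟩
      ⟨hD c (by simp), fun e => by simp [e] at hn, hc b (by simp) c (by simp)⟩ (hD' a' (by simp))
      ⟨hD' b' (by simp), fun e => by simp [e] at hn', hc' a' (by simp) b' (by simp)⟩
      ⟨hD' c' (by simp), fun e => by simp [e] at hn', hc' a' (by simp) c' (by simp)⟩
      ⟨hD' c' (by simp), fun e => by simp [e] at hn', hc' b' (by simp) c' (by simp)⟩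
    exact isConj_iff.2 ⟨g, by simp only [List.prod_cons, List.prod_nil, mul_one]; group⟩

theorem exists_prod (m : ℕ) (hm1 : 1 ≤ m) (hm3 : m ≤ 3) : ∃ l : List G, l.Nodup ∧ l.length = m ∧
    (∀ y ∈ l, y ∈ D) ∧ (∀ y ∈ l, ∀ z ∈ l, Commute y z) ∧ orderOf l.prod = 2 := by
  obtain ⟨a, ha, c₀, hc₀, hac₀, -⟩ := h.type.2
  obtain ⟨b, hb⟩ := Set.nonempty_of_ncard_ne_zero (s := perp D a) (by rw [h.ncard_perp ha]; norm_num)
  have h181 := h.ncard_one ha hb
  obtain ⟨c, hc, hcb⟩ := Set.exists_ne_of_one_lt_ncard (s := {y : G | y ∈ perp D a ∧ Commute y b}) (by omega) b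
  have hn3 : [a, b, c].Nodup := by simp [hb.2.1.symm, hc.1.2.1.symm, hcb.symm]
  have hD3 : ∀ y ∈ [a, b, c], y ∈ D := by
    intro y hy
    simp only [List.mem_cons, List.not_mem_nil, or_false] at hy
    rcases hy with rfl | rfl | rfl
    exacts [ha, hb.1, hc.1.1]
  have hc3 : ∀ y ∈ [a, b, c], ∀ z ∈ [a, b, c], Commute y z := by
    intro y hy z hz
    simp only [List.mem_cons, List.not_mem_nil, or_false] at hy hz
    rcases hy with rfl | rfl | rfl <;> rcases hz with rfl | rfl | rfl
    exacts [Commute.refl _, hb.2.2, hc.1.2.2, hb.2.2.symm, Commute.refl _, hc.2.symm, hc.1.2.2.symm, hc.2,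
      Commute.refl _]
  set l := [a, b, c].take m with hl
  have hsub : l.Sublist [a, b, c] := List.take_sublist m _
  have hlen : l.length = m := by simp [hl]; omega
  have hD := fun y hy => hD3 y (hsub.subset hy)
  have hc' := fun y hy z hz => hc3 y (hsub.subset hy) z (hsub.subset hz)
  refine ⟨l, hn3.sublist hsub, hlen, hD, hc', orderOf_eq_prime ?_ ?_⟩
  · rw [sq]
    obtain rfl | rfl | rfl : m = 1 ∨ m = 2 ∨ m = 3 := by omega
    all_goals simp only [hl, List.take_succ_cons, List.take_zero, List.prod_cons, List.prod_nil, mul_one]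
    · exact sq_eq_one h.cls.1 ha
    · rw [hb.2.2.symm.mul_mul_mul_comm a b, sq_eq_one h.cls.1 ha, sq_eq_one h.cls.1 hb.1, one_mul]
    · rw [show a * (b * c) * (a * (b * c)) = (a * b * c) * (a * b * c) by simp only [mul_assoc],
        ((hc.1.2.2.symm.mul_right hc.2) : Commute c (a * b)).mul_mul_mul_comm (a * b) c,
        hb.2.2.symm.mul_mul_mul_comm a b, sq_eq_one h.cls.1 ha, sq_eq_one h.cls.1 hb.1, sq_eq_one h.cls.1 hc.1.1,
        one_mul, one_mul]
  · intro e
    have hN := h.comm_count (hn3.sublist hsub) hD hc' (by omega) (by omega)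
    rw [e] at hN
    have hall : ((mem' D).filter fun z => Commute z (1 : G)).card = 3510 := by
      rw [Finset.filter_true_of_mem fun z _ => Commute.one_right z, h.card_members ha hc₀ hac₀,
        h.card_nonperp ha hc₀ hac₀]
    rw [hall] at hN
    split_ifs at hN <;> omega

end M22

end Cfsg.Lib.ThreeTr
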