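import Cfsg.Agent.ThreeTransposition.M22Count.Graph
import Cfsg.Agent.Classical.Orth.Card
import Cfsg.Agent.S2623
import Cfsg.Agent.S0288

/-!
Two noncommuting members of a class of type M(22) have exactly 126 common neighbours, and the class has 3510
members: the group generated by the common neighbours has order dividing that of an orthogonal group in dimension
six over the field with three elements.
-/

set_option autoImplicit false
set_option linter.unusedSectionVars false
set_option linter.style.haveILetI false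

namespace Cfsg.Lib.ThreeTr

open Cfsg Subgroup

attribute [local instance] _root_.Classical.propDecidable

/-- The form of minus type in six variables. -/
noncomputable def formSix : QuadraticForm (ZMod 3) (Fin 6 → ZMod 3) :=
  QuadraticMap.linMulLin (LinearMap.proj 0) (LinearMap.proj 1) +
    QuadraticMap.linMulLin (LinearMap.proj 2) (LinearMap.proj 3) +
    QuadraticMap.linMulLin (LinearMap.proj 4) (LinearMap.proj 4) +
    QuadraticMap.linMulLin (LinearMap.proj 5) (LinearMap.proj 5)

theorem formSix_apply (x : Fin 6 → ZMod 3) : formSix x = x 0 * x 1 + x 2 * x 3 + x 4 * x 4 + x 5 * x 5 := by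
  simp [formSix]

theorem formSix_gram : (Matrix.of fun i j : Fin 6 => QuadraticMap.polar (⇑formSix) (Pi.single i 1) (Pi.single j 1)) =
    !![0, 1, 0, 0, 0, 0; 1, 0, 0, 0, 0, 0; 0, 0, 0, 1, 0, 0; 0, 0, 1, 0, 0, 0; 0, 0, 0, 0, 2, 0; 0, 0, 0, 0, 0, 2] := by
  ext i j
  fin_cases i <;> fin_cases j <;> simp [QuadraticMap.polar, formSix_apply, Pi.single_apply] <;> decide

theorem formSix_nondegenerate : (QuadraticMap.polarBilin formSix).Nondegenerate := by
  have hv : ∀ x y, QuadraticMap.polar (⇑formSix) x y =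
      x 0 * y 1 + x 1 * y 0 + (x 2 * y 3 + x 3 * y 2) + (x 4 * y 4 * 2 + x 5 * y 5 * 2) := fun x y => by
    simp only [QuadraticMap.polar, formSix_apply, Pi.add_apply]
    ring
  have key : ∀ x, (∀ y, QuadraticMap.polar (⇑formSix) x y = 0) → x = 0 := by
    intro x hx
    have h := fun i => hx (Pi.single i 1)
    have h0 := h 0; have h1 := h 1; have h2 := h 2; have h3 := h 3; have h4 := h 4; have h5 := h 5
    simp [hv, Pi.single_apply] at h0 h1 h2 h3 h4 h5
    have e : ∀ t : ZMod 3, t * 2 = 0 → t = 0 := by decide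
    funext i
    fin_cases i <;> simp [h0, h1, h2, h3]
    · exact h4.resolve_right (by decide)
    · exact h5.resolve_right (by decide)
  exact ⟨fun x h => key x h, fun x h => key x fun y => by rw [QuadraticMap.polar_comm]; exact h y⟩

theorem anisotropic_zero_one : ∀ z₁ z₂ : ZMod 3, z₁ ^ 2 + 0 * z₁ * z₂ + 1 * z₂ ^ 2 = 0 → z₁ = 0 ∧ z₂ = 0 := by decide

theorem card_isometry_formSix : Nat.card (Cfsg.isometryGroup (ZMod 3) (⇑formSix)) = 26127360 := by
  haveI : Fact (Nat.Prime 3) := ⟨Nat.prime_three⟩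
  set ι := (Fin 2 ⊕ Fin 2) ⊕ Fin 2
  let σ : Fin 6 → ι := ![.inl (.inl 0), .inl (.inr 0), .inl (.inl 1), .inl (.inr 1), .inr 0, .inr 1]
  have hσ : Function.Bijective σ := by decide
  let φ : (ι → ZMod 3) ≃ₗ[ZMod 3] (Fin 6 → ZMod 3) := LinearEquiv.funCongrLeft (ZMod 3) (ZMod 3) (Equiv.ofBijective σ hσ)
  set P : QuadraticForm (ZMod 3) (ι → ZMod 3) := formSix.comp φ.toLinearMap with hP
  have hcoe : ⇑P = Cfsg.quadFormMinus 2 (ZMod 3) 0 1 := by
    funext v
    simp only [hP, QuadraticMap.comp_apply, formSix_apply, Cfsg.quadFormMinus, Fin.sum_univ_two]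
    simp [φ, σ, LinearEquiv.funCongrLeft_apply, LinearMap.funLeft_apply, Equiv.ofBijective_apply]
    ring
  rw [Cfsg.Lib.Classical.OrthCard.card_isometryGroup formSix,
    ← Cfsg.Lib.Classical.OrthCard.card_congr P formSix φ (fun x => rfl),
    ← Cfsg.Lib.Classical.OrthCard.card_isometryGroup P, hcoe]
  exact (Cfsg.Agent.S0288.result (F := ZMod 3) (q := 3) (ZMod.card 3) 3 (by norm_num) 0 1 anisotropic_zero_one).trans
    (by norm_num [Finset.prod_range_succ])

theorem formSix_det : (!![0, 1, 0, 0, 0, 0; 1, 0, 0, 0, 0, 0; 0, 0, 0, 1, 0, 0; 0, 0, 1, 0, 0, 0; 0, 0, 0, 0, 2, 0;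
    0, 0, 0, 0, 0, 2] : Matrix (Fin 6) (Fin 6) (ZMod 3)).det = 1 := by decide +kernel

theorem card_isometry_of_gram {Q : QuadraticForm (ZMod 3) (Fin 6 → ZMod 3)}
    (hQ : (QuadraticMap.polarBilin Q).Nondegenerate) (h : Cfsg.polarGramDet (⇑Q) = 1) :
    Nat.card (Cfsg.isometryGroup (ZMod 3) (⇑Q)) = 26127360 := by
  haveI : Fact (Nat.Prime 3) := ⟨Nat.prime_three⟩
  have hd : (Matrix.of fun i j : Fin 6 => QuadraticMap.polar (⇑formSix) (Pi.single i 1) (Pi.single j 1)).det = 1 := by
    rw [formSix_gram]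
    exact formSix_det
  obtain ⟨g, hg⟩ := (Cfsg.Agent.S2623.result (by decide) formSix Q formSix_nondegenerate hQ).2 (by
    rw [hd, one_mul]
    exact ⟨1, by rw [mul_one]; exact h⟩)
  rw [Cfsg.Lib.Classical.OrthCard.card_isometryGroup Q,
    ← Cfsg.Lib.Classical.OrthCard.card_congr formSix Q g hg, ← Cfsg.Lib.Classical.OrthCard.card_isometryGroup formSix,
    card_isometry_formSix]

section Involutions

variable {K : Type*} [Group K]

theorem toggle : ∀ {l : List K}, (∀ x ∈ l, x * x = 1) → (∀ x ∈ l, ∀ y ∈ l, Commute x y) → ∀ {s : List K},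
    s.Sublist l → ∀ {a : K}, a ∈ l → ∃ t : List K, t.Sublist l ∧ a * s.prod = t.prod
  | [], _, _, _, _, _, ha => by simp at ha
  | b :: t, h2, hc, s, hs, a, ha => by
    have h2' : ∀ x ∈ t, x * x = 1 := fun x hx => h2 x (List.mem_cons_of_mem _ hx)
    have hc' : ∀ x ∈ t, ∀ y ∈ t, Commute x y := fun x hx y hy =>
      hc x (List.mem_cons_of_mem _ hx) y (List.mem_cons_of_mem _ hy)
    rcases List.mem_cons.1 ha with rfl | ha'
    · rcases List.sublist_cons_iff.1 hs with h | ⟨r, rfl, hr⟩
      · exact ⟨a :: s, h.cons_cons _, by rw [List.prod_cons]⟩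
      · exact ⟨r, hr.cons _, by rw [List.prod_cons, ← mul_assoc, h2 a (by simp), one_mul]⟩
    · rcases List.sublist_cons_iff.1 hs with h | ⟨r, rfl, hr⟩
      · obtain ⟨u, hu, e⟩ := toggle h2' hc' h ha'
        exact ⟨u, hu.cons _, e⟩
      · obtain ⟨u, hu, e⟩ := toggle h2' hc' hr ha'
        refine ⟨b :: u, hu.cons_cons _, ?_⟩
        rw [List.prod_cons, List.prod_cons, ← mul_assoc, (hc a ha b (by simp)).eq, mul_assoc, e]

/-- Commuting involutions without relation generate a group of order divisible by a power of two. -/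
theorem pow_dvd_card_closure [Finite K] : ∀ {l : List K}, (∀ x ∈ l, x * x = 1) → (∀ x ∈ l, ∀ y ∈ l, Commute x y) →
    (∀ s : List K, s.Sublist l → s ≠ [] → s.prod ≠ 1) → 2 ^ l.length ∣ Nat.card ↥(closure {x | x ∈ l})
  | [], _, _, _ => by simp
  | b :: t, h2, hc, hrel => by
    have h2' : ∀ x ∈ t, x * x = 1 := fun x hx => h2 x (List.mem_cons_of_mem _ hx)
    have hc' : ∀ x ∈ t, ∀ y ∈ t, Commute x y := fun x hx y hy =>
      hc x (List.mem_cons_of_mem _ hx) y (List.mem_cons_of_mem _ hy)
    set A := closure {x | x ∈ t} with hA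
    set B := closure {x | x ∈ b :: t} with hB
    have hAB : A ≤ B := closure_mono fun x hx => List.mem_cons_of_mem _ hx
    have hb : b ∉ A := by
      intro hb
      have hS : ∀ x ∈ A, ∃ s : List K, s.Sublist t ∧ x = s.prod := by
        intro x hx
        refine closure_induction_left (s := {x | x ∈ t}) (p := fun y _ => ∃ s : List K, s.Sublist t ∧ y = s.prod)
          ⟨[], List.nil_sublist _, rfl⟩ (fun y hy z _ ⟨s, hs, e⟩ => ?_) (fun y hy z _ ⟨s, hs, e⟩ => ?_) hx
        · obtain ⟨u, hu, e'⟩ := toggle h2' hc' hs hy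
          exact ⟨u, hu, by rw [e, e']⟩
        · obtain ⟨u, hu, e'⟩ := toggle h2' hc' hs hy
          exact ⟨u, hu, by rw [inv_eq_of_mul_eq_one_right (h2' y hy), e, e']⟩
      obtain ⟨s, hs, e⟩ := hS b hb
      exact hrel (b :: s) (hs.cons_cons _) (by simp) (by rw [List.prod_cons, ← e]; exact h2 b (by simp))
    have hlt : Nat.card A < Nat.card B := by
      refine lt_of_le_of_ne (Nat.le_of_dvd Nat.card_pos (card_dvd_of_le hAB)) fun e => hb ?_
      rw [Subgroup.eq_of_le_of_card_ge hAB e.ge]
      exact subset_closure List.mem_cons_self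
    have hp : IsPGroup 2 B := by
      intro x
      refine ⟨1, ?_⟩
      have hcomm : ∀ u ∈ B, ∀ v ∈ B, Commute u v := by
        intro u hu v hv
        induction hu, hv using closure_induction₂ with
        | mem x y hx hy => exact hc x hx y hy
        | one_left x _ => exact Commute.one_left x
        | one_right x _ => exact Commute.one_right x
        | mul_left x y z _ _ _ h h' => exact h.mul_left h'
        | mul_right x y z _ _ _ h h' => exact h.mul_right h'
        | inv_left x y _ _ h => exact h.inv_left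
        | inv_right x y _ _ h => exact h.inv_right
      have : ∀ u ∈ B, u * u = 1 := by
        intro u hu
        induction hu using closure_induction with
        | mem x hx => exact h2 x hx
        | one => exact one_mul 1
        | mul x y hx hy h h' => rw [(hcomm y hy x hx).mul_mul_mul_comm x y, h, h', one_mul]
        | inv x _ h => rw [← mul_inv_rev, h, inv_one]
      refine Subtype.ext ?_
      rw [pow_one, SubgroupClass.coe_pow, sq]
      exact this x x.2
    haveI : Fact (Nat.Prime 2) := ⟨Nat.prime_two⟩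
    obtain ⟨n, hn⟩ := IsPGroup.iff_card.1 hp
    rw [hn] at hlt ⊢
    refine pow_dvd_pow 2 ?_
    have h1 := Nat.le_of_dvd Nat.card_pos
      (pow_dvd_card_closure h2' hc' fun s hs => hrel s (hs.cons _))
    rw [List.length_cons]
    exact (Nat.pow_lt_pow_iff_right (by norm_num)).1 (lt_of_le_of_lt h1 hlt)

end Involutions

universe u

variable {G : Type u} [Group G] {D : Set G}

namespace M22

variable [Finite G] (h : M22 D) {a c : G} (ha : a ∈ D) (hc : c ∈ D) (hac : ¬ Commute a c)
include h ha hc hac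

theorem inter_group_dvd :
    Nat.card (↥(closure (perp D a ∩ perp D c)) ⧸ center ↥(closure (perp D a ∩ perp D c))) ∣ 26127360 := by
  obtain ⟨-, d, hd, e, he, hde, -, c₃, -, Q, hQ, hdet, ⟨i⟩⟩ := h.type
  have h0 : Nat.card (↥(closure (perp D d ∩ perp D e)) ⧸ center ↥(closure (perp D d ∩ perp D e))) ∣ 26127360 := by
    rw [← card_isometry_of_gram hQ hdet]
    exact (dvd_of_eq (Nat.card_congr i.toEquiv)).trans
      ((Subgroup.card_quotient_dvd_card _).trans (Subgroup.card_subgroup_dvd_card _))
  obtain ⟨g, hga, hgc⟩ := h.inter_const hd he hde ha hc hac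
  have hmap : (closure (perp D d ∩ perp D e)).map (MulAut.conj g).toMonoidHom = closure (perp D a ∩ perp D c) := by
    rw [MonoidHom.map_closure, ← hga, ← hgc, ← conj_image_inter h.cls g d e]
    rfl
  set j : ↥(closure (perp D d ∩ perp D e)) ≃* ↥(closure (perp D a ∩ perp D c)) :=
    ((MulAut.conj g).subgroupMap (closure (perp D d ∩ perp D e))).trans (MulEquiv.subgroupCongr hmap)
  have hcc : (center ↥(closure (perp D d ∩ perp D e))).map j.toMonoidHom =
      center ↥(closure (perp D a ∩ perp D c)) := by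
    ext y
    obtain ⟨x, rfl⟩ := j.surjective y
    constructor
    · rintro ⟨z, hz, hzx⟩
      obtain rfl : z = x := j.injective hzx
      refine mem_center_iff.2 fun w => ?_
      obtain ⟨w, rfl⟩ := j.surjective w
      show j w * j z = j z * j w
      rw [← map_mul, ← map_mul, mem_center_iff.1 hz w]
    · intro hx
      refine ⟨x, mem_center_iff.2 fun w => j.injective ?_, rfl⟩
      rw [map_mul, map_mul]
      exact mem_center_iff.1 hx (j w)
  rwa [Nat.card_congr (QuotientGroup.congr _ _ j hcc).toEquiv] at h0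

theorem exists_far {f : G} (hf : f ∈ perp D a ∩ perp D c) :
    ∃ g ∈ perp D a ∩ perp D c, ¬ Commute g f := by
  have h1 := h.inner_degree ha hc hac hf
  have h2 := (h.window ha hc hac).1
  have h3 := h.card_inter ha hc hac
  obtain ⟨g, hg, hgn⟩ := Finset.exists_mem_notMem_of_card_lt_card
    (show ((nb D a ∩ nb D c).filter fun g => Commute g f).card < (nb D a ∩ nb D c).card by omega)
  refine ⟨g, by simpa [Finset.mem_inter, mem_nb] using hg, fun hcm => hgn (Finset.mem_filter.2 ⟨hg, hcm⟩)⟩

theorem exists_far₂ {f g : G} (hf : f ∈ perp D a ∩ perp D c) (hg : g ∈ perp D a ∩ perp D c) :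
    ∃ k ∈ perp D a ∩ perp D c, ¬ Commute k f ∧ ¬ Commute k g := by
  have h1 := h.inner_degree ha hc hac hf
  have h1' := h.inner_degree ha hc hac hg
  have h2 := (h.window ha hc hac).1
  have h3 := h.card_inter ha hc hac
  obtain ⟨k, hk, hkn⟩ := Finset.exists_mem_notMem_of_card_lt_card
    (show (((nb D a ∩ nb D c).filter fun k => Commute k f) ∪ ((nb D a ∩ nb D c).filter fun k => Commute k g)).card <
      (nb D a ∩ nb D c).card from (Finset.card_union_le _ _).trans_lt (by omega))
  refine ⟨k, by simpa [Finset.mem_inter, mem_nb] using hk, fun hcm => hkn ?_, fun hcm => hkn ?_⟩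
  · exact Finset.mem_union_left _ (Finset.mem_filter.2 ⟨hk, hcm⟩)
  · exact Finset.mem_union_right _ (Finset.mem_filter.2 ⟨hk, hcm⟩)

/-- At most three commuting members of the common neighbourhood never have central product. -/
theorem short_not_central {s : List G} (hne : s ≠ []) (hlen : s.length ≤ 3) (hn : s.Nodup)
    (hs : ∀ x ∈ s, x ∈ perp D a ∩ perp D c) (hcs : ∀ x ∈ s, ∀ y ∈ s, Commute x y) :
    ¬ ∀ x ∈ perp D a ∩ perp D c, Commute x s.prod := by
  intro hcen
  have hE := h.cls.1
  match s, hne, hlen with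
  | [x], _, _ =>
    obtain ⟨k, hk, hkn⟩ := h.exists_far ha hc hac (hs x (by simp))
    exact hkn (by simpa using hcen k hk)
  | [x, y], _, _ =>
    obtain ⟨k, hk, hkn⟩ := h.exists_far ha hc hac (hs x (by simp))
    have hxy : x ≠ y := by simpa using hn
    exact hkn ((commute_pair_iff hE (hs x (by simp)).1.1 (hs y (by simp)).1.1 hk.1.1 hxy
      (hcs x (by simp) y (by simp))).1 (by simpa using hcen k hk)).1
  | [x, y, z], _, _ =>
    obtain ⟨k, hk, hkn⟩ := h.exists_far ha hc hac (hs x (by simp))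
    obtain ⟨⟨hxy, hxz⟩, hyz⟩ : (x ≠ y ∧ x ≠ z) ∧ y ≠ z := by simpa using hn
    exact hkn ((commute_triple_iff hE (hs x (by simp)).1.1 (hs y (by simp)).1.1 (hs z (by simp)).1.1 hk.1.1 hxy hxz
      hyz (hcs x (by simp) y (by simp)) (hcs x (by simp) z (by simp)) (hcs y (by simp) z (by simp))).1
      (by simpa [mul_assoc] using hcen k hk)).1
  | _ :: _ :: _ :: _ :: _, _, h' => simp only [List.length_cons] at h'; omega

/-- Six pairwise commuting members of the common neighbourhood with product one. -/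
theorem exists_six : ∃ f : G, ∃ bs : List G, bs.length = 5 ∧ (f :: bs).Nodup ∧
    (∀ x ∈ f :: bs, x ∈ perp D a ∩ perp D c) ∧ (∀ x ∈ f :: bs, ∀ y ∈ f :: bs, Commute x y) ∧
    (f :: bs).prod = 1 := by
  have h2 := (h.window ha hc hac).1
  obtain ⟨f, hf⟩ := Set.nonempty_of_ncard_ne_zero (s := perp D a ∩ perp D c) (by omega)
  have haf : a ∈ perp D f := ⟨ha, hf.1.2.1.symm, hf.1.2.2.symm⟩
  have hcf : c ∈ perp D f := ⟨hc, hf.2.2.1.symm, hf.2.2.2.symm⟩
  obtain ⟨g, hg⟩ := Set.nonempty_of_ncard_ne_zero (s := {z : G | z ∈ perp D f ∧ Commute z a ∧ Commute z c})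
    (by rw [h.ncard_pair hf.1.1 haf hcf hac]; norm_num)
  obtain ⟨k, hk, hkg, hka, hkc, hkcg⟩ := h.exists_common hf.1.1 haf hcf hac hg.1 hg.2.1 hg.2.2
  obtain ⟨p, q, r, hnd, hcomm, hmem, hprod, -⟩ := m22_hexad h.cls h.prim h.twin h.type hf.1.1 hg.1.1 hk.1
    hg.1.2.1.symm hk.2.1.symm hkg.symm hg.1.2.2 hk.2.2 hkcg.symm
  refine ⟨f, [g, k, p, q, r], rfl, hnd, fun x hx => ?_, hcomm, hprod⟩
  have hxD := hmem x hx
  have key : ∀ {e : G}, Commute e f → Commute e g → Commute e k → e ∈ D → Commute e x := by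
    intro e h1 h2 h3 he
    have hsix : [f, g, k, p, q, r].prod = 1 := hprod
    by_cases hx' : x = f ∨ x = g ∨ x = k
    · rcases hx' with rfl | rfl | rfl <;> assumption
    push Not at hx'
    have hpqr : p * q * r = (f * g * k)⁻¹ := by
      refine eq_inv_of_mul_eq_one_right ?_
      rw [← hsix]; simp [mul_assoc]
    have hcp : Commute e (p * q * r) := hpqr ▸ ((h1.mul_right h2).mul_right h3).inv_right
    have hn' := hnd
    simp only [List.nodup_cons, List.mem_cons, List.not_mem_nil, or_false, not_or, List.nodup_nil] at hn'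
    obtain ⟨-, -, -, ⟨hpq, hpr⟩, hqr, -⟩ := hn'
    have h3' := (commute_triple_iff h.cls.1 (hmem p (by simp)) (hmem q (by simp)) (hmem r (by simp)) he hpq hpr hqr
      (hcomm p (by simp) q (by simp)) (hcomm p (by simp) r (by simp)) (hcomm q (by simp) r (by simp))).1 hcp
    simp only [List.mem_cons, List.not_mem_nil, or_false] at hx
    rcases hx with rfl | rfl | rfl | rfl | rfl | rfl
    exacts [absurd rfl hx'.1, absurd rfl hx'.2.1, absurd rfl hx'.2.2, h3'.1, h3'.2.1, h3'.2.2]
  have hxa : Commute a x := key hf.1.2.2 hg.2.1.symm hka.symm ha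
  have hxc : Commute c x := key hf.2.2.2 hg.2.2.symm hkc.symm hc
  exact ⟨⟨hxD, fun e => hac (e ▸ hxc).symm, hxa⟩, hxD, fun e => hac (e ▸ hxa), hxc⟩

theorem mu_dvd : ∃ n, (perp D a ∩ perp D c).ncard * n ∣ 26127360 ∧ 2 ^ 5 ∣ n := by
  obtain ⟨f, bs, hbs, hnd, hmem, hcomm, hprod⟩ := h.exists_six ha hc hac
  set M := perp D a ∩ perp D c with hM
  set L := closure M with hL
  set π := QuotientGroup.mk' (center ↥L) with hπ
  have hdvd := h.inter_group_dvd ha hc hac
  have hE := h.cls.1
  set fL : ↥L := ⟨f, subset_closure (hmem f (by simp))⟩ with hfL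
  set q := π fL with hq
  have hsq : ∀ {x : ↥L}, (x : G) ∈ M → x * x = 1 := fun {x} hx => Subtype.ext (sq_eq_one hE hx.1.1)
  have hcen : ∀ x : ↥L, x ∈ center ↥L → ∀ y ∈ M, Commute y (x : G) := fun x hx y hy =>
    congrArg Subtype.val (mem_center_iff.1 hx ⟨y, subset_closure hy⟩)
  have hinj : Set.InjOn π {x : ↥L | (x : G) ∈ M} := by
    intro x hx y hy e
    by_contra hne
    have hm : x⁻¹ * y ∈ center ↥L := QuotientGroup.eq.1 e
    rw [inv_eq_of_mul_eq_one_right (hsq hx)] at hm
    have hne' : (x : G) ≠ y := fun e => hne (Subtype.ext e)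
    have hxy : Commute (x : G) y := by
      have h2 := (hcen _ hm x hx).eq
      simp only [coe_mul] at h2
      rw [← mul_assoc, sq_eq_one hE hx.1.1, one_mul] at h2
      show (x : G) * y = y * x
      conv_rhs => rw [h2, mul_assoc, sq_eq_one hE hx.1.1, mul_one]
    exact h.short_not_central ha hc hac (s := [(x : G), (y : G)]) (by simp) (by simp) (by simp [hne'])
      (by intro z hz; simp only [List.mem_cons, List.not_mem_nil, or_false] at hz; rcases hz with rfl | rfl <;> assumption)
      (by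
        intro z hz w hw
        simp only [List.mem_cons, List.not_mem_nil, or_false] at hz hw
        rcases hz with rfl | rfl <;> rcases hw with rfl | rfl
        exacts [Commute.refl _, hxy, hxy.symm, Commute.refl _])
      (fun z hz => by simpa using hcen _ hm z hz)
  have hLM : ∀ g ∈ L, ∀ x ∈ M, g * x * g⁻¹ ∈ M := fun g hg x hx =>
    ⟨conj_mem_perp h.conj_D (closure_mono Set.inter_subset_left hg) hx.1,
      conj_mem_perp h.conj_D (closure_mono Set.inter_subset_right hg) hx.2⟩
  have hstep : ∀ x ∈ M, ∀ y ∈ M, ¬ Commute x y → ∃ g ∈ L, g * x * g⁻¹ = y := fun x hx y hy hne =>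
    ⟨x * y, mul_mem (subset_closure hx) (subset_closure hy), mul_conj_eq hE hx.1.1 hy.1.1 hne⟩
  haveI : Finite (ConjAct (↥L ⧸ center ↥L)) := Finite.of_equiv _ ConjAct.toConjAct.toEquiv
  have horb : MulAction.orbit (ConjAct (↥L ⧸ center ↥L)) q = π '' {x : ↥L | (x : G) ∈ M} := by
    ext z
    rw [ConjAct.mem_orbit_conjAct, isConj_comm, isConj_iff]
    constructor
    · rintro ⟨g, rfl⟩
      obtain ⟨g, rfl⟩ := QuotientGroup.mk'_surjective (center ↥L) g
      exact ⟨g * fL * g⁻¹, hLM _ g.2 _ (hmem f (by simp)), by rw [hq, map_mul, map_mul, map_inv]⟩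
    · rintro ⟨x, hx, rfl⟩
      obtain ⟨g, hg, hgx⟩ : ∃ g ∈ L, g * f * g⁻¹ = (x : G) := by
        by_cases hfx : Commute f x
        · obtain ⟨k, hk, hkf, hkx⟩ := h.exists_far₂ ha hc hac (hmem f (by simp)) hx
          obtain ⟨g₁, hg₁, e₁⟩ := hstep f (hmem f (by simp)) k hk fun h' => hkf h'.symm
          obtain ⟨g₂, hg₂, e₂⟩ := hstep k hk _ hx hkx
          exact ⟨g₂ * g₁, mul_mem hg₂ hg₁, by rw [← e₂, ← e₁]; group⟩
        · exact hstep f (hmem f (by simp)) _ hx hfx
      refine ⟨π ⟨g, hg⟩, ?_⟩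
      rw [hq, ← map_inv, ← map_mul, ← map_mul]
      exact congrArg π (Subtype.ext hgx)
  have hcard : (MulAction.orbit (ConjAct (↥L ⧸ center ↥L)) q).ncard = M.ncard := by
    rw [horb, hinj.ncard_image, ← Set.ncard_image_of_injective _ Subtype.val_injective]
    congr 1
    ext x
    exact ⟨by rintro ⟨y, hy, rfl⟩; exact hy, fun hx => ⟨⟨x, subset_closure hx⟩, hx, rfl⟩⟩
  refine ⟨Nat.card ↥(MulAction.stabilizer (ConjAct (↥L ⧸ center ↥L)) q), ?_, ?_⟩
  · have e : M.ncard * Nat.card ↥(MulAction.stabilizer (ConjAct (↥L ⧸ center ↥L)) q) = Nat.card (↥L ⧸ center ↥L) := by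
      have h1 := MulAction.index_stabilizer (ConjAct (↥L ⧸ center ↥L)) q
      rw [hcard] at h1
      rw [← h1, mul_comm, Subgroup.card_mul_index, Nat.card_congr ConjAct.ofConjAct.toEquiv]
    rw [e]; exact hdvd
  let l₀ : List ↥L := bs.pmap (fun x hx => ⟨x, subset_closure hx⟩) fun x hx => hmem x (List.mem_cons_of_mem _ hx)
  have hval : l₀.map Subtype.val = bs := by simp [l₀, List.map_pmap]
  let l : List (ConjAct (↥L ⧸ center ↥L)) := l₀.map fun x => ConjAct.toConjAct (π x)
  have hl₀ : ∀ x ∈ l₀, (x : G) ∈ bs := fun x hx => hval ▸ List.mem_map_of_mem hx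
  have hll : l.length = 5 := by simp [l, l₀, hbs]
  have hkey : 2 ^ l.length ∣ Nat.card ↥(closure {x | x ∈ l}) := by
    refine pow_dvd_card_closure ?_ ?_ ?_
    · intro x hx
      obtain ⟨y, hy, rfl⟩ := List.mem_map.1 hx
      rw [← map_mul, ← map_mul, hsq (hmem _ (List.mem_cons_of_mem _ (hl₀ y hy))), map_one, map_one]
    · intro x hx y hy
      obtain ⟨u, hu, rfl⟩ := List.mem_map.1 hx
      obtain ⟨v, hv, rfl⟩ := List.mem_map.1 hy
      exact ((show Commute u v from Subtype.ext (hcomm _ (List.mem_cons_of_mem _ (hl₀ u hu)) _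
        (List.mem_cons_of_mem _ (hl₀ v hv))).eq).map π).map ConjAct.toConjAct.toMonoidHom
    · intro s hs hne hs1
      obtain ⟨s₀, hs₀, rfl⟩ := List.sublist_map_iff.1 hs
      have hcs : s₀.prod ∈ center ↥L := by
        rw [← QuotientGroup.eq_one_iff]
        show π s₀.prod = 1
        apply ConjAct.toConjAct.injective
        rw [map_one, ← hs1, map_list_prod, map_list_prod, List.map_map]
        rfl
      have hc2 : ∀ y ∈ M, Commute y (s₀.map Subtype.val).prod := fun y hy => by
        rw [← SubmonoidClass.coe_list_prod]; exact hcen _ hcs y hy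
      have hne₀ : s₀.map Subtype.val ≠ [] := fun e => hne (by rw [List.map_eq_nil_iff.1 e]; rfl)
      have hsub : (s₀.map Subtype.val).Sublist (f :: bs) := (hval ▸ hs₀.map Subtype.val).cons _
      set sv := s₀.map Subtype.val with hsv
      by_cases hlen : sv.length ≤ 3
      · exact h.short_not_central ha hc hac hne₀ hlen (hnd.sublist hsub) (fun x hx => hmem x (hsub.subset hx))
          (fun x hx y hy => hcomm x (hsub.subset hx) y (hsub.subset hy)) hc2
      set r := (f :: bs).diff sv with hr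
      have hperm : (sv ++ r).Perm (f :: bs) := List.subperm_append_diff_self_of_count_le
        (List.subperm_ext_iff.1 hsub.subperm)
      have hrsub : r ⊆ f :: bs := fun x hx => hperm.subset (List.mem_append_right _ hx)
      have hrprod : r.prod = sv.prod⁻¹ := by
        refine eq_inv_of_mul_eq_one_right ?_
        rw [← List.prod_append, ← hprod]
        refine hperm.prod_eq' ?_
        exact List.Pairwise.imp_of_mem (fun {x y} hx hy _ => hcomm x (hperm.subset hx) y (hperm.subset hy))
          (hperm.nodup_iff.2 hnd)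
      have hrlen : r.length + sv.length = 6 := by
        have := hperm.length_eq
        simp only [List.length_append, List.length_cons, hbs] at this
        omega
      have hsv5 : sv.length ≤ 5 := by
        have := (hs₀.map Subtype.val).length_le
        rw [hval, hbs] at this
        exact this
      exact h.short_not_central ha hc hac (s := r) (by intro e; simp [e] at hrlen; omega) (by omega)
        (List.Nodup.diff hnd) (fun x hx => hmem x (hrsub hx))
        (fun x hx y hy => hcomm x (hrsub hx) y (hrsub hy)) (fun y hy => hrprod ▸ (hc2 y hy).inv_right)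
  rw [hll] at hkey
  refine hkey.trans (card_dvd_of_le ((closure_le _).2 ?_))
  intro x hx
  obtain ⟨y, hy, rfl⟩ := List.mem_map.1 hx
  rw [SetLike.mem_coe, MulAction.mem_stabilizer_iff, ConjAct.smul_def, ConjAct.ofConjAct_toConjAct, hq, ← map_inv,
    ← map_mul, ← map_mul]
  refine congrArg π (Subtype.ext ?_)
  show (y : G) * f * (y : G)⁻¹ = f
  rw [(hcomm _ (List.mem_cons_of_mem _ (hl₀ y hy)) f (by simp)).eq, mul_inv_cancel_right]

/-- Two noncommuting members have 126 common neighbours. -/
theorem mu_eq : (perp D a ∩ perp D c).ncard = 126 := by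
  obtain ⟨n, hn, k, rfl⟩ := h.mu_dvd ha hc hac
  have h32 : (perp D a ∩ perp D c).ncard * 2 ^ 5 ∣ 26127360 :=
    (mul_dvd_mul_left _ (Dvd.intro k rfl)).trans hn
  rcases h.mu_cases ha hc hac with e | e | e
  · exact e
  all_goals
    rw [e] at h32
    norm_num at h32

theorem card_nonperp : ((mem' D).filter fun e => ¬ Commute a e).card = 2816 := by
  have h1 := h.paths ha hc hac
  rw [h.mu_eq ha hc hac] at h1
  omega

theorem card_eq : D.ncard = 3510 := by
  rw [Set.ncard_eq_toFinset_card D (Set.toFinite _), show (Set.toFinite D).toFinset = mem' D from rfl,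
    h.card_members ha hc hac, h.card_nonperp ha hc hac]

end M22

end Cfsg.Lib.ThreeTr
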