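import Cfsg.Agent.ThreeTransposition.M22Count.MaxClique
import Mathlib.GroupTheory.GroupAction.Quotient

/-!
Involutions stabilising a maximal set of pairwise commuting members: one that moves a member fixes exactly six, and
an elementary abelian 2-group stabilising the set is contained in the group it generates or is smaller than it.
-/

set_option autoImplicit false
set_option linter.unusedSectionVars false
set_option linter.style.haveILetI false

namespace Cfsg.Lib.ThreeTr

open Cfsg Subgroup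

attribute [local instance] _root_.Classical.propDecidable

universe u

variable {G : Type u} [Group G] {D B : Set G}

/-- The conjugate of `b` by two commuting members neither of which commutes with it commutes with it and is
related to the two members by their pair. -/
theorem pair_of_moved (hE : IsThreeTranspositionSet D) {b c d : G} (hb : b ∈ D) (hc : c ∈ D) (hd : d ∈ D)
    (hcd : Commute c d) (hbc : ¬ Commute b c) (hbd : ¬ Commute b d) {b' : G} (hb' : c * d * b * (c * d)⁻¹ = b')
    (_hbb : Commute b b') (hb'D : b' ∈ D) : d = b * b' * c * (b * b')⁻¹ := by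
  have hc2 := sq_eq_one hE hc
  have hd2 := sq_eq_one hE hd
  have hb2 := sq_eq_one hE hb
  have hinv : (c * d)⁻¹ = c * d := by rw [mul_inv_rev, inv_eq hE hc, inv_eq hE hd, hcd.eq]
  rw [hinv] at hb'
  have hb'c : ¬ Commute b' c := fun e => hbc (by
    have e1 : c * d * c * (c * d)⁻¹ = c := by
      rw [((Commute.refl c).mul_left hcd.symm).eq, mul_inv_cancel_right]
    refine (conj_commute_iff (c * d) b c).1 ?_
    rw [e1, hinv, hb']
    exact e)
  have e1 : b' * c * b' = d * b * d := by
    rw [braid hE hb'D hc hb'c, ← hb']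
    calc c * (c * d * b * (c * d)) * c = (c * c) * (d * b) * ((c * d) * c) := by simp only [mul_assoc]
      _ = d * b * ((d * c) * c) := by rw [hc2, one_mul, hcd.eq]
      _ = d * b * d := by rw [mul_assoc d c c, hc2, mul_one]
  rw [mul_inv_rev, inv_eq hE hb, inv_eq hE hb'D, show b * b' * c * (b' * b) = b * (b' * c * b') * b by
    simp only [mul_assoc], e1, ← braid hE hb hd hbd,
    show b * (b * d * b) * b = (b * b) * d * (b * b) by simp only [mul_assoc], hb2, one_mul, mul_one]

/-- A member is not moved into its perp by a member. -/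
theorem not_moved_one (hE : IsThreeTranspositionSet D) {b c : G} (hb : b ∈ D) (hc : c ∈ D) (hbc : ¬ Commute b c) :
    ¬ Commute b (c * b * c⁻¹) := by
  rw [inv_eq hE hc, ← braid hE hb hc hbc]
  exact not_commute_third hE hb hc hbc

namespace IsMaxClique

variable [Finite G] (hB : IsMaxClique D B) (h : M22 D)
include hB h

/-- A member stabilising the clique belongs to it. -/
theorem mem_of_one {c : G} (hc : c ∈ D) (hst : ∀ b ∈ B, c * b * c⁻¹ ∈ B) : c ∈ B :=
  hB.max c hc fun b hb => by
    by_contra hbc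
    exact not_moved_one h.cls.1 (hB.sub hb) hc (fun e => hbc e.symm) (hB.comm b hb _ (hst b hb))

/-- Two members stabilising the clique and moving a member of it fix exactly six. -/
theorem fixed_two {c d : G} (hc : c ∈ D) (hd : d ∈ D) (hcd : Commute c d)
    (hst : ∀ b ∈ B, c * d * b * (c * d)⁻¹ ∈ B) (hmv : ∃ b ∈ B, c * d * b * (c * d)⁻¹ ≠ b) :
    ({b : G | b ∈ B ∧ c * d * b * (c * d)⁻¹ = b}).ncard = 6 := by
  have hE := h.cls.1
  -- a member commuting with one of them commutes with the other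
  have hone : ∀ b ∈ B, Commute b c ↔ Commute b d := by
    have key : ∀ u v : G, u ∈ D → v ∈ D → Commute u v → (∀ b ∈ B, u * v * b * (u * v)⁻¹ ∈ B) →
        ∀ b ∈ B, Commute b v → Commute b u := by
      intro u v hu hv huv hst b hb hbv
      by_contra hbu
      have h1 := hB.comm b hb _ (hst b hb)
      rw [mul_inv_rev, show u * v * b * (v⁻¹ * u⁻¹) = u * (v * b * v⁻¹) * u⁻¹ by group,
        hbv.symm.eq, mul_inv_cancel_right] at h1
      exact not_moved_one hE (hB.sub hb) hu hbu h1
    refine fun b hb => ⟨fun e => key d c hd hc hcd.symm (fun z hz => ?_) b hb e, key c d hc hd hcd hst b hb⟩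
    rw [← hcd.eq]; exact hst z hz
  have hfix : ∀ b ∈ B, c * d * b * (c * d)⁻¹ = b ↔ Commute b c := by
    intro b hb
    constructor
    · intro e
      by_cases hcd' : c = d
      · subst hcd'
        rw [sq_eq_one hE hc, one_mul, inv_one, mul_one] at e
        exfalso
        obtain ⟨z, hz, hzne⟩ := hmv
        rw [sq_eq_one hE hc, one_mul, inv_one, mul_one] at hzne
        exact hzne rfl
      exact ((commute_pair_iff hE hc hd (hB.sub hb) hcd' hcd).1 (mul_inv_eq_iff_eq_mul.1 e).symm).1
    · intro e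
      rw [← (e.mul_right ((hone b hb).1 e)).eq, mul_inv_cancel_right]
  have hcB : c ∉ B := fun e => by
    obtain ⟨b, hb, hne⟩ := hmv
    exact hne ((hfix b hb).2 (hB.comm b hb c e))
  have e : {b : G | b ∈ B ∧ c * d * b * (c * d)⁻¹ = b} = {b : G | b ∈ B ∧ Commute b c} :=
    Set.ext fun b => and_congr_right fun hb => hfix b hb
  rw [e]
  by_cases hne : ∃ a ∈ B, Commute c a
  · obtain ⟨a, ha, hca⟩ := hne
    exact hB.six h hc hcB ha hca
  push Not at hne
  exfalso
  have hpair : ∀ b ∈ B, c * d * b * (c * d)⁻¹ ≠ b ∧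
      d = b * (c * d * b * (c * d)⁻¹) * c * (b * (c * d * b * (c * d)⁻¹))⁻¹ := by
    intro b hb
    have hbc : ¬ Commute b c := fun e => hne b hb e.symm
    exact ⟨fun e => hbc ((hfix b hb).1 e), pair_of_moved hE (hB.sub hb) hc hd hcd hbc
      (fun e => hbc ((hone b hb).2 e)) rfl (hB.comm b hb _ (hst b hb)) (hB.sub (hst b hb))⟩
  obtain ⟨b₀, hb₀⟩ := hB.nonempty h
  obtain ⟨n0, e0⟩ := hpair b₀ hb₀
  have hsub : B ⊆ {b₀, c * d * b₀ * (c * d)⁻¹} := by
    intro b hb
    obtain ⟨n1, e1⟩ := hpair b hb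
    rcases hB.pair_eq h hc hne hb₀ (hst b₀ hb₀) hb (hst b hb) (Ne.symm n0) (Ne.symm n1) (e0.symm.trans e1) with
      ⟨k, -⟩ | ⟨k, -⟩
    · exact Or.inl k
    · exact Or.inr k
  have h2 := Set.ncard_le_ncard hsub (Set.toFinite _)
  have h3 : ({b₀, c * d * b₀ * (c * d)⁻¹} : Set G).ncard ≤ 2 :=
    (Set.ncard_insert_le _ _).trans (by rw [Set.ncard_singleton])
  rw [hB.ncard_eq h] at h2
  omega

/-- An involution stabilising the clique and moving a member of it fixes exactly six. -/
theorem fixed_six {t : G} (ht : orderOf t = 2) (hst : ∀ b ∈ B, t * b * t⁻¹ ∈ B)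
    (hmv : ∃ b ∈ B, t * b * t⁻¹ ≠ b) : ({b : G | b ∈ B ∧ t * b * t⁻¹ = b}).ncard = 6 := by
  have hE := h.cls.1
  obtain ⟨l, hn, h1, h3, hlD, hlc, rfl⟩ := h.involution_form ht
  match l, h1, h3 with
  | [c], _, _ =>
    simp only [List.prod_singleton] at hst hmv ⊢
    obtain ⟨b, hb, hne⟩ := hmv
    exact absurd (by rw [(hB.comm c (hB.mem_of_one h (hlD c (by simp)) hst) b hb).eq, mul_inv_cancel_right]) hne
  | [c, d], _, _ =>
    simp only [List.prod_cons, List.prod_nil, mul_one] at hst hmv ⊢
    exact hB.fixed_two h (hlD c (by simp)) (hlD d (by simp)) (hlc c (by simp) d (by simp)) hst hmv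
  | [c, d, e], _, _ =>
    simp only [List.prod_cons, List.prod_nil, mul_one, ← mul_assoc] at hst hmv ⊢
    have hc := hlD c (by simp); have hd := hlD d (by simp); have he := hlD e (by simp)
    have ccd := hlc c (by simp) d (by simp)
    have cce := hlc c (by simp) e (by simp)
    have cde := hlc d (by simp) e (by simp)
    -- a factor inside the clique may be dropped
    have hdrop : ∀ p q r : G, p ∈ D → q ∈ D → r ∈ D → Commute p q → p * q * r = c * d * e → r ∈ B →
        ({b : G | b ∈ B ∧ c * d * e * b * (c * d * e)⁻¹ = b}).ncard = 6 := by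
      intro p q r hp hq hr hpq heq hrB
      have hact : ∀ b ∈ B, c * d * e * b * (c * d * e)⁻¹ = p * q * b * (p * q)⁻¹ := by
        intro b hb
        rw [← heq, mul_assoc (p * q) r b, (hB.comm r hrB b hb).eq, mul_inv_rev]
        group
      rw [show {b : G | b ∈ B ∧ c * d * e * b * (c * d * e)⁻¹ = b} = {b : G | b ∈ B ∧ p * q * b * (p * q)⁻¹ = b} from
        Set.ext fun b => and_congr_right fun hb => by rw [hact b hb]]
      refine hB.fixed_two h hp hq hpq (fun b hb => hact b hb ▸ hst b hb) ?_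
      obtain ⟨b, hb, hne⟩ := hmv
      exact ⟨b, hb, hact b hb ▸ hne⟩
    by_cases heB : e ∈ B
    · exact hdrop c d e hc hd he ccd rfl heB
    by_cases hdB : d ∈ B
    · exact hdrop c e d hc he hd cce (by rw [mul_assoc, ← cde.eq, ← mul_assoc]) hdB
    by_cases hcB : c ∈ B
    · exact hdrop d e c hd he hc cde (by rw [← (ccd.mul_right cce).eq, ← mul_assoc]) hcB
    exfalso
    -- every member commutes with a factor
    have hsome : ∀ b ∈ B, Commute b c ∨ Commute b d ∨ Commute b e := by
      intro b hb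
      by_contra hnone
      push Not at hnone
      obtain ⟨hbc, hbd, hbe⟩ := hnone
      set b₂ := c * d * b * (c * d)⁻¹ with hb₂
      have hb₂D : b₂ ∈ D := conj_mem h.cls _ (hB.sub hb)
      have hbb : Commute b b₂ := by
        have e1 : c * b * c⁻¹ = b * c * b := by rw [inv_eq hE hc, ← braid hE (hB.sub hb) hc hbc]
        have e2 : c * b₂ * c⁻¹ = b * d * b := by
          rw [hb₂, mul_inv_rev, inv_eq hE hd, inv_eq hE hc,
            show c * (c * d * b * (d * c)) * c = (c * c) * d * b * d * (c * c) by simp only [mul_assoc],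
            sq_eq_one hE hc, one_mul, mul_one, ← braid hE (hB.sub hb) hd hbd]
        rw [← conj_commute_iff c, e1, e2]
        simpa [inv_eq hE (hB.sub hb)] using (conj_commute_iff b c d).2 ccd
      have hb₂e : ¬ Commute b₂ e := fun h' => hbe (by
        refine (conj_commute_iff (c * d) b e).1 ?_
        rw [show c * d * e * (c * d)⁻¹ = e by rw [(cce.mul_left cde).eq, mul_inv_cancel_right]]
        exact h')
      have hfin : Commute b (c * d * e * b * (c * d * e)⁻¹) := hB.comm b hb _ (hst b hb)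
      rw [show c * d * e * b * (c * d * e)⁻¹ = e * b₂ * e⁻¹ by
        rw [hb₂, (cce.mul_left cde).eq, mul_inv_rev, mul_inv_rev]; group, inv_eq hE he,
        braid hE he hb₂D (fun h' => hb₂e h'.symm)] at hfin
      refine hbe ((conj_commute_iff b₂ b e).1 ?_)
      rwa [← hbb.eq, mul_inv_cancel_right, inv_eq hE hb₂D]
    have hcard : ∀ u ∈ D, u ∉ B → ({b : G | b ∈ B ∧ Commute b u}).ncard ≤ 6 := by
      intro u hu huB
      by_cases hex : ∃ a ∈ B, Commute u a
      · obtain ⟨a, ha, hua⟩ := hex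
        exact (hB.six h hu huB ha hua).le
      · push Not at hex
        have : {b : G | b ∈ B ∧ Commute b u} = ∅ := Set.eq_empty_iff_forall_notMem.2 fun b hb => hex b hb.1 hb.2.symm
        simp [this]
    have hsub : B ⊆ {b : G | b ∈ B ∧ Commute b c} ∪ {b : G | b ∈ B ∧ Commute b d} ∪ {b : G | b ∈ B ∧ Commute b e} :=
      fun b hb => by
        rcases hsome b hb with k | k | k
        exacts [Or.inl (Or.inl ⟨hb, k⟩), Or.inl (Or.inr ⟨hb, k⟩), Or.inr ⟨hb, k⟩]
    have h4 := Set.ncard_le_ncard hsub (Set.toFinite _)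
    have h5 := Set.ncard_union_le ({b : G | b ∈ B ∧ Commute b c} ∪ {b : G | b ∈ B ∧ Commute b d})
      {b : G | b ∈ B ∧ Commute b e}
    have h6 := Set.ncard_union_le {b : G | b ∈ B ∧ Commute b c} {b : G | b ∈ B ∧ Commute b d}
    have := hcard c hc hcB
    have := hcard d hd hdB
    have := hcard e he heB
    rw [hB.ncard_eq h] at h4
    omega

/-- The involutions centralising the clique lie in the group it generates. -/
theorem mem_closure {t : G} (ht : t * t = 1) (hc : ∀ b ∈ B, Commute t b) : t ∈ closure B := by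
  have hE := h.cls.1
  by_cases h1 : t = 1
  · exact h1 ▸ one_mem _
  obtain ⟨l, hn, hl1, hl3, hlD, hlc, rfl⟩ := h.involution_form
    (orderOf_eq_prime (p := 2) (by rw [sq]; exact ht) h1)
  refine list_prod_mem fun y hy => subset_closure (hB.max y (hlD y hy) fun b hb => ?_)
  have hbt := (hc b hb).symm
  have hbD := hB.sub hb
  match l, hl1, hl3 with
  | [p], _, _ =>
    simp only [List.mem_singleton] at hy
    subst hy
    simpa using hbt.symm
  | [p, q], _, _ =>
    have := (commute_pair_iff hE (hlD p (by simp)) (hlD q (by simp)) hbD (by simpa using hn)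
      (hlc p (by simp) q (by simp))).1 (by simpa using hbt)
    simp only [List.mem_cons, List.not_mem_nil, or_false] at hy
    rcases hy with rfl | rfl
    exacts [this.1.symm, this.2.symm]
  | [p, q, r], _, _ =>
    obtain ⟨⟨hpq, hpr⟩, hqr⟩ : (p ≠ q ∧ p ≠ r) ∧ q ≠ r := by simpa using hn
    have := (commute_triple_iff hE (hlD p (by simp)) (hlD q (by simp)) (hlD r (by simp)) hbD hpq hpr hqr
      (hlc p (by simp) q (by simp)) (hlc p (by simp) r (by simp)) (hlc q (by simp) r (by simp))).1
      (by simpa [mul_assoc] using hbt)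
    simp only [List.mem_cons, List.not_mem_nil, or_false] at hy
    rcases hy with rfl | rfl | rfl
    exacts [this.1.symm, this.2.1.symm, this.2.2.symm]

theorem closure_elementary : (∀ x ∈ closure B, x * x = 1) ∧ ∀ x ∈ closure B, ∀ y ∈ closure B, Commute x y := by
  have hc : ∀ x ∈ closure B, ∀ y ∈ closure B, Commute x y := by
    haveI := Subgroup.isMulCommutative_closure (G := G) (k := B) fun x hx y hy => (hB.comm x hx y hy).eq
    intro x hx y hy
    exact congrArg Subtype.val (mul_comm' (⟨x, hx⟩ : ↥(closure B)) ⟨y, hy⟩)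
  refine ⟨fun x hx => ?_, hc⟩
  induction hx using closure_induction with
  | mem x hx => exact sq_eq_one h.cls.1 (hB.sub hx)
  | one => exact mul_one 1
  | mul u v hu hv h1 h2 => rw [(hc v hv u hu).mul_mul_mul_comm, h1, h2, one_mul]
  | inv u hu h1 => rw [← mul_inv_rev, h1, inv_one]

/-- An involution moving a member of the clique centralises at most a sixteenth of the group it generates. -/
theorem card_fix_le {t : G} (ht : orderOf t = 2) (hst : ∀ b ∈ B, t * b * t⁻¹ ∈ B)
    (hmv : ∃ b ∈ B, t * b * t⁻¹ ≠ b) :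
    16 * Nat.card ↥(closure B ⊓ centralizer ({t} : Set G)) ≤ Nat.card ↥(closure B) := by
  obtain ⟨hsq, hcm⟩ := hB.closure_elementary h
  set A := closure B
  have htt : t * t = 1 := mul_self_of_orderOf_two ht
  have hAt : ∀ x ∈ A, t * x * t⁻¹ ∈ A := by
    intro x hx
    induction hx using closure_induction with
    | mem x hx => exact subset_closure (hst x hx)
    | one => simp
    | mul u v _ _ h1 h2 =>
      rw [show t * (u * v) * t⁻¹ = t * u * t⁻¹ * (t * v * t⁻¹) by group]; exact mul_mem h1 h2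
    | inv u _ h1 => rw [show t * u⁻¹ * t⁻¹ = (t * u * t⁻¹)⁻¹ by group]; exact inv_mem h1
  let ψ : ↥A →* ↥A := MonoidHom.mk' (fun a => ⟨a.1 * (t * a.1 * t⁻¹), mul_mem a.2 (hAt _ a.2)⟩) fun a b => by
    apply Subtype.ext
    simp only [coe_mul]
    rw [show t * (a.1 * b.1) * t⁻¹ = t * a.1 * t⁻¹ * (t * b.1 * t⁻¹) by group,
      (hcm _ b.2 _ (hAt _ a.2)).mul_mul_mul_comm]
  have hker : Nat.card ↥ψ.ker = Nat.card ↥(A ⊓ centralizer ({t} : Set G)) := by
    refine Nat.card_congr ⟨fun a => ⟨a.1.1, a.1.2, ?_⟩, fun a => ⟨⟨a.1, a.2.1⟩, ?_⟩, fun a => rfl, fun a => rfl⟩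
    · have h0 : a.1.1 * (t * a.1.1 * t⁻¹) = 1 := congrArg Subtype.val a.2
      have h2 : t * a.1.1 * t⁻¹ = a.1.1 := by
        rw [eq_inv_of_mul_eq_one_right h0, inv_eq_of_mul_eq_one_right (hsq _ a.1.2)]
      exact mem_centralizer_singleton_iff.2 (mul_inv_eq_iff_eq_mul.1 h2).symm
    · rw [MonoidHom.mem_ker]
      apply Subtype.ext
      show a.1 * (t * a.1 * t⁻¹) = 1
      rw [← mem_centralizer_singleton_iff.1 a.2.2, mul_inv_cancel_right]
      exact hsq _ a.2.1
  have hprod : Nat.card ↥A = Nat.card ↥ψ.range * Nat.card ↥ψ.ker := by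
    rw [card_eq_card_quotient_mul_card_subgroup ψ.ker]
    exact congrArg (· * _) (Nat.card_congr (QuotientGroup.quotientKerEquivRange ψ).toEquiv)
  -- eight pairs of moved members
  set Bf := (Set.toFinite B).toFinset with hBf
  have hmem : ∀ b, b ∈ Bf ↔ b ∈ B := fun b => Set.Finite.mem_toFinset _
  set M := Bf.filter fun b => ¬ t * b * t⁻¹ = b with hM
  have hMc : M.card = 16 := by
    have h6 := hB.fixed_six h ht hst hmv
    have hF : (Bf.filter fun b => t * b * t⁻¹ = b).card = 6 := by
      rw [← h6, ← Set.ncard_coe_finset]; congr 1; ext b; simp [hmem]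
    have := Finset.card_filter_add_card_filter_not (s := Bf) (fun b => t * b * t⁻¹ = b)
    rw [← hM, hF, show Bf.card = 22 by
      rw [← hB.ncard_eq h, hBf, Set.ncard_eq_toFinset_card B (Set.toFinite _)]] at this
    omega
  let f : G → G := fun b => b * (t * b * t⁻¹)
  have hMb : ∀ b ∈ M, b ∈ B ∧ t * b * t⁻¹ ≠ b := fun b hb => by
    rw [hM, Finset.mem_filter, hmem] at hb; exact hb
  have hfib := Finset.card_le_mul_card_image (f := f) M 2 fun z hz => by
    obtain ⟨p, hp, rfl⟩ := Finset.mem_image.1 hz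
    refine (Finset.card_le_card (t := {p, t * p * t⁻¹}) fun q hq => ?_).trans Finset.card_le_two
    obtain ⟨hq, hqe⟩ := Finset.mem_filter.1 hq
    obtain ⟨p1, p2⟩ := hMb p hp
    obtain ⟨q1, q2⟩ := hMb q hq
    rw [Finset.mem_insert, Finset.mem_singleton]
    have hpu := pair_unique h.cls.1 h.twin (l := [q, t * q * t⁻¹]) (l' := [p, t * p * t⁻¹]) rfl rfl
      (by simpa using Ne.symm q2) (by simpa using Ne.symm p2)
      (by simp [hB.sub q1, hB.sub (hst q q1)]) (by simp [hB.sub p1, hB.sub (hst p p1)])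
      (fun u hu v hv => hB.comm u (by simp at hu; rcases hu with rfl | rfl <;> [exact q1; exact hst q q1]) v
        (by simp at hv; rcases hv with rfl | rfl <;> [exact q1; exact hst q q1]))
      (fun u hu v hv => hB.comm u (by simp at hu; rcases hu with rfl | rfl <;> [exact p1; exact hst p p1]) v
        (by simp at hv; rcases hv with rfl | rfl <;> [exact p1; exact hst p p1]))
      (by simpa [f] using hqe)
    simpa using (hpu q).1 (by simp)
  have h9 : 9 ≤ Nat.card ↥ψ.range := by
    have hsub : ((insert 1 (M.image f) : Finset G) : Set G) ⊆ ((ψ.range.map A.subtype : Subgroup G) : Set G) := by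
      intro z hz
      rcases Finset.mem_insert.1 hz with rfl | hz
      · exact one_mem _
      obtain ⟨b, hb, rfl⟩ := Finset.mem_image.1 hz
      exact ⟨ψ ⟨b, subset_closure (hMb b hb).1⟩, ⟨_, rfl⟩, rfl⟩
    have h1 := Set.ncard_le_ncard hsub (Set.toFinite _)
    rw [Set.ncard_coe_finset, ← Nat.card_coe_set_eq,
      Finset.card_insert_of_notMem (by
        rw [Finset.mem_image]
        rintro ⟨b, hb, e⟩
        obtain ⟨hbB, hne⟩ := hMb b hb
        exact hne (mul_left_cancel (e.trans (sq_eq_one h.cls.1 (hB.sub hbB)).symm)))] at h1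
    have h2 : Nat.card ↥(ψ.range.map A.subtype) = Nat.card ↥ψ.range := Subgroup.card_subtype A ψ.range
    have h3 : Nat.card ↥((ψ.range.map A.subtype : Subgroup G) : Set G) = Nat.card ↥(ψ.range.map A.subtype) := rfl
    omega
  haveI : Fact (Nat.Prime 2) := ⟨Nat.prime_two⟩
  obtain ⟨k, hk⟩ := (IsPGroup.iff_card (p := 2) (G := ↥ψ.range)).1 fun g =>
    ⟨1, Subtype.ext (Subtype.ext (by simpa [sq] using hsq _ g.1.2))⟩
  have h16 : 16 ≤ Nat.card ↥ψ.range := by
    rw [hk] at h9 ⊢
    calc 16 = 2 ^ 4 := rfl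
      _ ≤ 2 ^ k := Nat.pow_le_pow_right (by norm_num) (by
        by_contra hk4
        have : 2 ^ k ≤ 2 ^ 3 := Nat.pow_le_pow_right (by norm_num) (by omega)
        omega)
  rw [hprod, ← hker]
  exact Nat.mul_le_mul_right _ h16

/-- An elementary abelian 2-group stabilising the clique lies in its group or is smaller. -/
theorem elementary_small {E : Subgroup G} (hE2 : ∀ x ∈ E, x * x = 1) (hEc : ∀ x ∈ E, ∀ y ∈ E, Commute x y)
    (hst : ∀ x ∈ E, ∀ b ∈ B, x * b * x⁻¹ ∈ B) :
    E ≤ closure B ∨ Nat.card ↥E < Nat.card ↥(closure B) := by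
  classical
  obtain ⟨hsq, hcm⟩ := hB.closure_elementary h
  by_cases hall : ∀ x ∈ E, ∀ b ∈ B, x * b * x⁻¹ = b
  · exact Or.inl fun x hx => hB.mem_closure h (hE2 x hx) fun b hb => (mul_inv_eq_iff_eq_mul.1 (hall x hx b hb))
  refine Or.inr ?_
  push Not at hall
  obtain ⟨t, ht, b, hb, hne⟩ := hall
  letI : MulAction ↥E ↥B :=
    { smul := fun x b => ⟨x.1 * b.1 * x.1⁻¹, hst x.1 x.2 b.1 b.2⟩
      one_smul := fun b => Subtype.ext (by show (1 : G) * b.1 * 1⁻¹ = b.1; group)
      mul_smul := fun x y b => Subtype.ext (by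
        show x.1 * y.1 * b.1 * (x.1 * y.1)⁻¹ = x.1 * (y.1 * b.1 * y.1⁻¹) * x.1⁻¹; group) }
  have hsmul : ∀ (x : ↥E) (b : ↥B), ((x • b : ↥B) : G) = x.1 * b.1 * x.1⁻¹ := fun _ _ => rfl
  set π := MulAction.toPermHom ↥E ↥B
  have hπ : ∀ (x : ↥E) (b : ↥B), π x b = x • b := fun _ _ => rfl
  haveI : Finite (Equiv.Perm ↥B) := inferInstance
  haveI : Fintype ↥B := Fintype.ofFinite _
  set e := Nat.card ↥π.range with he
  have hprod : Nat.card ↥E = e * Nat.card ↥π.ker := by
    rw [card_eq_card_quotient_mul_card_subgroup π.ker]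
    exact congrArg (· * _) (Nat.card_congr (QuotientGroup.quotientKerEquivRange π).toEquiv)
  have hord : ∀ x ∈ E, (∃ b ∈ B, x * b * x⁻¹ ≠ b) → orderOf x = 2 := fun x hx ⟨b, hb, hne⟩ =>
    orderOf_eq_prime (p := 2) (by rw [sq]; exact hE2 x hx) fun e => hne (by rw [e]; group)
  -- the order of the image divides sixteen
  have hdiv : e ∣ 16 := by
    haveI : Fintype ↥π.range := Fintype.ofFinite _
    haveI : Fintype (MulAction.orbitRel.Quotient ↥π.range ↥B) := Fintype.ofFinite _
    have hburn := MulAction.sum_card_fixedBy_eq_card_orbits_mul_card_group ↥π.range ↥B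
    have hterm : ∀ g : ↥π.range, Fintype.card ↥(MulAction.fixedBy ↥B g) = if g = 1 then 22 else 6 := by
      intro g
      rw [← Nat.card_eq_fintype_card]
      split_ifs with hg
      · subst hg
        rw [show MulAction.fixedBy ↥B (1 : ↥π.range) = Set.univ from Set.eq_univ_of_forall fun b => one_smul _ b,
          Nat.card_univ, Nat.card_coe_set_eq, hB.ncard_eq h]
      · obtain ⟨x, hx⟩ := g.2
        have hmv : ∃ b ∈ B, x.1 * b * x.1⁻¹ ≠ b := by
          by_contra hcon
          push Not at hcon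
          refine hg (Subtype.ext (hx ▸ Equiv.ext fun b => Subtype.ext ?_))
          show ((x • b : ↥B) : G) = _
          rw [hsmul, hcon b.1 b.2]; rfl
        rw [← hB.fixed_six h (hord x.1 x.2 hmv) (hst x.1 x.2) hmv, Nat.card_coe_set_eq]
        refine Set.ncard_congr (fun b _ => b.1) ?_ (fun a b _ _ e => Subtype.ext e) ?_
        · intro b hb
          refine ⟨b.2, ?_⟩
          have hb' : g.1 b = b := hb
          rw [← hx] at hb'
          exact (hsmul x b).symm.trans (congrArg Subtype.val hb')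
        · rintro b ⟨hb, hfix⟩
          refine ⟨⟨b, hb⟩, ?_, rfl⟩
          show g.1 ⟨b, hb⟩ = ⟨b, hb⟩
          rw [← hx]
          exact Subtype.ext ((hsmul x ⟨b, hb⟩).trans hfix)
    rw [Finset.sum_congr rfl fun g _ => hterm g, Finset.sum_ite, Finset.sum_const, Finset.sum_const,
      Finset.filter_eq', if_pos (Finset.mem_univ _), Finset.card_singleton,
      show Finset.univ.filter (fun g : ↥π.range => ¬ g = 1) = Finset.univ.erase 1 by
        ext g; simp,
      Finset.card_erase_of_mem (Finset.mem_univ _), Finset.card_univ, ← Nat.card_eq_fintype_card,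
      ← Nat.card_eq_fintype_card, ← he, smul_eq_mul, smul_eq_mul, one_mul] at hburn
    have hpos : 1 ≤ e := Nat.card_pos
    refine (Nat.dvd_add_left (Dvd.intro 6 rfl : e ∣ e * 6)).1 ⟨Nat.card (MulAction.orbitRel.Quotient ↥π.range ↥B), ?_⟩
    rw [mul_comm e (Nat.card _), ← hburn]
    omega
  -- the kernel is centralised
  have hker : ∀ x : ↥E, x ∈ π.ker → x.1 ∈ closure B ⊓ centralizer ({t} : Set G) := fun x hx =>
    ⟨hB.mem_closure h (hE2 _ x.2) fun b hb => mul_inv_eq_iff_eq_mul.1
      ((hsmul x ⟨b, hb⟩).symm.trans (congrArg Subtype.val (Equiv.ext_iff.1 hx ⟨b, hb⟩))),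
      mem_centralizer_singleton_iff.2 (hEc _ x.2 _ ht).eq⟩
  set A := closure B
  have hApos : 0 < Nat.card ↥A := Nat.card_pos
  have hCt := hB.card_fix_le h (hord t ht ⟨b, hb, hne⟩) (hst t ht) ⟨b, hb, hne⟩
  have hk : Nat.card ↥π.ker ≤ Nat.card ↥(A ⊓ centralizer ({t} : Set G)) :=
    Nat.card_le_card_of_injective (fun x => ⟨x.1.1, hker x.1 x.2⟩)
      fun x y e => Subtype.ext (Subtype.ext (congrArg Subtype.val e :))
  rw [hprod]
  change 16 * Nat.card ↥(A ⊓ centralizer ({t} : Set G)) ≤ Nat.card ↥A at hCt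
  by_cases he8 : e ≤ 8
  · have : e * Nat.card ↥π.ker ≤ 8 * Nat.card ↥(A ⊓ centralizer ({t} : Set G)) := Nat.mul_le_mul he8 hk
    omega
  have he16 : e ≤ 16 := Nat.le_of_dvd (by norm_num) hdiv
  -- some element centralised by an involution of E is not centralised by E
  obtain ⟨v, hv, hvm, a, ha, hav, u, hu, hau⟩ : ∃ v ∈ E, (∃ c ∈ B, v * c * v⁻¹ ≠ c) ∧ ∃ a ∈ A,
      a ∈ centralizer ({v} : Set G) ∧ ∃ u ∈ E, ¬ Commute u a := by
    set b' := t * b * t⁻¹ with hb'
    have hb'B : b' ∈ B := hst t ht b hb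
    by_cases hcomm : ∃ u ∈ E, ¬ Commute u (b * b')
    · obtain ⟨u, hu, hau⟩ := hcomm
      refine ⟨t, ht, ⟨b, hb, hne⟩, b * b', mul_mem (subset_closure hb) (subset_closure hb'B),
        mem_centralizer_singleton_iff.2 ?_, u, hu, hau⟩
      have htt : t * t = 1 := hE2 t ht
      have hinv : t⁻¹ = t := inv_eq_of_mul_eq_one_right htt
      rw [hb', hinv]
      have hc : Commute b (t * b * t) := by
        have := hB.comm b hb b' hb'B
        rwa [hb', hinv] at this
      calc b * (t * b * t) * t = t * b * t * b * t := by rw [hc.eq]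
        _ = _ := by simp only [mul_assoc]
    push Not at hcomm
    -- every element fixes the pair, so some nontrivial one fixes b
    have hpair : ∀ u ∈ E, u * b * u⁻¹ = b ∨ u * b * u⁻¹ = b' := by
      intro u hu
      have hu1 := hst u hu b hb
      have hu2 := hst u hu b' hb'B
      have hne' : u * b * u⁻¹ ≠ u * b' * u⁻¹ := fun e => hne ((mul_left_cancel (mul_right_cancel e)).symm)
      have hpu := pair_unique h.cls.1 h.twin (l := [u * b * u⁻¹, u * b' * u⁻¹]) (l' := [b, b']) rfl rfl
        (by simpa using hne') (by simpa using Ne.symm hne)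
        (by simp [hB.sub hu1, hB.sub hu2]) (by simp [hB.sub hb, hB.sub hb'B])
        (fun x hx y hy => hB.comm x (by simp at hx; rcases hx with rfl | rfl <;> [exact hu1; exact hu2]) y
          (by simp at hy; rcases hy with rfl | rfl <;> [exact hu1; exact hu2]))
        (fun x hx y hy => hB.comm x (by simp at hx; rcases hx with rfl | rfl <;> [exact hb; exact hb'B]) y
          (by simp at hy; rcases hy with rfl | rfl <;> [exact hb; exact hb'B]))
        (by
          simp only [List.prod_cons, List.prod_nil, mul_one]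
          calc u * b * u⁻¹ * (u * b' * u⁻¹) = u * (b * b') * u⁻¹ := by group
            _ = b * b' := by rw [(hcomm u hu).eq, mul_inv_cancel_right])
      simpa using (hpu (u * b * u⁻¹)).1 (by simp)
    obtain ⟨g, hg1, hgt⟩ : ∃ g : ↥π.range, g ≠ 1 ∧ g ≠ ⟨π ⟨t, ht⟩, _, rfl⟩ := by
      haveI : Fintype ↥π.range := Fintype.ofFinite _
      by_contra hcon
      push Not at hcon
      have hsub : (Finset.univ : Finset ↥π.range) ⊆ {1, ⟨π ⟨t, ht⟩, _, rfl⟩} := fun g _ => by
        rw [Finset.mem_insert, Finset.mem_singleton]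
        by_cases hg : g = 1
        · exact Or.inl hg
        · exact Or.inr (hcon g hg)
      have := (Finset.card_le_card hsub).trans Finset.card_le_two
      rw [Finset.card_univ, ← Nat.card_eq_fintype_card] at this
      omega
    obtain ⟨x, hx⟩ := g.2
    have hxmv : ∃ c ∈ B, x.1 * c * x.1⁻¹ ≠ c := by
      by_contra hcon
      push Not at hcon
      refine hg1 (Subtype.ext (hx ▸ Equiv.ext fun c => Subtype.ext ?_))
      show ((x • c : ↥B) : G) = _
      rw [hsmul, hcon c.1 c.2]; rfl
    have hvfix : ∃ v ∈ E, (∃ c ∈ B, v * c * v⁻¹ ≠ c) ∧ v * b * v⁻¹ = b := by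
      rcases hpair x.1 x.2 with k | k
      · exact ⟨x.1, x.2, hxmv, k⟩
      refine ⟨t * x.1, mul_mem ht x.2, ?_, ?_⟩
      · by_contra hcon
        push Not at hcon
        refine hgt (Subtype.ext (hx ▸ Equiv.ext fun c => Subtype.ext ?_))
        show x.1 * c.1 * x.1⁻¹ = t * c.1 * t⁻¹
        calc x.1 * c.1 * x.1⁻¹ = t⁻¹ * (t * x.1 * c.1 * (t * x.1)⁻¹) * t := by group
          _ = t⁻¹ * c.1 * t := by rw [hcon c.1 c.2]
          _ = _ := by rw [inv_eq_of_mul_eq_one_right (hE2 t ht)]
      · calc t * x.1 * b * (t * x.1)⁻¹ = t * (x.1 * b * x.1⁻¹) * t⁻¹ := by group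
          _ = t * (t * b * t⁻¹) * t⁻¹ := by rw [k, hb']
          _ = (t * t) * b * (t * t)⁻¹ := by group
          _ = b := by rw [hE2 t ht]; group
    obtain ⟨v, hv, hvm, hvb⟩ := hvfix
    exact ⟨v, hv, hvm, b, subset_closure hb, mem_centralizer_singleton_iff.2 (mul_inv_eq_iff_eq_mul.1 hvb).symm,
      t, ht, fun hc => hne (by rw [hb', hc.eq, mul_inv_cancel_right])⟩
  set Cv := A ⊓ centralizer ({v} : Set G)
  set CE := A ⊓ centralizer (E : Set G)
  have hle : CE ≤ Cv := fun z hz => ⟨hz.1, mem_centralizer_singleton_iff.2 (mem_centralizer_iff.1 hz.2 v hv).symm⟩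
  have hlt : CE < Cv := lt_of_le_of_ne hle fun e => hau (by
    have hz : a ∈ CE := e.symm ▸ (⟨ha, hav⟩ : a ∈ Cv)
    exact mem_centralizer_iff.1 hz.2 u hu)
  have h2 : 2 * Nat.card ↥CE ≤ Nat.card ↥Cv := by
    have hd := Subgroup.card_dvd_of_le hle
    obtain ⟨m, hm⟩ := hd
    have hne1 : m ≠ 1 := fun e1 => by
      rw [e1, mul_one] at hm
      exact hlt.ne (Subgroup.eq_of_le_of_card_ge hle hm.le)
    have hne0 : m ≠ 0 := fun e0 => by rw [e0, mul_zero] at hm; exact Nat.card_pos.ne' hm
    rw [hm, mul_comm]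
    exact Nat.mul_le_mul_left _ (by omega)
  have hk' : Nat.card ↥π.ker ≤ Nat.card ↥CE :=
    Nat.card_le_card_of_injective (fun x => ⟨x.1.1, (hker x.1 x.2).1,
        mem_centralizer_iff.2 fun w hw => (hEc w hw _ x.1.2).eq⟩)
      fun x y e => Subtype.ext (Subtype.ext (congrArg Subtype.val e :))
  have hCv := hB.card_fix_le h (hord v hv hvm) (hst v hv) hvm
  have : e * Nat.card ↥π.ker ≤ 16 * Nat.card ↥CE := Nat.mul_le_mul he16 hk'
  change 16 * Nat.card ↥Cv ≤ Nat.card ↥A at hCv
  omega

end IsMaxClique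

end Cfsg.Lib.ThreeTr
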