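import Cfsg.Agent.ThreeTransposition.M22Count.Involutions

/-!
A group of type M(22) has only one generating class of 3-transpositions.
-/

set_option autoImplicit false
set_option linter.unusedSectionVars false
set_option linter.style.haveILetI false

namespace Cfsg.Lib.ThreeTr

open Cfsg Subgroup

universe u

variable {G : Type u} [Group G] {D D' : Set G}

namespace M22

variable [Finite G] (h : M22 D) (hD' : IsThreeTranspositionClass D')
include h hD'

theorem desc_class {a : G} (ha : a ∈ D) {x : ↥(closure (perp D a))} (hx : (x : G) ∈ D')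
    (hxc : x ∉ center ↥(closure (perp D a))) :
    (QuotientGroup.mk x : _ ⧸ center ↥(closure (perp D a))) ∈ descSet D a := by
  obtain ⟨-, hsimp, hZ, -⟩ := h.rich a ha
  haveI := hsimp
  set T : Set (↥(closure (perp D a)) ⧸ center ↥(closure (perp D a))) := {q | ∃ z : ↥(closure (perp D a)), (z : G) ∈ D' ∧ z ∉ center ↥(closure (perp D a)) ∧ QuotientGroup.mk z = q}
  have hset : IsThreeTranspositionSet T := by
    refine ⟨?_, ?_⟩
    · rintro _ ⟨z, hz, hzc, rfl⟩
      refine orderOf_eq_prime (p := 2) ?_ fun e => hzc ((QuotientGroup.eq_one_iff z).1 e)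
      rw [← QuotientGroup.mk_pow, show z ^ 2 = 1 from Subtype.ext (by simpa [sq] using sq_eq_one hD'.1 hz),
        QuotientGroup.mk_one]
    · rintro _ ⟨z, hz, -, rfl⟩ _ ⟨w, hw, -, rfl⟩
      rcases hD'.1.2 _ hz _ hw with e | e
      · left
        rw [← QuotientGroup.mk_mul, ← QuotientGroup.mk_pow, show (z * w) ^ 2 = 1 from Subtype.ext (by simpa using e),
          QuotientGroup.mk_one]
      · right
        rw [← QuotientGroup.mk_mul, ← QuotientGroup.mk_pow, show (z * w) ^ 3 = 1 from Subtype.ext (by simpa using e),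
          QuotientGroup.mk_one]
  have hconjT : ∀ g : ↥(closure (perp D a)) ⧸ center ↥(closure (perp D a)), ∀ t ∈ T, g * t * g⁻¹ ∈ T := by
    rintro g _ ⟨z, hz, hzc, rfl⟩
    obtain ⟨g, rfl⟩ := QuotientGroup.mk_surjective g
    refine ⟨g * z * g⁻¹, by simpa using conj_mem hD' (g : G) hz, fun e => hzc ?_, rfl⟩
    have := (inferInstance : (center ↥(closure (perp D a))).Normal).conj_mem _ e g⁻¹
    rwa [show g⁻¹ * (g * z * g⁻¹) * g⁻¹⁻¹ = z by group] at this
  have hgen : closure T = ⊤ := by
    haveI : (closure T).Normal := by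
      refine ⟨fun n hn g => ?_⟩
      induction hn using closure_induction with
      | mem n hn => exact subset_closure (hconjT g n hn)
      | one => simp
      | mul u v _ _ hu hv =>
        rw [show g * (u * v) * g⁻¹ = g * u * g⁻¹ * (g * v * g⁻¹) by group]; exact mul_mem hu hv
      | inv u _ hu => rw [show g * u⁻¹ * g⁻¹ = (g * u * g⁻¹)⁻¹ by group]; exact inv_mem hu
    refine (IsSimpleGroup.eq_bot_or_eq_top_of_normal (closure T) inferInstance).resolve_left fun e => hxc ?_
    have h1 : (QuotientGroup.mk x : ↥(closure (perp D a)) ⧸ center ↥(closure (perp D a))) ∈ closure T := subset_closure ⟨x, hx, hxc, rfl⟩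
    rw [e, mem_bot] at h1
    exact (QuotientGroup.eq_one_iff x).1 h1
  obtain ⟨F, _, _, H, π, vec, hM⟩ := h.exists_model ha
  have e1 := hM.six.class_eq π hM.surj hM.ker (class_of_simple hset hconjT hgen hZ).1
  have e2 := hM.six.class_eq π hM.surj hM.ker (h.desc_rich ha).cls
  rw [e2, ← e1]
  exact ⟨x, hx, hxc, rfl⟩

theorem class_shape {a x : G} (ha : a ∈ D) (hx : x ∈ D') (hxK : x ∈ closure (perp D a)) :
    x = a ∨ ∃ y ∈ perp D a, x = y ∨ x = y * a := by
  set X : ↥(closure (perp D a)) := ⟨x, hxK⟩ with hX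
  by_cases hxc : X ∈ center ↥(closure (perp D a))
  · refine Or.inl ((h.eq_one_or_self ha (closure_perp_commute hxK).symm fun e he =>
      congrArg Subtype.val (mem_center_iff.1 hxc ⟨e, subset_closure he⟩)).resolve_left fun e => ?_)
    have h2 := hD'.1.1 x hx
    rw [e, orderOf_one] at h2
    norm_num at h2
  obtain ⟨y, hy, hye⟩ := h.desc_class hD' ha (x := X) hx hxc
  have hc := QuotientGroup.eq.1 hye
  refine Or.inr ⟨y, hy, ?_⟩
  rcases h.eq_one_or_self ha (closure_perp_commute (SetLike.coe_mem (y⁻¹ * X))).symm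
      (fun e he => congrArg Subtype.val (mem_center_iff.1 hc ⟨e, subset_closure he⟩)) with e | e
  · rw [coe_mul, coe_inv] at e
    exact Or.inl (inv_mul_eq_one.1 e).symm
  · rw [coe_mul, coe_inv, inv_mul_eq_iff_eq_mul] at e
    exact Or.inr e

omit [Finite G] in
theorem eq_of_mem {x : G} (hx : x ∈ D) (hx' : x ∈ D') : D' = D := by
  refine Set.Subset.antisymm (fun z hz => ?_) fun z hz => ?_
  · obtain ⟨g, rfl⟩ := exists_conj hD' hx' hz
    exact conj_mem h.cls g hx
  · obtain ⟨g, rfl⟩ := exists_conj h.cls hx hz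
    exact conj_mem hD' g hx'

theorem class_unique : D' = D := by
  obtain ⟨x₀, hx₀, -⟩ := hD'.2.1
  obtain ⟨l, hn, h1, h3, hlD, hc, hp⟩ := h.involution_form (hD'.1.1 x₀ hx₀)
  obtain ⟨a, t, rfl⟩ := List.exists_cons_of_length_pos h1
  have ha : a ∈ D := hlD a (by simp)
  have hxK : x₀ ∈ closure (perp D a) := by
    rw [← hp]
    exact list_prod_mem fun y hy => h.mem_of_commute ha (hlD y hy) (hc y hy a (by simp))
  rcases h.class_shape hD' ha hx₀ hxK with e | ⟨y, hy, e | e⟩
  · exact h.eq_of_mem hD' ha (e ▸ hx₀)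
  · exact h.eq_of_mem hD' hy.1 (e ▸ hx₀)
  have hpairs : ∀ u ∈ D, ∀ v ∈ perp D u, u * v ∈ D' := by
    intro u hu v hv
    obtain ⟨g, rfl, rfl⟩ := h.pair_transitive hy.1 (show a ∈ perp D y from ⟨ha, hy.2.1.symm, hy.2.2.symm⟩) hu hv
    have := conj_mem hD' g hx₀
    rwa [e, show g * (y * a) * g⁻¹ = g * y * g⁻¹ * (g * a * g⁻¹) by group] at this
  exfalso
  obtain ⟨c, hcp, -⟩ : ∃ c ∈ perp D a, True := by
    obtain ⟨c, hc⟩ := Set.nonempty_of_ncard_ne_zero (s := perp D a) (by rw [h.ncard_perp ha]; norm_num)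
    exact ⟨c, hc, trivial⟩
  have h181 := h.ncard_one ha hcp
  obtain ⟨d, hd, hdc⟩ := Set.exists_ne_of_one_lt_ncard (s := {y : G | y ∈ perp D a ∧ Commute y c}) (by omega) c
  have hcd : d ∈ perp D c := ⟨hd.1.1, hdc, hd.2.symm⟩
  have hn2 : [c, d].Nodup := by simp [hdc.symm]
  have hD2 : ∀ z ∈ [c, d], z ∈ D := by
    intro z hz
    simp only [List.mem_cons, List.not_mem_nil, or_false] at hz
    rcases hz with rfl | rfl
    exacts [hcp.1, hd.1.1]
  have hc2 : ∀ z ∈ [c, d], ∀ w ∈ [c, d], Commute z w := by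
    intro z hz w hw
    simp only [List.mem_cons, List.not_mem_nil, or_false] at hz hw
    rcases hz with rfl | rfl <;> rcases hw with rfl | rfl
    exacts [Commute.refl _, hd.2.symm, hd.2, Commute.refl _]
  have hne1 : ∀ f ∈ D, c * d ≠ f := fun f hf e' => by
    have := h.length_unique hn2 hD2 hc2 (by simp) (by simp) (List.nodup_singleton f)
      (fun z hz => List.mem_singleton.1 hz ▸ hf)
      (fun z hz w hw => by rw [List.mem_singleton.1 hz, List.mem_singleton.1 hw]) (by simp) (by simp) (by simp [e'])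
    simp at this
  rcases h.class_shape hD' ha (hpairs c hcp.1 d hcd)
      (mul_mem (subset_closure hcp) (subset_closure hd.1)) with e' | ⟨f, hf, e' | e'⟩
  · exact hne1 a ha e'
  · exact hne1 f hf.1 e'
  have hpair := pair_unique h.cls.1 h.twin (l := [c, d]) (l' := [f, a]) rfl rfl hn2 (by simp [hf.2.1]) hD2
    (by
      intro z hz
      simp only [List.mem_cons, List.not_mem_nil, or_false] at hz
      rcases hz with rfl | rfl
      exacts [hf.1, ha])
    hc2
    (by
      intro z hz w hw
      simp only [List.mem_cons, List.not_mem_nil, or_false] at hz hw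
      rcases hz with rfl | rfl <;> rcases hw with rfl | rfl
      exacts [Commute.refl _, hf.2.2.symm, hf.2.2, Commute.refl _])
    (by simpa using e')
  have := (hpair a).2 (by simp)
  simp only [List.mem_cons, List.not_mem_nil, or_false] at this
  rcases this with rfl | rfl
  exacts [hcp.2.1 rfl, hd.1.2.1 rfl]

end M22

end Cfsg.Lib.ThreeTr
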