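import Cfsg.Agent.ThreeTransposition.M22Count.Involutions

/-!
Maximal sets of pairwise commuting members in a class of type M(22): they have twenty-two members, every other
member commutes with none or with six of them, some member commutes with none, and the neighbours of the same kind
of such a member are its conjugates by products of pairs.
-/

set_option autoImplicit false
set_option linter.unusedSectionVars false
set_option linter.style.haveILetI false

namespace Cfsg.Lib.ThreeTr

open Cfsg Subgroup Cfsg.Lib.Classical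

attribute [local instance] _root_.Classical.propDecidable

universe u

variable {G : Type u} [Group G] {D B : Set G}

/-- A maximal set of pairwise commuting members. -/
structure IsMaxClique (D B : Set G) : Prop where
  sub : B ⊆ D
  comm : ∀ x ∈ B, ∀ y ∈ B, Commute x y
  max : ∀ y ∈ D, (∀ b ∈ B, Commute y b) → y ∈ B

namespace IsMaxClique

variable [Finite G] (hB : IsMaxClique D B) (h : M22 D)
include hB h

theorem nonempty : B.Nonempty := by
  obtain ⟨d, hd, -⟩ := h.cls.2.1
  by_contra he
  rw [Set.not_nonempty_iff_eq_empty] at he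
  have := hB.max d hd (by simp [he])
  simp [he] at this

/-- In the neighbourhood of a member the clique is a totally isotropic plane. -/
theorem exists_plane_model {a : G} (ha : a ∈ B) :
    ∃ (F : Type) (_ : Field F) (_ : Fintype F) (H : HermSpace F (Fin 6 → F))
      (π : H.SIsom →* ↥(closure (perp D a)) ⧸ center ↥(closure (perp D a))) (vec : G → (Fin 6 → F))
      (W : Submodule F (Fin 6 → F)), IsModel D a H π vec ∧ H.orth W = W ∧ Module.finrank F W = 3 ∧
      ∀ x ∈ perp D a, (vec x ∈ W ↔ x ∈ B) := by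
  have haD := hB.sub ha
  obtain ⟨F, _, _, H, π, vec, hM⟩ := h.exists_model haD
  have hS := hM.six
  haveI := hS.fd
  have hin : ∀ b ∈ B, b ≠ a → b ∈ perp D a := fun b hb hne => ⟨hB.sub hb, hne, hB.comm a ha b hb⟩
  set W := Submodule.span F (vec '' (B \ {a}))
  have hle : W ≤ H.orth W := by
    rw [Submodule.span_le]
    rintro _ ⟨x, ⟨hx, hxa⟩, rfl⟩
    rw [SetLike.mem_coe, H.mem_orth_span]
    rintro _ ⟨y, ⟨hy, hya⟩, rfl⟩
    exact (hM.comm_iff h haD (hin x hx hxa) (hin y hy hya)).1 (hB.comm x hx y hy)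
  -- an isotropic vector orthogonal to the plane lies in it
  have hmax : ∀ v ∈ H.orth W, H.h v v = 0 → v ∈ W := by
    intro v hv hvv
    by_cases hv0 : v = 0
    · exact hv0 ▸ W.zero_mem
    obtain ⟨x, hx, t, ht, rfl⟩ := hM.cover v hv0 hvv
    have hxo : vec x ∈ H.orth W := by
      have := (H.orth W).smul_mem t⁻¹ hv
      rwa [smul_smul, inv_mul_cancel₀ ht, one_smul] at this
    have hxB : x ∈ B := hB.max x hx.1 fun b hb => by
      by_cases e : b = a
      · exact e ▸ hx.2.2.symm
      · exact (hM.comm_iff h haD hx (hin b hb e)).2 (hxo _ (Submodule.subset_span ⟨b, ⟨hb, e⟩, rfl⟩))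
    exact W.smul_mem t (Submodule.subset_span ⟨x, ⟨hxB, hx.2.1⟩, rfl⟩)
  have hle3 : Module.finrank F W ≤ 3 := by
    have := Submodule.finrank_mono hle
    rw [H.finrank_orth, hS.dim] at this
    omega
  have h3 : Module.finrank F W = 3 := by
    by_contra hne
    have hlt : Module.finrank F W ≤ 2 := by omega
    have ho : 4 ≤ Module.finrank F (H.orth W) := by rw [H.finrank_orth, hS.dim]; omega
    have hnot : ¬ H.orth W ≤ W := fun e => by have := Submodule.finrank_mono e; omega
    obtain ⟨v, hv, hvW⟩ := SetLike.not_le_iff_exists.1 hnot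
    have hvv : H.h v v ≠ 0 := fun e => hvW (hmax v hv e)
    set U := H.orth W ⊓ H.orth (Submodule.span F {v})
    have hU : ¬ U ≤ W := fun e => by
      have h1 := Submodule.finrank_mono e
      have h2 := Submodule.finrank_sup_add_finrank_inf_eq (H.orth W) (H.orth (Submodule.span F {v}))
      have h3 := Submodule.finrank_le (H.orth W ⊔ H.orth (Submodule.span F {v}))
      have h4 : 5 ≤ Module.finrank F (H.orth (Submodule.span F {v})) := by
        rw [H.finrank_orth, hS.dim]
        have := finrank_span_le_card (R := F) ({v} : Set (Fin 6 → F))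
        simp at this
        omega
      rw [hS.dim] at h3
      change Module.finrank F U ≤ _ at h1
      change _ + Module.finrank F U = _ at h2
      omega
    obtain ⟨w, hw, hwW⟩ := SetLike.not_le_iff_exists.1 hU
    have hww : H.h w w ≠ 0 := fun e => hwW (hmax w hw.1 e)
    have hwv : H.h w v = 0 := hw.2 v (Submodule.mem_span_singleton_self v)
    -- both norms are the unit of the fixed field
    have hone : ∀ u, H.h u u ≠ 0 → H.h u u = 1 := by
      intro u hu
      have h1 := hS.norm _ hu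
      rw [← H.symm] at h1
      have h2 : (H.h u u + 1) * (H.h u u + 1) = 0 := by linear_combination h1 + (H.h u u + 1) * hS.two
      linear_combination mul_self_eq_zero.mp h2 - hS.two
    have hsum : v + w ∈ W := hmax _ ((H.orth W).add_mem hv hw.1) (by
      rw [H.add_left, H.add_right, H.add_right, hwv, H.eq_zero_symm hwv, hone v hvv, hone w hww, add_zero, zero_add,
        hS.add_self])
    have h1 := hle hsum v
    have h2 : H.h v (v + w) = 0 := hv (v + w) hsum
    rw [H.add_right, H.eq_zero_symm hwv, add_zero] at h2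
    exact hvv h2
  have horth : H.orth W = W := (Submodule.eq_of_le_of_finrank_le hle (by rw [H.finrank_orth, hS.dim, h3])).symm
  refine ⟨F, inferInstance, inferInstance, H, π, vec, W, hM, horth, h3, fun x hx => ⟨fun hxW => ?_, fun hxB =>
    Submodule.subset_span ⟨x, ⟨hxB, hx.2.1⟩, rfl⟩⟩⟩
  refine hB.max x hx.1 fun b hb => ?_
  by_cases e : b = a
  · exact e ▸ hx.2.2.symm
  · exact (hM.comm_iff h haD hx (hin b hb e)).2 (hle hxW _ (Submodule.subset_span ⟨b, ⟨hb, e⟩, rfl⟩))

theorem ncard_eq : B.ncard = 22 := by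
  obtain ⟨a, ha⟩ := hB.nonempty h
  obtain ⟨F, _, _, H, π, vec, W, hM, horth, h3, hiff⟩ := hB.exists_plane_model h ha
  have hc := hM.card_points h (hB.sub ha) (fun v => v ∈ W) (fun c v hc => W.smul_mem_iff hc) W.zero_mem
  rw [show {v | H.h v v = 0 ∧ v ∈ W} = (W : Set (Fin 6 → F)) from Set.ext fun v =>
      ⟨fun h => h.2, fun hv => ⟨(horth.symm ▸ hv : v ∈ H.orth W) v hv, hv⟩⟩,
    ← Nat.card_coe_set_eq (W : Set (Fin 6 → F))] at hc
  rw [show Nat.card ↥(W : Set (Fin 6 → F)) = 4 ^ 3 by
    rw [← h3, ← hM.four]; exact Module.natCard_eq_pow_finrank (K := F) (V := W)] at hc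
  have e : {x : G | x ∈ perp D a ∧ vec x ∈ W} = B \ {a} := by
    ext x
    refine ⟨fun ⟨hx, hxW⟩ => ⟨(hiff x hx).1 hxW, hx.2.1⟩, fun ⟨hx, hne⟩ => ?_⟩
    have hp : x ∈ perp D a := ⟨hB.sub hx, hne, hB.comm a ha x hx⟩
    exact ⟨hp, (hiff x hp).2 hx⟩
  rw [e, Set.ncard_sdiff_singleton_of_mem ha] at hc
  have := Set.ncard_pos (Set.toFinite B) |>.2 ⟨a, ha⟩
  omega

/-- A member outside the clique commuting with one of its members commutes with six. -/
theorem six {y a : G} (hy : y ∈ D) (hyB : y ∉ B) (ha : a ∈ B) (hya : Commute y a) :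
    ({b : G | b ∈ B ∧ Commute b y}).ncard = 6 := by
  have haD := hB.sub ha
  obtain ⟨F, _, _, H, π, vec, W, hM, horth, h3, hiff⟩ := hB.exists_plane_model h ha
  haveI := hM.six.fd
  have hyp : y ∈ perp D a := ⟨hy, fun e => hyB (e ▸ ha), hya.symm⟩
  set W' := W ⊓ H.orth (Submodule.span F {vec y})
  have h2 : Module.finrank F W' = 2 := by
    have hlt : W' < W := by
      refine lt_of_le_of_ne inf_le_left fun e => hyB ((hiff y hyp).1 ?_)
      rw [← horth]
      intro w hw
      exact H.eq_zero_symm ((show w ∈ W' from e.symm ▸ hw).2 _ (Submodule.mem_span_singleton_self _))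
    have h1 := Submodule.finrank_lt_finrank_of_lt hlt
    have h4 := Submodule.finrank_sup_add_finrank_inf_eq W (H.orth (Submodule.span F {vec y}))
    have h5 := Submodule.finrank_le (W ⊔ H.orth (Submodule.span F {vec y}))
    have h6 : Module.finrank F (H.orth (Submodule.span F {vec y})) = 5 := by
      rw [H.finrank_orth, hM.six.dim, finrank_span_singleton (hM.vec_ne y hyp)]
    rw [hM.six.dim] at h5
    change _ + Module.finrank F W' = _ at h4
    omega
  have hc := hM.card_points h haD (fun v => v ∈ W') (fun c v hc => W'.smul_mem_iff hc) W'.zero_mem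
  rw [show {v | H.h v v = 0 ∧ v ∈ W'} = (W' : Set (Fin 6 → F)) from Set.ext fun v =>
      ⟨fun h => h.2, fun hv => ⟨(horth.symm ▸ hv.1 : v ∈ H.orth W) v hv.1, hv⟩⟩,
    show (W' : Set (Fin 6 → F)).ncard = 4 ^ 2 by
      rw [← Nat.card_coe_set_eq, ← h2, ← hM.four]; exact Module.natCard_eq_pow_finrank (K := F) (V := W')] at hc
  have e : {b : G | b ∈ B ∧ Commute b y} = insert a {x : G | x ∈ perp D a ∧ vec x ∈ W'} := by
    ext b
    constructor
    · rintro ⟨hb, hby⟩
      by_cases hba : b = a
      · exact Or.inl hba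
      refine Or.inr ?_
      have hp : b ∈ perp D a := ⟨hB.sub hb, hba, hB.comm a ha b hb⟩
      exact ⟨hp, (hiff b hp).2 hb, H.mem_orth_span.2 fun w hw => by
        rw [Set.mem_singleton_iff.1 hw]; exact (hM.comm_iff h haD hp hyp).1 hby⟩
    · rintro (rfl | ⟨hp, hW, ho⟩)
      · exact ⟨ha, hya.symm⟩
      · exact ⟨(hiff b hp).1 hW, (hM.comm_iff h haD hp hyp).2 (ho _ (Submodule.mem_span_singleton_self _))⟩
  rw [e, Set.ncard_insert_of_notMem (fun hh => hh.1.2.1 rfl) (Set.toFinite _)]
  omega

/-- A member commuting with a product of at most three members of the clique commutes with one of them. -/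
theorem exists_commute_of_prod {x : G} (hx : x ∈ D) {l : List G} (hn : l.Nodup) (hl : ∀ y ∈ l, y ∈ B)
    (h1 : 1 ≤ l.length) (h3 : l.length ≤ 3) (hc : Commute x l.prod) : ∃ y ∈ B, Commute x y := by
  have hE := h.cls.1
  match l, h1, h3 with
  | [a], _, _ => exact ⟨a, hl a (by simp), by simpa using hc⟩
  | [a, b], _, _ =>
    have ha := hl a (by simp); have hb := hl b (by simp)
    refine ⟨a, ha, ((commute_pair_iff hE (hB.sub ha) (hB.sub hb) hx (by simpa using hn) (hB.comm a ha b hb)).1 ?_).1⟩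
    simpa using hc
  | [a, b, c], _, _ =>
    obtain ⟨⟨hab, hac⟩, hbc⟩ : (a ≠ b ∧ a ≠ c) ∧ b ≠ c := by simpa using hn
    have ha := hl a (by simp); have hb := hl b (by simp); have hc' := hl c (by simp)
    refine ⟨a, ha, ((commute_triple_iff hE (hB.sub ha) (hB.sub hb) (hB.sub hc') hx hab hac hbc (hB.comm a ha b hb)
      (hB.comm a ha c hc') (hB.comm b hb c hc')).1 ?_).1⟩
    simpa [mul_assoc] using hc

/-- A product of four members of the clique is a product of one, two or three of them. -/
theorem four_in {a b c e : G} (hn : [a, b, c, e].Nodup) (hl : ∀ y ∈ [a, b, c, e], y ∈ B) :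
    ∃ m : List G, m.Nodup ∧ 1 ≤ m.length ∧ m.length ≤ 3 ∧ (∀ y ∈ m, y ∈ B) ∧ m.prod = a * b * c * e := by
  have hE := h.cls.1
  have hcm : ∀ x ∈ [a, b, c, e], ∀ y ∈ [a, b, c, e], Commute x y := fun x hx y hy =>
    hB.comm x (hl x hx) y (hl y hy)
  obtain ⟨m, hm, hmD, hmc, hmp⟩ := h.four_to_three hn (fun x hx => hB.sub (hl x hx)) hcm
  obtain ⟨m', hm', hml, hm'D, hm'c, hm'p⟩ := reduce_dup hE _ m le_rfl hmD hmc
  rw [hmp, show [a, b, c, e].prod = a * b * c * e by simp [mul_assoc]] at hm'p
  refine ⟨m', hm', ?_, hml.trans hm, fun y hy => hB.max y (hm'D y hy) fun f hf => ?_, hm'p⟩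
  · by_contra h0
    rw [List.eq_nil_of_length_eq_zero (show m'.length = 0 by omega), List.prod_nil] at hm'p
    have he : e ∈ D := hB.sub (hl e (by simp))
    have e3 : a * b * c = e := by rw [eq_inv_of_mul_eq_one_left hm'p.symm, inv_eq hE he]
    have := h.length_unique (l := [a, b, c]) (l' := [e]) (hn.sublist (by simp))
      (fun x hx => hB.sub (hl x (by
        simp only [List.mem_cons, List.not_mem_nil, or_false] at hx
        rcases hx with rfl | rfl | rfl <;> simp)))
      (fun x hx y hy => hcm x (by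
        simp only [List.mem_cons, List.not_mem_nil, or_false] at hx
        rcases hx with rfl | rfl | rfl <;> simp) y (by
        simp only [List.mem_cons, List.not_mem_nil, or_false] at hy
        rcases hy with rfl | rfl | rfl <;> simp))
      (by simp) (by simp) (List.nodup_singleton e) (by simpa using he) (by simp) (by simp) (by simp)
      (by simpa [mul_assoc] using e3)
    simp at this
  have hfc : Commute f m'.prod := by
    rw [hm'p]
    exact (((hB.comm f hf a (hl a (by simp))).mul_right (hB.comm f hf b (hl b (by simp)))).mul_right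
      (hB.comm f hf c (hl c (by simp)))).mul_right (hB.comm f hf e (hl e (by simp)))
  have hlen : m'.length ≤ 3 := hml.trans hm
  have hfD := hB.sub hf
  match m', hlen with
  | [], _ => simp at hy
  | [p], _ =>
    simp only [List.mem_singleton] at hy
    subst hy
    simpa using hfc.symm
  | [p, q], _ =>
    have := (commute_pair_iff hE (hm'D p (by simp)) (hm'D q (by simp)) hfD (by simpa using hm')
      (hm'c p (by simp) q (by simp))).1 (by simpa using hfc)
    simp only [List.mem_cons, List.not_mem_nil, or_false] at hy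
    rcases hy with rfl | rfl
    exacts [this.1.symm, this.2.symm]
  | [p, q, r], _ =>
    obtain ⟨⟨hpq, hpr⟩, hqr⟩ : (p ≠ q ∧ p ≠ r) ∧ q ≠ r := by simpa using hm'
    have := (commute_triple_iff hE (hm'D p (by simp)) (hm'D q (by simp)) (hm'D r (by simp)) hfD hpq hpr hqr
      (hm'c p (by simp) q (by simp)) (hm'c p (by simp) r (by simp)) (hm'c q (by simp) r (by simp))).1
      (by simpa [mul_assoc] using hfc)
    simp only [List.mem_cons, List.not_mem_nil, or_false] at hy
    rcases hy with rfl | rfl | rfl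
    exacts [this.1.symm, this.2.1.symm, this.2.2.symm]

/-- Some member commutes with no member of the clique. -/
theorem exists_free : ∃ x ∈ D, ∀ b ∈ B, ¬ Commute x b := by
  by_contra hcon
  push Not at hcon
  set Bf := (Set.toFinite B).toFinset with hBf
  have hmem : ∀ b, b ∈ Bf ↔ b ∈ B := fun b => Set.Finite.mem_toFinset _
  have hcard : Bf.card = 22 := by rw [← hB.ncard_eq h, hBf, Set.ncard_eq_toFinset_card B (Set.toFinite _)]
  set S := mem' D \ Bf
  have hS : S.card = 3488 := by
    obtain ⟨a₀, ha₀, c₀, hc₀, hac₀, -⟩ := h.type.2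
    rw [Finset.card_sdiff_of_subset (fun b hb => mem_mem'.2 (hB.sub ((hmem b).1 hb))), hcard,
      show (mem' D).card = D.ncard from (Set.ncard_eq_toFinset_card D (Set.toFinite _)).symm, h.card_eq ha₀ hc₀ hac₀]
  have h1 : ∀ y ∈ S, (Bf.filter fun b => Commute b y).card = 6 := by
    intro y hy
    obtain ⟨hyD, hyB⟩ := Finset.mem_sdiff.1 hy
    rw [mem_mem'] at hyD
    rw [hmem] at hyB
    obtain ⟨a, ha, hya⟩ := hcon y hyD
    rw [← hB.six h hyD hyB ha hya, ← Set.ncard_coe_finset]
    congr 1
    ext b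
    simp [hmem]
  have h2 : ∀ b ∈ Bf, (S.filter fun y => Commute b y).card = 672 := by
    intro b hb
    rw [hmem] at hb
    have e : S.filter (fun y => Commute b y) = nb D b \ Bf.erase b := by
      ext y
      simp only [S, Finset.mem_filter, Finset.mem_sdiff, mem_mem', mem_nb, Finset.mem_erase, hmem]
      constructor
      · rintro ⟨⟨hy, hyB⟩, hc⟩
        exact ⟨⟨hy, fun e => hyB (e ▸ hb), hc⟩, fun e => hyB e.2⟩
      · rintro ⟨⟨hy, hne, hc⟩, hyB⟩
        exact ⟨⟨hy, fun e => hyB ⟨hne, e⟩⟩, hc⟩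
    rw [e, Finset.card_sdiff_of_subset, Finset.card_erase_of_mem ((hmem b).2 hb), hcard, h.card_nb (hB.sub hb)]
    intro y hy
    rw [Finset.mem_erase, hmem] at hy
    exact mem_nb.2 ⟨hB.sub hy.2, hy.1, hB.comm b hb y hy.2⟩
  have key : ∑ y ∈ S, (Bf.filter fun b => Commute b y).card = ∑ b ∈ Bf, (S.filter fun y => Commute b y).card := by
    simp only [Finset.card_eq_sum_ones, Finset.sum_filter]
    exact Finset.sum_comm
  rw [Finset.sum_congr rfl h1, Finset.sum_congr rfl h2, Finset.sum_const, Finset.sum_const, hS, hcard] at key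
  norm_num at key

variable {x : G} (hx : x ∈ D) (hfree : ∀ b ∈ B, ¬ Commute x b)
include hx hfree

/-- Conjugates of a free member by products of pairs are different for different pairs. -/
theorem pair_eq {b d b' d' : G} (hb : b ∈ B) (hd : d ∈ B) (hb' : b' ∈ B) (hd' : d' ∈ B) (hbd : b ≠ d)
    (hbd' : b' ≠ d') (he : b * d * x * (b * d)⁻¹ = b' * d' * x * (b' * d')⁻¹) :
    (b' = b ∧ d' = d) ∨ (b' = d ∧ d' = b) := by
  have hE := h.cls.1
  have cbd := hB.comm b hb d hd
  have cbd' := hB.comm b' hb' d' hd'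
  have hw : Commute x (b' * d' * (b * d)) := by
    have hinv : (b' * d')⁻¹ = b' * d' := by
      rw [mul_inv_rev, inv_eq hE (hB.sub hb'), inv_eq hE (hB.sub hd'), cbd'.eq]
    rw [hinv] at he
    have h2 : b' * d' * (b' * d') = 1 := by
      calc _ = (b' * d')⁻¹ * (b' * d') := by rw [hinv]
        _ = 1 := inv_mul_cancel _
    show x * (b' * d' * (b * d)) = b' * d' * (b * d) * x
    calc x * (b' * d' * (b * d)) = (b' * d' * (b' * d')) * x * (b' * d') * (b * d) := by
          rw [h2, one_mul]; simp only [mul_assoc]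
      _ = b' * d' * (b' * d' * x * (b' * d')) * (b * d) := by simp only [mul_assoc]
      _ = b' * d' * (b * d * x * (b * d)⁻¹) * (b * d) := by rw [he]
      _ = _ := by group
  have hfix : ∀ {l : List G}, l.Nodup → (∀ y ∈ l, y ∈ B) → 1 ≤ l.length → l.length ≤ 3 → ¬ Commute x l.prod :=
    fun hn hl h1 h3 hc => by
      obtain ⟨y, hy, hcy⟩ := hB.exists_commute_of_prod h hx hn hl h1 h3 hc
      exact hfree y hy hcy
  have htwo : ∀ u ∈ B, ∀ v ∈ B, u ≠ v → ¬ Commute x (u * v) := fun u hu v hv hne hc =>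
    hfix (l := [u, v]) (by simpa using hne) (by simp [hu, hv]) (by simp) (by simp) (by simpa using hc)
  have sq : ∀ u ∈ B, u * u = 1 := fun u hu => sq_eq_one hE (hB.sub hu)
  by_cases e1 : b' = b
  · refine Or.inl ⟨e1, ?_⟩
    by_contra e2
    refine htwo d' hd' d hd e2 ?_
    subst e1
    rwa [cbd'.eq, show d' * b' * (b' * d) = d' * (b' * b') * d by simp only [mul_assoc], sq b' hb', mul_one] at hw
  by_cases e2 : b' = d
  · refine Or.inr ⟨e2, ?_⟩
    by_contra e3
    refine htwo d' hd' b hb e3 ?_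
    subst e2
    rwa [cbd'.eq, cbd.eq, show d' * b' * (b' * b) = d' * (b' * b') * b by simp only [mul_assoc], sq b' hb',
      mul_one] at hw
  exfalso
  by_cases e3 : d' = b
  · subst e3
    refine htwo b' hb' d hd e2 ?_
    rwa [show b' * d' * (d' * d) = b' * (d' * d') * d by simp only [mul_assoc], sq d' hd', mul_one] at hw
  by_cases e4 : d' = d
  · subst e4
    refine htwo b' hb' b hb e1 ?_
    rwa [cbd.eq, show b' * d' * (d' * b) = b' * (d' * d') * b by simp only [mul_assoc], sq d' hd', mul_one] at hw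
  obtain ⟨m, hm, h1, h3, hmB, hmp⟩ := hB.four_in h (a := b') (b := d') (c := b) (e := d)
    (by simp [hbd', e1, e2, e3, e4, hbd]) (by simp [hb, hd, hb', hd'])
  exact hfix hm hmB h1 h3 (by rw [hmp, mul_assoc]; exact hw)

theorem pair_conj_mem {b d : G} (hb : b ∈ B) (hd : d ∈ B) (hbd : b ≠ d) :
    b * d * x * (b * d)⁻¹ ∈ perp D x ∧ ∀ c ∈ B, ¬ Commute (b * d * x * (b * d)⁻¹) c := by
  have hE := h.cls.1
  have hbD := hB.sub hb
  have hdD := hB.sub hd
  refine ⟨⟨conj_mem h.cls _ hx, fun e => ?_, ?_⟩, fun c hc hcy => hfree c hc ?_⟩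
  · obtain ⟨y, hy, hcy⟩ := hB.exists_commute_of_prod h hx (l := [b, d]) (by simpa using hbd) (by simp [hb, hd])
      (by simp) (by simp) (by simpa [commute_iff_eq] using ((mul_inv_eq_iff_eq_mul.1 e).symm : x * (b * d) = b * d * x))
    exact hfree y hy hcy
  · rw [← conj_commute_iff b]
    have e1 : b * x * b⁻¹ = x * b * x := by
      rw [inv_eq hE hbD, braid hE hbD hx fun e => hfree b hb e.symm]
    have e2 : b * (b * d * x * (b * d)⁻¹) * b⁻¹ = x * d * x := by
      rw [mul_inv_rev, inv_eq hE hdD, inv_eq hE hbD,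
        show b * (b * d * x * (d * b)) * b = (b * b) * d * x * d * (b * b) by simp only [mul_assoc],
        sq_eq_one hE hbD, one_mul, mul_one, braid hE hdD hx fun e => hfree d hd e.symm]
    rw [e1, e2, ← inv_eq hE hx]
    simpa [inv_eq hE hx] using (conj_commute_iff x b d).2 (hB.comm b hb d hd)
  · have hcw : b * d * c * (b * d)⁻¹ = c := by
      rw [((hB.comm b hb c hc).mul_left (hB.comm d hd c hc)).eq, mul_inv_cancel_right]
    rw [← hcw] at hcy
    exact (conj_commute_iff (b * d) x c).1 hcy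

/-- The free neighbours of a free member. -/
theorem free_neighbour {y : G} (hy : y ∈ perp D x) (hyfree : ∀ b ∈ B, ¬ Commute y b) :
    ∃ b ∈ B, ∃ d ∈ B, b ≠ d ∧ y = b * d * x * (b * d)⁻¹ := by
  set Bf := (Set.toFinite B).toFinset with hBf
  have hmem : ∀ b, b ∈ Bf ↔ b ∈ B := fun b => Set.Finite.mem_toFinset _
  have hcard : Bf.card = 22 := by rw [← hB.ncard_eq h, hBf, Set.ncard_eq_toFinset_card B (Set.toFinite _)]
  set T := (nb D x).filter fun y => ∃ b ∈ B, Commute y b with hT
  have h1 : ∀ y ∈ T, (Bf.filter fun b => Commute b y).card = 6 := by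
    intro y hy
    rw [hT, Finset.mem_filter, mem_nb] at hy
    obtain ⟨hy, a, ha, hya⟩ := hy
    rw [← hB.six h hy.1 (fun e => hfree y e hy.2.2) ha hya, ← Set.ncard_coe_finset]
    congr 1
    ext b
    simp [hmem]
  have h2 : ∀ b ∈ Bf, (T.filter fun y => Commute b y).card = 126 := by
    intro b hb
    rw [hmem] at hb
    rw [← h.mu_eq hx (hB.sub hb) (hfree b hb), ← Set.ncard_coe_finset]
    congr 1
    ext y
    simp only [T, Finset.coe_filter, Finset.mem_filter, mem_nb, Set.mem_ofPred_eq, Set.mem_inter_iff]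
    exact ⟨fun ⟨⟨hy, _⟩, hc⟩ => ⟨hy, hy.1, fun e => hfree b hb (e ▸ hy.2.2), hc⟩,
      fun ⟨hy, hyb⟩ => ⟨⟨hy, b, hb, hyb.2.2.symm⟩, hyb.2.2⟩⟩
  have key : ∑ y ∈ T, (Bf.filter fun b => Commute b y).card = ∑ b ∈ Bf, (T.filter fun y => Commute b y).card := by
    simp only [Finset.card_eq_sum_ones, Finset.sum_filter]
    exact Finset.sum_comm
  rw [Finset.sum_congr rfl h1, Finset.sum_congr rfl h2, Finset.sum_const, Finset.sum_const, hcard,
    smul_eq_mul, smul_eq_mul] at key
  have hsplit := Finset.card_filter_add_card_filter_not (s := nb D x) (fun y => ∃ b ∈ B, Commute y b)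
  rw [← hT, h.card_nb hx] at hsplit
  set U := (nb D x).filter fun y => ¬ ∃ b ∈ B, Commute y b with hU
  set f : G × G → G := fun p => p.1 * p.2 * x * (p.1 * p.2)⁻¹
  have hoff : ∀ p : G × G, p ∈ Bf.offDiag → p.1 ∈ B ∧ p.2 ∈ B ∧ p.1 ≠ p.2 := fun p hp => by
    rw [Finset.mem_offDiag] at hp
    exact ⟨(hmem _).1 hp.1, (hmem _).1 hp.2.1, hp.2.2⟩
  have hfib := Finset.card_le_mul_card_image (f := f) Bf.offDiag 2 fun z hz => by
    obtain ⟨p, hp, rfl⟩ := Finset.mem_image.1 hz
    refine (Finset.card_le_card (t := {p, p.swap}) fun q hq => ?_).trans Finset.card_le_two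
    obtain ⟨hq, hqe⟩ := Finset.mem_filter.1 hq
    obtain ⟨p1, p2, p3⟩ := hoff p hp
    obtain ⟨q1, q2, q3⟩ := hoff q hq
    rw [Finset.mem_insert, Finset.mem_singleton]
    rcases hB.pair_eq h hx hfree p1 p2 q1 q2 p3 q3 hqe.symm with ⟨a, b⟩ | ⟨a, b⟩
    · exact Or.inl (Prod.ext a b)
    · exact Or.inr (Prod.ext a b)
  rw [Finset.offDiag_card, hcard] at hfib
  have hsub : Bf.offDiag.image f ⊆ U := fun z hz => by
    obtain ⟨p, hp, rfl⟩ := Finset.mem_image.1 hz
    obtain ⟨p1, p2, p3⟩ := hoff p hp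
    obtain ⟨k1, k2⟩ := hB.pair_conj_mem h hx hfree p1 p2 p3
    exact Finset.mem_filter.2 ⟨mem_nb.2 k1, fun ⟨c, hc, hcc⟩ => k2 c hc hcc⟩
  have heq := Finset.eq_of_subset_of_card_le hsub (by omega)
  have hyU : y ∈ U := Finset.mem_filter.2 ⟨mem_nb.2 hy, fun ⟨c, hc, hcc⟩ => hyfree c hc hcc⟩
  rw [← heq] at hyU
  obtain ⟨p, hp, rfl⟩ := Finset.mem_image.1 hyU
  obtain ⟨p1, p2, p3⟩ := hoff p hp
  exact ⟨p.1, p1, p.2, p2, p3, rfl⟩

end IsMaxClique

end Cfsg.Lib.ThreeTr
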