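import Cfsg.Agent.ThreeTransposition.M22Count.Bases

/-!
In a class of type M(22) the group is transitive on ordered commuting triples, and the centraliser of their product
has order 1769472.
-/

set_option autoImplicit false
set_option linter.unusedSectionVars false
set_option linter.style.haveILetI false

open scoped commutatorElement

namespace Cfsg.Lib.ThreeTr

open Cfsg Subgroup

attribute [local instance] _root_.Classical.propDecidable

universe u

variable {G : Type u} [Group G] {D : Set G}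

namespace M22

variable [Finite G] (h : M22 D)
include h

theorem desc_rich {p : G} (hp : p ∈ D) : Rich (descSet D p) := by
  obtain ⟨hcard, hsimp, hZ, -⟩ := h.rich p hp
  haveI := hsimp
  haveI := hsimp.toNontrivial
  obtain ⟨hcls, -⟩ := class_of_simple (descSet_set h.cls.1 fun x hx => h.not_center hp hx)
    (fun g x hx => conj_mem_descSet h.conj_D g hx) (closure_descSet p) hZ
  set Q := ↥(closure (perp D p)) ⧸ center ↥(closure (perp D p))
  have hab : ¬ ∀ x y : Q, x * y = y * x := fun hall => by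
    have : center Q = ⊤ := eq_top_iff.2 fun x _ => mem_center_iff.2 fun y => hall y x
    rw [hZ] at this
    exact bot_ne_top this
  have hc : commutator Q = ⊤ := (IsSimpleGroup.eq_bot_or_eq_top_of_normal _ inferInstance).resolve_left fun e =>
    hab fun x y => by
      have : ⁅x, y⁆ ∈ commutator Q := by
        rw [_root_.commutator_def]; exact commutator_mem_commutator (mem_top x) (mem_top y)
      rw [e, mem_bot, commutatorElement_eq_one_iff_mul_comm] at this
      exact this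
  refine (rich_of_simple hcls ?_ ?_).2.2
  · rw [hc]
    exact IsSimpleGroup.isSimpleGroup_of_surjective (Subgroup.topEquiv (G := Q)).symm.toMonoidHom
      Subgroup.topEquiv.symm.surjective
  · push Not at hab
    obtain ⟨x, y, hxy⟩ := hab
    exact ⟨⟨x, hc ▸ mem_top x⟩, ⟨y, hc ▸ mem_top y⟩, fun e => hxy (congrArg Subtype.val e)⟩

/-- Transitivity on ordered commuting pairs. -/
theorem pair_transitive {a b a' b' : G} (ha : a ∈ D) (hb : b ∈ perp D a) (ha' : a' ∈ D) (hb' : b' ∈ perp D a') :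
    ∃ g : G, g * a * g⁻¹ = a' ∧ g * b * g⁻¹ = b' := by
  obtain ⟨g₁, hg₁⟩ := exists_conj h.cls ha ha'
  have hb₁ : g₁ * b * g₁⁻¹ ∈ perp D a' := hg₁ ▸ conj_image_perp h.cls g₁ a ▸ ⟨b, hb, rfl⟩
  obtain ⟨g₂, hg₂, e₂⟩ := h.exists_pair.perp_transitive ha' hb₁ hb'
  refine ⟨g₂ * g₁, ?_, by rw [← e₂]; group⟩
  calc g₂ * g₁ * a * (g₂ * g₁)⁻¹ = g₂ * (g₁ * a * g₁⁻¹) * g₂⁻¹ := by group
    _ = a' := by rw [hg₁, (closure_perp_commute hg₂).eq, mul_inv_cancel_right]

/-- Transitivity on ordered commuting triples. -/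
theorem triple_transitive {a b c a' b' c' : G} (ha : a ∈ D) (hb : b ∈ perp D a) (hc : c ∈ perp D a)
    (hcb : c ∈ perp D b) (ha' : a' ∈ D) (hb' : b' ∈ perp D a') (hc' : c' ∈ perp D a') (hcb' : c' ∈ perp D b') :
    ∃ g : G, g * a * g⁻¹ = a' ∧ g * b * g⁻¹ = b' ∧ g * c * g⁻¹ = c' := by
  obtain ⟨g, hga, hgb⟩ := h.pair_transitive ha hb ha' hb'
  have hc₁ : g * c * g⁻¹ ∈ perp D a' := hga ▸ conj_image_perp h.cls g a ▸ ⟨c, hc, rfl⟩
  have hc₁b : g * c * g⁻¹ ∈ perp D b' := hgb ▸ conj_image_perp h.cls g b ▸ ⟨c, hcb, rfl⟩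
  set K := closure (perp D a')
  set π := QuotientGroup.mk' (center ↥K)
  let X : ↥K := ⟨g * c * g⁻¹, subset_closure hc₁⟩
  let Y : ↥K := ⟨c', subset_closure hc'⟩
  let B : ↥K := ⟨b', subset_closure hb'⟩
  have hE := h.cls.1
  have hperp : ∀ (Z : ↥K), (Z : G) ∈ perp D a' → (Z : G) ∈ perp D b' → π Z ∈ perp (descSet D a') (π B) := by
    intro Z hZ hZb
    refine ⟨⟨Z, hZ, rfl⟩, fun e => hZb.2.1 (congrArg Subtype.val (mk_injOn (x := Z) (y := B) hE h.conj_D hZ hb'
      (h.not_center ha' hZ) e)), (show Commute B Z from Subtype.ext hZb.2.2.eq).map π⟩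
  obtain ⟨q, hq, hqe⟩ := (h.desc_rich ha').perp_transitive (d := π B) ⟨B, hb', rfl⟩ (hperp X hc₁ hc₁b)
    (hperp Y hc' hcb')
  obtain ⟨k, rfl⟩ := QuotientGroup.mk'_surjective (center ↥K) q
  have hkB : k * B * k⁻¹ = B := by
    refine mk_injOn (x := k * B * k⁻¹) hE h.conj_D (by simpa using conj_mem_perp h.conj_D k.2 hb') hb'
      (h.not_center ha' (by simpa using conj_mem_perp h.conj_D k.2 hb')) ?_
    show π (k * B * k⁻¹) = π B
    rw [map_mul, map_mul, map_inv, (closure_perp_commute hq).eq, mul_inv_cancel_right]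
  have hkX : k * X * k⁻¹ = Y := by
    refine mk_injOn (x := k * X * k⁻¹) hE h.conj_D (by simpa using conj_mem_perp h.conj_D k.2 hc₁) hc'
      (h.not_center ha' (by simpa using conj_mem_perp h.conj_D k.2 hc₁)) ?_
    show π (k * X * k⁻¹) = π Y
    rw [map_mul, map_mul, map_inv]
    exact hqe
  refine ⟨(k : G) * g, ?_, ?_, ?_⟩
  · calc (k : G) * g * a * ((k : G) * g)⁻¹ = (k : G) * (g * a * g⁻¹) * (k : G)⁻¹ := by group
      _ = a' := by rw [hga, (closure_perp_commute k.2).eq, mul_inv_cancel_right]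
  · calc (k : G) * g * b * ((k : G) * g)⁻¹ = (k : G) * (g * b * g⁻¹) * (k : G)⁻¹ := by group
      _ = b' := by rw [hgb]; exact congrArg Subtype.val hkB
  · calc (k : G) * g * c * ((k : G) * g)⁻¹ = (k : G) * (g * c * g⁻¹) * (k : G)⁻¹ := by group
      _ = c' := congrArg Subtype.val hkX

omit h in
/-- The ordered commuting triples. -/
noncomputable def triples (D : Set G) : Finset (Σ _ : G, Σ _ : G, G) :=
  (mem' D).sigma fun a => (nb D a).sigma fun b => nb D a ∩ nb D b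

omit h in
theorem mem_triples {x : Σ _ : G, Σ _ : G, G} : x ∈ triples D ↔
    x.1 ∈ D ∧ x.2.1 ∈ perp D x.1 ∧ x.2.2 ∈ perp D x.1 ∧ x.2.2 ∈ perp D x.2.1 := by
  simp [triples, Finset.mem_sigma, mem_mem', mem_nb]

theorem card_triples {a : G} (ha : a ∈ D) : (triples D).card = 3510 * (693 * 180) := by
  obtain ⟨c, hc, hac⟩ : ∃ c ∈ D, ¬ Commute a c :=
    exists_not_commute h.cls (by obtain ⟨x, hx, y, hy, hne, -⟩ := h.exists_pair.pair; exact ⟨x, hx, y, hy, hne⟩) ha
  have h2 : ∀ p ∈ D, ∀ q ∈ perp D p, (nb D p ∩ nb D q).card = 180 := by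
    intro p hp q hq
    have e : nb D p ∩ nb D q = ((nb D p).filter fun y => Commute y q).erase q := by
      ext y
      simp only [Finset.mem_inter, mem_nb, Finset.mem_erase, Finset.mem_filter]
      exact ⟨fun ⟨h1, h2⟩ => ⟨h2.2.1, h1, h2.2.2.symm⟩, fun ⟨h1, h2, h3⟩ => ⟨h2, h2.1, h1, h3.symm⟩⟩
    rw [e, Finset.card_erase_of_mem (s := (nb D p).filter fun y => Commute y q)
      (Finset.mem_filter.2 ⟨mem_nb.2 hq, Commute.refl q⟩), h.nb_one hp hq]
  have h1 : ∀ p ∈ mem' D, ((nb D p).sigma fun b => nb D p ∩ nb D b).card = 693 * 180 := fun p hp => by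
    rw [Finset.card_sigma, Finset.sum_congr rfl (fun q hq => h2 p (mem_mem'.1 hp) q (mem_nb.1 hq)), Finset.sum_const,
      h.card_nb (mem_mem'.1 hp), smul_eq_mul]
  rw [triples, Finset.card_sigma, Finset.sum_congr rfl h1, Finset.sum_const, smul_eq_mul,
    h.card_members ha hc hac, h.card_nonperp ha hc hac]

omit [Finite G] h in
/-- The six orders of three members. -/
theorem six_orders {x y z : G} (hxy : x ≠ y) (hxz : x ≠ z) (hyz : y ≠ z) :
    ({⟨x, y, z⟩, ⟨x, z, y⟩, ⟨y, x, z⟩, ⟨y, z, x⟩, ⟨z, x, y⟩, ⟨z, y, x⟩} : Finset (Σ _ : G, Σ _ : G, G)).card = 6 := by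
  simp [hxy, hxy.symm, hxz, hxz.symm, hyz, hyz.symm]

omit [Finite G] h in
theorem mem_six_orders {x y z u v w : G} (huv : u ≠ v) (huw : u ≠ w) (hvw : v ≠ w)
    (hiff : ∀ t : G, t ∈ [u, v, w] ↔ t ∈ [x, y, z]) :
    (⟨u, v, w⟩ : Σ _ : G, Σ _ : G, G) ∈
      ({⟨x, y, z⟩, ⟨x, z, y⟩, ⟨y, x, z⟩, ⟨y, z, x⟩, ⟨z, x, y⟩, ⟨z, y, x⟩} : Finset (Σ _ : G, Σ _ : G, G)) := by
  have h1 := (hiff u).1 (by simp)
  have h2 := (hiff v).1 (by simp)
  have h3 := (hiff w).1 (by simp)
  simp only [List.mem_cons, List.not_mem_nil, or_false] at h1 h2 h3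
  simp only [Finset.mem_insert, Finset.mem_singleton]
  rcases h1 with rfl | rfl | rfl <;> rcases h2 with rfl | rfl | rfl <;> rcases h3 with rfl | rfl | rfl <;>
    simp_all

omit [Finite G] h in
theorem orders_iff {x y z : G} {t : Σ _ : G, Σ _ : G, G}
    (ht : t ∈ ({⟨x, y, z⟩, ⟨x, z, y⟩, ⟨y, x, z⟩, ⟨y, z, x⟩, ⟨z, x, y⟩, ⟨z, y, x⟩} : Finset (Σ _ : G, Σ _ : G, G)))
    (g : G) : g ∈ [x, y, z] ↔ g ∈ [t.1, t.2.1, t.2.2] := by
  simp only [Finset.mem_insert, Finset.mem_singleton] at ht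
  simp only [List.mem_cons, List.not_mem_nil, or_false]
  rcases ht with rfl | rfl | rfl | rfl | rfl | rfl
  · exact Iff.rfl
  · exact ⟨fun h => h.elim Or.inl fun h => Or.inr h.symm, fun h => h.elim Or.inl fun h => Or.inr h.symm⟩
  all_goals
    dsimp only
    constructor
    all_goals
      intro hg
      rcases hg with r | r | r <;> simp [r]

theorem centralizer_triple_card {a b c : G} (ha : a ∈ D) (hb : b ∈ perp D a) (hc : c ∈ perp D a)
    (hcb : c ∈ perp D b) : Nat.card ↥(centralizer ({a * b * c} : Set G)) = 1769472 := by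
  let φ : (Σ _ : G, Σ _ : G, G) → G := fun x => x.1 * x.2.1 * x.2.2
  let tl : (Σ _ : G, Σ _ : G, G) → List G := fun x => [x.1, x.2.1, x.2.2]
  have htl : ∀ x ∈ triples D, (tl x).Nodup ∧ (tl x).length = 3 ∧ (∀ y ∈ tl x, y ∈ D) ∧
      (∀ y ∈ tl x, ∀ z ∈ tl x, Commute y z) ∧ (tl x).prod = φ x := by
    rintro ⟨u, v, w⟩ hx
    obtain ⟨hu, hv, hw, hwv⟩ := mem_triples.1 hx
    refine ⟨by simp [tl, hv.2.1.symm, hw.2.1.symm, hwv.2.1.symm], rfl, ?_, ?_, by simp [tl, φ, mul_assoc]⟩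
    · intro y hy
      simp only [tl, List.mem_cons, List.not_mem_nil, or_false] at hy
      rcases hy with rfl | rfl | rfl
      exacts [hu, hv.1, hw.1]
    · intro y hy z hz
      simp only [tl, List.mem_cons, List.not_mem_nil, or_false] at hy hz
      rcases hy with rfl | rfl | rfl <;> rcases hz with rfl | rfl | rfl
      exacts [Commute.refl _, hv.2.2, hw.2.2, hv.2.2.symm, Commute.refl _, hwv.2.2, hw.2.2.symm, hwv.2.2.symm,
        Commute.refl _]
  have hfib : ∀ j ∈ (triples D).image φ, ((triples D).filter fun x => φ x = j).card = 12 := by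
    intro j hj
    obtain ⟨x₀, hx₀, rfl⟩ := Finset.mem_image.1 hj
    obtain ⟨l₁, l₂, hl₁, hl₂, hne, hall⟩ := m22_triples h.cls h.prim h.twin h.type (htl x₀ hx₀)
    obtain ⟨n₁, len₁, m₁, c₁, p₁⟩ := hl₁
    obtain ⟨n₂, len₂, m₂, c₂, p₂⟩ := hl₂
    obtain ⟨x, y, z, rfl⟩ := List.length_eq_three.1 len₁
    obtain ⟨x', y', z', rfl⟩ := List.length_eq_three.1 len₂
    obtain ⟨⟨hxy, hxz⟩, hyz⟩ : (x ≠ y ∧ x ≠ z) ∧ y ≠ z := by simpa using n₁
    obtain ⟨⟨hxy', hxz'⟩, hyz'⟩ : (x' ≠ y' ∧ x' ≠ z') ∧ y' ≠ z' := by simpa using n₂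
    have hin : ∀ {x y z : G}, x ≠ y → x ≠ z → y ≠ z → (∀ a ∈ [x, y, z], a ∈ D) →
        (∀ a ∈ [x, y, z], ∀ b ∈ [x, y, z], Commute a b) → [x, y, z].prod = φ x₀ →
        ({⟨x, y, z⟩, ⟨x, z, y⟩, ⟨y, x, z⟩, ⟨y, z, x⟩, ⟨z, x, y⟩, ⟨z, y, x⟩} : Finset (Σ _ : G, Σ _ : G, G)) ⊆
          (triples D).filter fun t => φ t = φ x₀ := by
      intro x y z hxy hxz hyz hm hc' hp t ht
      have hprod : x * y * z = φ x₀ := by rw [← hp]; simp [mul_assoc]
      have cxy : Commute x y := hc' x (by simp) y (by simp)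
      have cxz : Commute x z := hc' x (by simp) z (by simp)
      have cyz : Commute y z := hc' y (by simp) z (by simp)
      have hx := hm x (by simp); have hy := hm y (by simp); have hz := hm z (by simp)
      simp only [Finset.mem_insert, Finset.mem_singleton] at ht
      rw [Finset.mem_filter, mem_triples, ← hprod]
      rcases ht with rfl | rfl | rfl | rfl | rfl | rfl
      · exact ⟨⟨hx, ⟨hy, hxy.symm, cxy⟩, ⟨hz, hxz.symm, cxz⟩, hz, hyz.symm, cyz⟩, rfl⟩
      · exact ⟨⟨hx, ⟨hz, hxz.symm, cxz⟩, ⟨hy, hxy.symm, cxy⟩, hy, hyz, cyz.symm⟩, by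
          show x * z * y = x * y * z
          rw [mul_assoc, cyz.symm.eq, mul_assoc]⟩
      · exact ⟨⟨hy, ⟨hx, hxy, cxy.symm⟩, ⟨hz, hyz.symm, cyz⟩, hz, hxz.symm, cxz⟩, by
          show y * x * z = x * y * z
          rw [cxy.eq]⟩
      · exact ⟨⟨hy, ⟨hz, hyz.symm, cyz⟩, ⟨hx, hxy, cxy.symm⟩, hx, hxz, cxz.symm⟩, by
          show y * z * x = x * y * z
          rw [(cxy.symm.mul_left cxz.symm).eq, ← mul_assoc]⟩
      · exact ⟨⟨hz, ⟨hx, hxz, cxz.symm⟩, ⟨hy, hyz, cyz.symm⟩, hy, hxy.symm, cxy⟩, by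
          show z * x * y = x * y * z
          rw [mul_assoc, (cxz.symm.mul_right cyz.symm).eq]⟩
      · exact ⟨⟨hz, ⟨hy, hyz, cyz.symm⟩, ⟨hx, hxz, cxz.symm⟩, hx, hxy, cxy.symm⟩, by
          show z * y * x = x * y * z
          rw [cyz.symm.eq, (cxy.symm.mul_left cxz.symm).eq, ← mul_assoc]⟩
    set A : Finset (Σ _ : G, Σ _ : G, G) := {⟨x, y, z⟩, ⟨x, z, y⟩, ⟨y, x, z⟩, ⟨y, z, x⟩, ⟨z, x, y⟩, ⟨z, y, x⟩}
      with hA
    set B : Finset (Σ _ : G, Σ _ : G, G) :=
      {⟨x', y', z'⟩, ⟨x', z', y'⟩, ⟨y', x', z'⟩, ⟨y', z', x'⟩, ⟨z', x', y'⟩, ⟨z', y', x'⟩} with hB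
    have hset : (triples D).filter (fun t => φ t = φ x₀) = A ∪ B := by
      refine Finset.Subset.antisymm (fun t ht => ?_)
        (Finset.union_subset (hin hxy hxz hyz m₁ c₁ p₁) (hin hxy' hxz' hyz' m₂ c₂ p₂))
      obtain ⟨htT, hte⟩ := Finset.mem_filter.1 ht
      obtain ⟨n, ln, mt, ct, pt⟩ := htl t htT
      obtain ⟨hu, hv, hw, hwv⟩ := mem_triples.1 htT
      obtain ⟨u, v, w⟩ := t
      rcases hall (tl ⟨u, v, w⟩) ⟨n, ln, mt, ct, pt.trans hte⟩ with e | e
      · exact Finset.mem_union_left _ (mem_six_orders hv.2.1.symm hw.2.1.symm hwv.2.1.symm e)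
      · exact Finset.mem_union_right _ (mem_six_orders hv.2.1.symm hw.2.1.symm hwv.2.1.symm e)
    have hdisj : Disjoint A B := by
      rw [Finset.disjoint_left]
      intro t htA htB
      refine hne fun g => ?_
      exact (orders_iff htA g).trans (orders_iff htB g).symm
    rw [hset, Finset.card_union_of_disjoint hdisj, hA, hB, six_orders hxy hxz hyz, six_orders hxy' hxz' hyz']
  have horb : (((triples D).image φ : Finset G) : Set G) = MulAction.orbit (ConjAct G) (a * b * c) := by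
    ext j
    rw [ConjAct.mem_orbit_conjAct, isConj_comm, isConj_iff, Finset.mem_coe, Finset.mem_image]
    constructor
    · rintro ⟨⟨u, v, w⟩, hx, rfl⟩
      obtain ⟨hu, hv, hw, hwv⟩ := mem_triples.1 hx
      obtain ⟨g, rfl, rfl, rfl⟩ := h.triple_transitive ha hb hc hcb hu hv hw hwv
      exact ⟨g, by simp only [φ]; group⟩
    · rintro ⟨g, rfl⟩
      refine ⟨⟨g * a * g⁻¹, g * b * g⁻¹, g * c * g⁻¹⟩, mem_triples.2 ⟨conj_mem h.cls g ha,
        conj_image_perp h.cls g a ▸ ⟨b, hb, rfl⟩, conj_image_perp h.cls g a ▸ ⟨c, hc, rfl⟩,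
        conj_image_perp h.cls g b ▸ ⟨c, hcb, rfl⟩⟩, ?_⟩
      simp only [φ]; group
  have hcount := Finset.card_eq_sum_card_image φ (triples D)
  rw [h.card_triples ha, Finset.sum_congr rfl hfib, Finset.sum_const, smul_eq_mul] at hcount
  haveI : Finite (ConjAct G) := Finite.of_equiv _ ConjAct.toConjAct.toEquiv
  have h1 := MulAction.index_stabilizer (ConjAct G) (a * b * c)
  rw [← horb, Set.ncard_coe_finset] at h1
  have h2 : Nat.card ↥(MulAction.stabilizer (ConjAct G) (a * b * c)) = Nat.card ↥(centralizer ({a * b * c} : Set G)) :=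
    Nat.card_congr
      { toFun := fun g => ⟨ConjAct.ofConjAct g.1, mem_centralizer_singleton_iff.2 (by
          have := g.2
          rw [MulAction.mem_stabilizer_iff, ConjAct.smul_def] at this
          exact mul_inv_eq_iff_eq_mul.1 this)⟩
        invFun := fun g => ⟨ConjAct.toConjAct g.1, by
          rw [MulAction.mem_stabilizer_iff, ConjAct.smul_def, ConjAct.ofConjAct_toConjAct,
            mem_centralizer_singleton_iff.1 g.2, mul_inv_cancel_right]⟩
        left_inv := fun _ => rfl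
        right_inv := fun _ => rfl }
  have h3 := Subgroup.card_mul_index (MulAction.stabilizer (ConjAct G) (a * b * c))
  rw [h1, h2, Nat.card_congr ConjAct.ofConjAct.toEquiv, h.card_group ha] at h3
  set n := ((triples D).image φ).card
  have hn : n = 36486450 := by omega
  rw [hn] at h3
  omega

end M22

end Cfsg.Lib.ThreeTr
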