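import Cfsg.Agent.ThreeTransposition.M22Count.PointStab
import Cfsg.Agent.ThreeTransposition.RelationTypes

/-!
The members commuting with a given one, in a class of type M(22), seen as the isotropic points of the hermitian
space of dimension six over the field with four elements: counts of common neighbours, and stabilisers.
-/

set_option autoImplicit false
set_option linter.unusedSectionVars false
set_option linter.style.haveILetI false

namespace Cfsg.Lib.ThreeTr

open Cfsg Subgroup Cfsg.Lib.Classical Cfsg.Lib.TTUnitary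

universe u

variable {G : Type u} [Group G] {D : Set G}

/-- Primitive classes of type M(22). -/
structure M22 (D : Set G) : Prop where
  cls : IsThreeTranspositionClass D
  prim : IsPrimitiveUnderConj D
  twin : TwinFree D
  type : IsOfTypeM22 G D

theorem M22.mk' [Finite G] (hD : IsThreeTranspositionGroup D) (hprim : IsPrimitiveUnderConj D)
    (h22 : IsOfTypeM22 G D) : M22 D :=
  ⟨(m22_class hD h22).1, hprim, (m22_class hD h22).2, h22⟩

theorem M22.conj_D (h : M22 D) (g : G) : ∀ d ∈ D, g * d * g⁻¹ ∈ D := fun _ hd => conj_mem h.cls g hd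

theorem M22.center_eq (h : M22 D) : center G = ⊥ := h.type.1

/-- The members of `perp D p` as isotropic vectors, the group they generate modulo its centre as the projective
special unitary group. -/
structure IsModel (D : Set G) (p : G) {F : Type} [Field F] (H : HermSpace F (Fin 6 → F))
    (π : H.SIsom →* ↥(closure (perp D p)) ⧸ center ↥(closure (perp D p))) (vec : G → (Fin 6 → F)) : Prop where
  six : IsSixSpace H
  four : Nat.card F = 4
  surj : Function.Surjective π
  ker : π.ker = center H.SIsom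
  vec_ne : ∀ x ∈ perp D p, vec x ≠ 0
  vec_iso : ∀ x ∈ perp D p, H.h (vec x) (vec x) = 0
  img : ∀ x : ↥(closure (perp D p)), (x : G) ∈ perp D p →
    ∀ hv : H.h (vec (x : G)) (vec (x : G)) = 0, QuotientGroup.mk x = π (six.tv hv)
  cover : ∀ v, v ≠ 0 → H.h v v = 0 → ∃ x ∈ perp D p, ∃ a : F, a ≠ 0 ∧ v = a • vec x

theorem M22.rich [Finite G] (h : M22 D) : ∀ p ∈ D, Nat.card (↥(closure (perp D p)) ⧸ center ↥(closure (perp D p))) = 9196830720 ∧
    IsSimpleGroup (↥(closure (perp D p)) ⧸ center ↥(closure (perp D p))) ∧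
    center (↥(closure (perp D p)) ⧸ center ↥(closure (perp D p))) = ⊥ ∧
    ∃ (F : Type) (_ : Field F) (_ : Fintype F), Fintype.card F = 4 ∧
      Nonempty (↥(closure (perp D p)) ⧸ center ↥(closure (perp D p)) ≃* Cfsg.PSU 6 F 2) := by
  intro p hp
  obtain ⟨-, d, hd, -, -, -, ⟨F, _, _, hF, ⟨e⟩⟩, -⟩ := h.type
  obtain ⟨g, hg⟩ := exists_conj h.cls hd hp
  set α : G ≃* G := MulAut.conj g
  have hmap : (closure (perp D d)).map α.toMonoidHom = closure (perp D p) := by
    rw [MonoidHom.map_closure, ← hg, ← conj_image_perp h.cls g d]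
    rfl
  set i : ↥(closure (perp D d)) ≃* ↥(closure (perp D p)) :=
    (α.subgroupMap (closure (perp D d))).trans (MulEquiv.subgroupCongr hmap)
  have hc : (center ↥(closure (perp D d))).map i.toMonoidHom = center ↥(closure (perp D p)) := by
    ext y
    obtain ⟨x, rfl⟩ := i.surjective y
    constructor
    · rintro ⟨z, hz, hzx⟩
      obtain rfl : z = x := i.injective hzx
      refine mem_center_iff.2 fun w => ?_
      obtain ⟨w, rfl⟩ := i.surjective w
      show i w * i z = i z * i w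
      rw [← map_mul, ← map_mul, mem_center_iff.1 hz w]
    · intro hx
      refine ⟨x, mem_center_iff.2 fun w => i.injective ?_, rfl⟩
      rw [map_mul, map_mul]
      exact mem_center_iff.1 hx (i w)
  set j := QuotientGroup.congr (center ↥(closure (perp D d))) (center ↥(closure (perp D p))) i hc
  obtain ⟨hcard, hsimp, hZ⟩ := psu_six_facts hF
  haveI : Nontrivial (↥(closure (perp D p)) ⧸ center ↥(closure (perp D p))) :=
    haveI := hsimp.toNontrivial
    (j.symm.trans e).toEquiv.nontrivial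
  refine ⟨(Nat.card_congr (j.symm.trans e).toEquiv).trans hcard, ?_, ?_, F, inferInstance, inferInstance, hF,
    ⟨j.symm.trans e⟩⟩
  · haveI := hsimp
    exact IsSimpleGroup.isSimpleGroup_of_surjective (j.symm.trans e).symm.toMonoidHom (j.symm.trans e).symm.surjective
  · rw [eq_bot_iff]
    intro x hx
    set f := j.symm.trans e
    have : f x ∈ center (Cfsg.PSU 6 F 2) := mem_center_iff.2 fun y => by
      obtain ⟨z, rfl⟩ := f.surjective y
      exact (f.map_mul z x).symm.trans ((congrArg f (mem_center_iff.1 hx z)).trans (f.map_mul x z))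
    rw [hZ, mem_bot] at this
    exact mem_bot.2 (f.injective (this.trans f.map_one.symm))

theorem M22.not_center [Finite G] (h : M22 D) {p : G} (hp : p ∈ D) {x : ↥(closure (perp D p))}
    (hx : (x : G) ∈ perp D p) : x ∉ center ↥(closure (perp D p)) :=
  not_mem_center_of_twinFree h.cls h.twin hp hx

theorem M22.exists_model [Finite G] (h : M22 D) {p : G} (hp : p ∈ D) :
    ∃ (F : Type) (_ : Field F) (_ : Fintype F) (H : HermSpace F (Fin 6 → F))
      (π : H.SIsom →* ↥(closure (perp D p)) ⧸ center ↥(closure (perp D p))) (vec : G → (Fin 6 → F)),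
      IsModel D p H π vec := by
  classical
  obtain ⟨-, hsimp, hZ, F, _, _, hF, ⟨e⟩⟩ := h.rich p hp
  haveI := hsimp
  have hF' : Fintype.card F = 2 ^ 2 := by rw [hF]; norm_num
  have h2 : (2 : F) = 0 := by
    haveI := CharP.exists F
    obtain ⟨q, hq⟩ := CharP.exists F
    obtain ⟨m, hqq, hm⟩ := FiniteField.card F q
    rw [hF] at hm
    have hq2 : q = 2 := by
      have hd : q ∣ 2 ^ 2 := by rw [show 2 ^ 2 = 4 by norm_num, hm]; exact dvd_pow_self q m.ne_zero
      exact (Nat.prime_dvd_prime_iff_eq hqq Nat.prime_two).mp (hqq.dvd_of_dvd_pow hd)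
    subst hq2
    exact_mod_cast CharP.cast_eq_zero F 2
  have hS : IsSixSpace (stdHerm 6 hF') := ⟨h2, fun a ha => by
    show a * powConj hF' a = 1
    rw [powConj_apply, ← pow_succ', show 2 + 1 = Fintype.card F - 1 by omega]
    exact FiniteField.pow_card_sub_one_eq_one a ha, Module.finrank_fin_fun F⟩
  set π : (stdHerm 6 hF').SIsom →* ↥(closure (perp D p)) ⧸ center ↥(closure (perp D p)) :=
    e.symm.toMonoidHom.comp ((QuotientGroup.mk' (center (Cfsg.SU 6 F 2))).comp (suEquiv 6 hF').toMonoidHom) with hπ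
  have hsurj : Function.Surjective π :=
    e.symm.surjective.comp ((QuotientGroup.mk'_surjective _).comp (suEquiv 6 hF').surjective)
  have hker : π.ker = center (stdHerm 6 hF').SIsom := by
    ext t
    rw [hπ, MonoidHom.mem_ker, MonoidHom.comp_apply, MonoidHom.comp_apply]
    simp only [MulEquiv.coe_toMonoidHom, map_eq_one_iff _ e.symm.injective, QuotientGroup.mk'_apply,
      QuotientGroup.eq_one_iff, mem_center_iff]
    constructor
    · intro h u
      exact (suEquiv 6 hF').injective (by rw [map_mul, map_mul]; exact h _)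
    · intro h u
      obtain ⟨u, rfl⟩ := (suEquiv 6 hF').surjective u
      rw [← map_mul, ← map_mul, h u]
  obtain ⟨hcls', -⟩ := class_of_simple (descSet_set h.cls.1 fun x hx => h.not_center hp hx)
    (fun g x hx => conj_mem_descSet h.conj_D g hx) (closure_descSet p) hZ
  have heq := hS.class_eq π hsurj hker hcls'
  have hchoice : ∀ x ∈ perp D p, ∃ v, ∃ hv : (stdHerm 6 hF').h v v = 0, v ≠ 0 ∧
      ∀ hx : x ∈ closure (perp D p), (QuotientGroup.mk (⟨x, hx⟩ : ↥(closure (perp D p))) : _ ⧸ _) = π (hS.tv hv) := by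
    intro x hx
    have hm : (QuotientGroup.mk (⟨x, subset_closure hx⟩ : ↥(closure (perp D p))) : _ ⧸ center _) ∈ descSet D p :=
      ⟨_, hx, rfl⟩
    rw [heq] at hm
    obtain ⟨t, ht, hte⟩ := hm
    obtain ⟨v, hv, hv0, rfl⟩ := hS.exists_tv ht
    exact ⟨v, hv, hv0, fun _ => hte.symm⟩
  choose! vec hvi hvne himg using hchoice
  refine ⟨F, inferInstance, inferInstance, stdHerm 6 hF', π, vec, hS, by rw [Nat.card_eq_fintype_card, hF], hsurj,
    hker, hvne, hvi, fun x hx hv => (himg _ hx x.2).trans rfl, fun v hv0 hv => ?_⟩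
  have hm : π (hS.tv hv) ∈ descSet D p := heq ▸ ⟨_, hS.tv_mem hv hv0, rfl⟩
  obtain ⟨x, hx, hxe⟩ := hm
  obtain ⟨a, ha, hav⟩ := (hS.tv_image_eq_iff π hker hv (hvi _ hx) hv0).1 (hxe.symm.trans (himg _ hx x.2))
  exact ⟨x, hx, a, ha, hav⟩

namespace IsModel

variable {p : G} {F : Type} [Field F] [Fintype F] {H : HermSpace F (Fin 6 → F)}
  {π : H.SIsom →* ↥(closure (perp D p)) ⧸ center ↥(closure (perp D p))} {vec : G → (Fin 6 → F)}
  (hM : IsModel D p H π vec)
include hM

theorem eq_of_prop [Finite G] (h : M22 D) (hp : p ∈ D) {x y : G} (hx : x ∈ perp D p) (hy : y ∈ perp D p) {a : F}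
    (ha : vec x = a • vec y) : x = y := by
  have ha0 : a ≠ 0 := fun e => hM.vec_ne x hx (by rw [ha, e, zero_smul])
  have e := hM.img ⟨x, subset_closure hx⟩ hx (hM.vec_iso x hx)
  rw [(hM.six.tv_image_eq_iff π hM.ker (hM.vec_iso x hx) (hM.vec_iso y hy) (hM.vec_ne x hx)).2 ⟨a, ha0, ha⟩,
    ← hM.img ⟨y, subset_closure hy⟩ hy (hM.vec_iso y hy)] at e
  exact congrArg Subtype.val (mk_injOn (x := ⟨x, subset_closure hx⟩) (y := ⟨y, subset_closure hy⟩) h.cls.1 h.conj_D
    hx hy (h.not_center hp hx) e)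

theorem comm_iff [Finite G] (h : M22 D) (hp : p ∈ D) {x y : G} (hx : x ∈ perp D p) (hy : y ∈ perp D p) :
    Commute x y ↔ H.h (vec x) (vec y) = 0 := by
  rw [← hM.six.tv_image_commute_iff π hM.ker (hM.vec_iso x hx) (hM.vec_iso y hy) (hM.vec_ne x hx),
    ← hM.img ⟨x, subset_closure hx⟩ hx (hM.vec_iso x hx), ← hM.img ⟨y, subset_closure hy⟩ hy (hM.vec_iso y hy)]
  constructor
  · intro hc
    exact (show Commute (⟨x, subset_closure hx⟩ : ↥(closure (perp D p))) ⟨y, subset_closure hy⟩ from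
      Subtype.ext hc.eq).map (QuotientGroup.mk' _)
  · intro hc
    exact commute_of_commute_mk (x := ⟨x, subset_closure hx⟩) (y := ⟨y, subset_closure hy⟩) h.cls.1 h.conj_D hx hy
      (h.not_center hp hx) hc

/-- Points and vectors. -/
theorem card_points [Finite G] (h : M22 D) (hp : p ∈ D) (P : (Fin 6 → F) → Prop)
    (hP : ∀ (a : F) v, a ≠ 0 → (P (a • v) ↔ P v)) (h0 : P 0) :
    3 * ({x : G | x ∈ perp D p ∧ P (vec x)}).ncard + 1 = ({v | H.h v v = 0 ∧ P v}).ncard := by
  classical
  set S := {x : G | x ∈ perp D p ∧ P (vec x)}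
  set T := {v : Fin 6 → F | H.h v v = 0 ∧ P v}
  have hT : T = insert 0 ((fun z : Fˣ × G => (z.1 : F) • vec z.2) '' (Set.univ ×ˢ S)) := by
    ext v
    constructor
    · rintro ⟨hv, hPv⟩
      by_cases hv0 : v = 0
      · exact Or.inl hv0
      obtain ⟨x, hx, a, ha, rfl⟩ := hM.cover v hv0 hv
      exact Or.inr ⟨(Units.mk0 a ha, x), ⟨Set.mem_univ _, hx, (hP a _ ha).1 hPv⟩, rfl⟩
    · rintro (rfl | ⟨⟨a, x⟩, ⟨-, hx, hPx⟩, rfl⟩)
      · exact ⟨H.zero_left _, h0⟩
      · exact ⟨by rw [H.smul_left, H.smul_right, hM.vec_iso x hx, mul_zero, mul_zero], (hP _ _ a.ne_zero).2 hPx⟩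
  rw [hT, Set.ncard_insert_of_notMem, Set.InjOn.ncard_image, Set.ncard_prod, Set.ncard_univ, Nat.card_units,
    hM.four]
  · rintro ⟨a, x⟩ ⟨-, hx, -⟩ ⟨b, y⟩ ⟨-, hy, -⟩ e
    simp only at e
    have e' : vec x = ((a : F)⁻¹ * b) • vec y := by
      rw [mul_smul, ← e, smul_smul, inv_mul_cancel₀ a.ne_zero, one_smul]
    have hxy := hM.eq_of_prop h hp hx hy e'
    subst hxy
    refine Prod.ext (Units.ext ?_) rfl
    exact smul_left_injective F (hM.vec_ne x hx) e
  · rintro ⟨⟨a, x⟩, ⟨-, hx, -⟩, e⟩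
    exact hM.vec_ne x hx ((smul_eq_zero.1 e).resolve_left a.ne_zero)

end IsModel

namespace M22

variable [Finite G] (h : M22 D) {p : G} (hp : p ∈ D)
include h hp

theorem ncard_perp : (perp D p).ncard = 693 := by
  obtain ⟨F, _, _, H, π, vec, hM⟩ := h.exists_model hp
  have := hM.card_points h hp (fun _ => True) (fun _ _ _ => Iff.rfl) trivial
  simp only [and_true, Set.setOf_mem_eq] at this
  rw [hM.six.iso_all hM.four] at this
  omega

theorem ncard_one {x : G} (hx : x ∈ perp D p) : ({y : G | y ∈ perp D p ∧ Commute y x}).ncard = 181 := by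
  obtain ⟨F, _, _, H, π, vec, hM⟩ := h.exists_model hp
  have := hM.card_points h hp (fun v => H.h v (vec x) = 0)
    (fun a v ha => by rw [H.smul_left, mul_eq_zero, or_iff_right ha]) (H.zero_left _)
  rw [hM.six.iso_one hM.four (hM.vec_ne x hx) (hM.vec_iso x hx),
    show {y : G | y ∈ perp D p ∧ H.h (vec y) (vec x) = 0} = {y : G | y ∈ perp D p ∧ Commute y x} from
      Set.ext fun y => and_congr_right fun hy => (hM.comm_iff h hp hy hx).symm] at this
  omega

theorem ncard_two {x y : G} (hx : x ∈ perp D p) (hy : y ∈ perp D p) (hne : x ≠ y) (hc : Commute x y) :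
    ({z : G | z ∈ perp D p ∧ Commute z x ∧ Commute z y}).ncard = 53 := by
  obtain ⟨F, _, _, H, π, vec, hM⟩ := h.exists_model hp
  have := hM.card_points h hp (fun v => H.h v (vec x) = 0 ∧ H.h v (vec y) = 0)
    (fun a v ha => by rw [H.smul_left, mul_eq_zero, or_iff_right ha, H.smul_left, mul_eq_zero, or_iff_right ha])
    ⟨H.zero_left _, H.zero_left _⟩
  rw [hM.six.iso_two hM.four (hM.vec_ne x hx) (hM.vec_iso x hx) (hM.vec_iso y hy)
      ((hM.comm_iff h hp hy hx).1 hc.symm) (fun t ht => hne (hM.eq_of_prop h hp hy hx ht).symm),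
    show {z : G | z ∈ perp D p ∧ H.h (vec z) (vec x) = 0 ∧ H.h (vec z) (vec y) = 0} =
        {z : G | z ∈ perp D p ∧ Commute z x ∧ Commute z y} from
      Set.ext fun z => and_congr_right fun hz =>
        and_congr (hM.comm_iff h hp hz hx).symm (hM.comm_iff h hp hz hy).symm] at this
  omega

theorem ncard_pair {x y : G} (hx : x ∈ perp D p) (hy : y ∈ perp D p) (hnc : ¬ Commute x y) :
    ({z : G | z ∈ perp D p ∧ Commute z x ∧ Commute z y}).ncard = 45 := by
  obtain ⟨F, _, _, H, π, vec, hM⟩ := h.exists_model hp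
  have := hM.card_points h hp (fun v => H.h v (vec x) = 0 ∧ H.h v (vec y) = 0)
    (fun a v ha => by rw [H.smul_left, mul_eq_zero, or_iff_right ha, H.smul_left, mul_eq_zero, or_iff_right ha])
    ⟨H.zero_left _, H.zero_left _⟩
  rw [hM.six.iso_pair hM.four (hM.vec_iso x hx) (hM.vec_iso y hy) (fun e => hnc ((hM.comm_iff h hp hx hy).2 e)),
    show {z : G | z ∈ perp D p ∧ H.h (vec z) (vec x) = 0 ∧ H.h (vec z) (vec y) = 0} =
        {z : G | z ∈ perp D p ∧ Commute z x ∧ Commute z y} from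
      Set.ext fun z => and_congr_right fun hz =>
        and_congr (hM.comm_iff h hp hz hx).symm (hM.comm_iff h hp hz hy).symm] at this
  omega

/-- Only three members of `perp D p` commute with all common neighbours of two noncommuting ones. -/
theorem double_perp {x y w : G} (hx : x ∈ perp D p) (hy : y ∈ perp D p) (hnc : ¬ Commute x y) (hw : w ∈ perp D p)
    (hall : ∀ z ∈ perp D p, Commute z x → Commute z y → Commute z w) : w = x ∨ w = y ∨ w = x * y * x := by
  obtain ⟨F, _, _, H, π, vec, hM⟩ := h.exists_model hp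
  have hS := hM.six
  have he : H.h (vec x) (vec y) ≠ 0 := fun e => hnc ((hM.comm_iff h hp hx hy).2 e)
  set b := H.h (vec x) (vec y) • vec y with hb
  have hbb : H.h b b = 0 := by rw [hb, hS.toFour.h_smul_smul he, hM.vec_iso y hy]
  have hab : H.h (vec x) b = 1 := by rw [hb, H.smul_right, hS.toFour.norm_flip he]
  have hperp : ∀ u, H.h u u = 0 → H.h u (vec x) = 0 → H.h u b = 0 → H.h u (vec w) = 0 := by
    intro u hu hux huy
    rcases eq_or_ne u 0 with rfl | hu0
    · exact H.zero_left _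
    obtain ⟨z, hz, a, ha, rfl⟩ := hM.cover u hu0 hu
    rw [H.smul_left, mul_eq_zero, or_iff_right ha] at hux
    rw [H.smul_left, mul_eq_zero, or_iff_right ha, hb, H.smul_right, mul_eq_zero,
      or_iff_right (fun e => he (H.conj.eq_zero.mp e))] at huy
    rw [H.smul_left, (hM.comm_iff h hp hz hw).1 (hall z hz ((hM.comm_iff h hp hz hx).2 hux)
      ((hM.comm_iff h hp hz hy).2 huy)), mul_zero]
  obtain ⟨t, ht, e | e | e⟩ := hS.double_perp_pair (hM.vec_iso x hx) hbb hab (hM.vec_iso w hw) (hM.vec_ne w hw) hperp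
  · exact Or.inl (hM.eq_of_prop h hp hw hx e)
  · exact Or.inr (Or.inl (hM.eq_of_prop h hp hw hy (a := t * H.h (vec x) (vec y)) (by rw [e, hb, smul_smul])))
  refine Or.inr (Or.inr ?_)
  have hsum : H.h (vec x + b) (vec x + b) = 0 := by
    simp only [H.add_left, H.add_right, hM.vec_iso x hx, hbb, hab, H.symm b (vec x), map_one]
    linear_combination hS.two
  have hxyx : x * y * x ∈ perp D p := by
    have := conj_mem_perp h.conj_D (subset_closure hx) hy
    rwa [inv_eq h.cls.1 hx.1] at this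
  set X : ↥(closure (perp D p)) := ⟨x, subset_closure hx⟩ with hX
  set Y : ↥(closure (perp D p)) := ⟨y, subset_closure hy⟩ with hY
  have eb : π (hS.tv hbb) = QuotientGroup.mk Y := by
    rw [hM.img Y hy (hM.vec_iso y hy)]
    exact congrArg π (hS.tv_smul (hM.vec_iso y hy) he hbb)
  have key : π (hS.tv (hM.vec_iso w hw)) = π (hS.tv hsum) :=
    (hS.tv_image_eq_iff π hM.ker (hM.vec_iso w hw) hsum (hM.vec_ne w hw)).2 ⟨t, ht, e⟩
  rw [← hM.img ⟨w, subset_closure hw⟩ hw, ← hS.tv_conj_third (hM.vec_iso x hx) hbb hab hsum, map_mul, map_mul, eb,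
    ← hM.img X hx, ← QuotientGroup.mk_mul, ← QuotientGroup.mk_mul] at key
  exact congrArg Subtype.val (mk_injOn (x := ⟨w, subset_closure hw⟩) (y := X * Y * X) h.cls.1 h.conj_D hw hxyx
    (h.not_center hp hw) key)

/-- A common neighbour of two noncommuting members has a neighbour among the others. -/
theorem exists_common {x y g : G} (hx : x ∈ perp D p) (hy : y ∈ perp D p) (hnc : ¬ Commute x y) (hg : g ∈ perp D p)
    (hgx : Commute g x) (hgy : Commute g y) :
    ∃ z ∈ perp D p, z ≠ g ∧ Commute z x ∧ Commute z y ∧ Commute z g := by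
  obtain ⟨F, _, _, H, π, vec, hM⟩ := h.exists_model hp
  have hS := hM.six
  haveI := hS.fd
  have hq := hS.toFour
  have he : H.h (vec x) (vec y) ≠ 0 := fun e => hnc ((hM.comm_iff h hp hx hy).2 e)
  set b := H.h (vec x) (vec y) • vec y with hb
  have q : Pair H ⊤ (vec x) b := ⟨Submodule.mem_top, Submodule.mem_top, hM.vec_iso x hx,
    by rw [hb, hq.h_smul_smul he, hM.vec_iso y hy], by rw [hb, H.smul_right, hq.norm_flip he]⟩
  have hnd := q.nondeg hq hS.nondegOn_top
  have hgW : vec g ∈ perp2 H ⊤ (vec x) b := mem_perp2.mpr ⟨Submodule.mem_top, (hM.comm_iff h hp hg hx).1 hgx, by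
    rw [hb, H.smul_right, (hM.comm_iff h hp hg hy).1 hgy, mul_zero]⟩
  obtain ⟨d, q'⟩ := exists_pair hnd hgW (hM.vec_ne g hg) (hM.vec_iso g hg)
  obtain ⟨v, hv, hv0, hvv⟩ := exists_iso (q'.nondeg hq hnd) (by
    have h1 := q.finrank hq
    have h2 := q'.finrank hq
    rw [hS.finrank_top_eq] at h1
    omega)
  obtain ⟨hvW, hvg, hvd⟩ := mem_perp2.mp hv
  obtain ⟨-, hvx, hvb⟩ := mem_perp2.mp hvW
  obtain ⟨z, hz, t, ht, rfl⟩ := hM.cover v hv0 hvv
  rw [H.smul_left, mul_eq_zero, or_iff_right ht] at hvg hvx hvb hvd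
  rw [hb, H.smul_right, mul_eq_zero, or_iff_right (fun e => he (H.conj.eq_zero.mp e))] at hvb
  refine ⟨z, hz, fun e => ?_, (hM.comm_iff h hp hz hx).2 hvx, (hM.comm_iff h hp hz hy).2 hvb,
    (hM.comm_iff h hp hz hg).2 hvg⟩
  rw [e, q'.prod] at hvd
  exact one_ne_zero hvd

/-- The stabiliser of a member of `perp D p` in the group these generate. -/
theorem point_stabiliser {x : G} (hx : x ∈ perp D p) {g : G} (hg : g ∈ closure (perp D p)) (hgx : Commute g x) :
    ∃ k ∈ closure {y : G | y ∈ perp D p ∧ Commute y x}, ∃ z : G, (∀ e ∈ perp D p, Commute e z) ∧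
      z ∈ closure (perp D p) ∧ g = k * z := by
  obtain ⟨F, _, _, H, π, vec, hM⟩ := h.exists_model hp
  have hS := hM.six
  set X : ↥(closure (perp D p)) := ⟨x, subset_closure hx⟩
  obtain ⟨γ, hγ⟩ := hM.surj (QuotientGroup.mk (⟨g, hg⟩ : ↥(closure (perp D p))))
  have hv := hM.vec_iso x hx
  have hconj : γ * hS.tv hv * γ⁻¹ = hS.tv (v := γ.1.1 (vec x)) (by rw [H.map_form, hv]) := H.sT_conj γ hv hS.skew
  have e : π (hS.tv (v := γ.1.1 (vec x)) (by rw [H.map_form, hv])) = π (hS.tv hv) := by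
    rw [← hconj, map_mul, map_mul, map_inv, hγ, ← hM.img X hx hv, ← QuotientGroup.mk_inv, ← QuotientGroup.mk_mul,
      ← QuotientGroup.mk_mul]
    congr 1
    exact Subtype.ext (by
      show g * x * g⁻¹ = x
      rw [hgx.eq, mul_inv_cancel_right])
  have hne : γ.1.1 (vec x) ≠ 0 := fun e0 => hM.vec_ne x hx (γ.1.1.injective (e0.trans (map_zero _).symm))
  obtain ⟨c, hc, hce⟩ := (hS.tv_image_eq_iff π hM.ker _ hv hne).1 e
  obtain ⟨k, hk, z, hz, hkz⟩ := hS.point_stab (hM.vec_ne x hx) hv hc hce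
  set K := closure {y : G | y ∈ perp D p ∧ Commute y x}
  have hK : K ≤ closure (perp D p) := closure_mono fun _ hy => hy.1
  have hk' : π k ∈ (K.subgroupOf (closure (perp D p))).map (QuotientGroup.mk' (center ↥(closure (perp D p)))) := by
    refine (closure_le (Subgroup.comap π ((K.subgroupOf (closure (perp D p))).map
      (QuotientGroup.mk' (center ↥(closure (perp D p))))))).2 ?_ hk
    rintro _ ⟨w, hw, hwx, rfl⟩
    rcases eq_or_ne w 0 with rfl | hw0
    · have e1 : hS.tv hw = 1 := H.sisom_ext fun v => by rw [hS.tv_apply, smul_zero, add_zero]; rfl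
      rw [SetLike.mem_coe, mem_comap, e1, map_one]
      exact one_mem _
    obtain ⟨y, hy, a, ha, hwy⟩ := hM.cover w hw0 hw
    refine ⟨⟨y, subset_closure hy⟩, subset_closure ⟨hy, (hM.comm_iff h hp hy hx).2 ?_⟩, ?_⟩
    · rwa [hwy, H.smul_left, mul_eq_zero, or_iff_right ha] at hwx
    · exact (hM.img ⟨y, subset_closure hy⟩ hy (hM.vec_iso y hy)).trans
        ((hS.tv_image_eq_iff π hM.ker hw _ hw0).2 ⟨a, ha, hwy⟩).symm
  obtain ⟨k', hk', hke⟩ := hk'
  have hgk : (QuotientGroup.mk (⟨g, hg⟩ : ↥(closure (perp D p))) : _ ⧸ center _) = QuotientGroup.mk k' := by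
    rw [← hγ, hkz, map_mul, (MonoidHom.mem_ker.1 (hM.ker.symm ▸ hz) : π z = 1), mul_one]
    exact hke.symm
  rw [eq_comm, QuotientGroup.eq] at hgk
  refine ⟨k', hk', ((k'⁻¹ * ⟨g, hg⟩ : ↥(closure (perp D p))) : G), fun e he => ?_, SetLike.coe_mem _, ?_⟩
  · exact congrArg Subtype.val (mem_center_iff.1 hgk ⟨e, subset_closure he⟩)
  · simp

end M22

end Cfsg.Lib.ThreeTr
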