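import Cfsg.Agent.ThreeTransposition.M22Count.MuValue

/-!
In a class of type M(22) the centraliser of a member is generated by the members commuting with it, its centre has
order two, and the order of the group follows.
-/

set_option autoImplicit false
set_option linter.unusedSectionVars false
set_option linter.style.haveILetI false

namespace Cfsg.Lib.ThreeTr

open Cfsg Subgroup

attribute [local instance] _root_.Classical.propDecidable

universe u

variable {G : Type u} [Group G] {D : Set G}

namespace M22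

variable [Finite G] (h : M22 D)
include h

theorem commute_other {y y' p : G} (hy' : y' ∈ D) (hp : p ∈ D) (hpy : ¬ Commute p y') (h1 : Commute y y')
    (h2 : Commute y (p * y' * p)) : Commute y p := by
  have hE := h.cls.1
  have e : p = y' * (p * y' * p) * y' := by
    rw [braid hE hp hy' hpy]
    calc p = (y' * y') * p * (y' * y') := by rw [sq_eq_one hE hy', one_mul, mul_one]
      _ = _ := by simp only [mul_assoc]
  rw [e]
  exact (h1.mul_right h2).mul_right h1

/-- Members with the same trace on a common neighbourhood. -/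
theorem eq_or_eq_of_trace {p c c' : G} (hp : p ∈ D) (hc : c ∈ D) (hc' : c' ∈ D) (hpc : ¬ Commute p c)
    (hpc' : ¬ Commute p c') (htr : ∀ e ∈ perp D p, Commute e c → Commute e c') : c' = c ∨ c' = p * c * p := by
  obtain ⟨f, hf⟩ := Set.nonempty_of_ncard_ne_zero (s := perp D p ∩ perp D c) (by rw [h.mu_eq hp hc hpc]; norm_num)
  have hpf : p ∈ perp D f := ⟨hp, hf.1.2.1.symm, hf.1.2.2.symm⟩
  have hcf : c ∈ perp D f := ⟨hc, hf.2.2.1.symm, hf.2.2.2.symm⟩
  have hc'f : c' ∈ perp D f := ⟨hc', fun e => hpc' (e ▸ hf.1.2.2), htr f hf.1 hf.2.2.2.symm⟩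
  rcases h.double_perp hf.1.1 hpf hcf hpc hc'f (fun z hz h1 h2 =>
    htr z ⟨hz.1, fun e => hpc (e ▸ h2), h1.symm⟩ h2) with e | e | e
  · exact absurd (e ▸ Commute.refl p) hpc'
  · exact Or.inl e
  · exact Or.inr e

/-- Only `1` and `p` centralise `p` and everything commuting with it. -/
theorem eq_one_or_self {p z : G} (hp : p ∈ D) (hzp : Commute p z) (hz : ∀ e ∈ perp D p, Commute e z) :
    z = 1 ∨ z = p := by
  have hE := h.cls.1
  have hp2 := sq_eq_one hE hp
  obtain ⟨c, hc, hpc⟩ : ∃ c ∈ D, ¬ Commute p c :=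
    exists_not_commute h.cls (by obtain ⟨x, hx, y, hy, hne, -⟩ := h.exists_pair.pair; exact ⟨x, hx, y, hy, hne⟩) hp
  have htr : ∀ {w : G}, Commute p w → (∀ e ∈ perp D p, Commute e w) → ∀ y ∈ D, ¬ Commute p y →
      w * y * w⁻¹ = y ∨ w * y * w⁻¹ = p * y * p := by
    intro w hwp hw y hy hpy
    refine h.eq_or_eq_of_trace hp hy (conj_mem h.cls w hy) hpy (fun h' => hpy ?_) fun e he hey => ?_
    · rw [show p = w * p * w⁻¹ by rw [← hwp.eq, mul_inv_cancel_right]] at h'
      exact (conj_commute_iff w p y).1 h'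
    · rw [show e = w * e * w⁻¹ by rw [← (hw e he).eq, mul_inv_cancel_right]]
      exact (conj_commute_iff w e y).2 hey
  -- a modification fixing `c`
  suffices key : ∀ w : G, Commute p w → (∀ e ∈ perp D p, Commute e w) → w * c * w⁻¹ = c → w = 1 by
    rcases htr hzp hz c hc hpc with e | e
    · exact Or.inl (key z hzp hz e)
    · right
      have := key (p * z) ((Commute.refl p).mul_right hzp) (fun x hx => hx.2.2.symm.mul_right (hz x hx)) (by
        rw [mul_inv_rev, inv_eq hE hp]
        calc p * z * c * (z⁻¹ * p) = p * (z * c * z⁻¹) * p := by group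
          _ = (p * p) * c * (p * p) := by rw [e]; simp only [mul_assoc]
          _ = c := by rw [hp2, one_mul, mul_one])
      rw [eq_inv_of_mul_eq_one_right this, inv_eq hE hp]
  intro w hwp hw hwc
  -- fixed members are closed under commuting
  have hstep : ∀ y ∈ D, ¬ Commute p y → w * y * w⁻¹ = y → ∀ y' ∈ D, ¬ Commute p y' → Commute y y' →
      w * y' * w⁻¹ = y' := by
    intro y hy hpy hfix y' hy' hpy' hc'
    refine (htr hwp hw y' hy' hpy').resolve_right fun e => hpy ?_
    have hyy : Commute y (p * y' * p) := by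
      rw [← e, ← hfix]
      exact (conj_commute_iff w y y').2 hc'
    exact (h.commute_other hy' hp hpy' hc' hyy).symm
  have hall : ∀ y ∈ D, ¬ Commute p y → w * y * w⁻¹ = y := by
    intro y hy hpy
    by_cases hcy : Commute c y
    · exact hstep c hc hpc hwc y hy hpy hcy
    by_cases hmid : ∃ k ∈ perp D c ∩ perp D y, ¬ Commute p k
    · obtain ⟨k, hk, hpk⟩ := hmid
      exact hstep k hk.1.1 hpk (hstep c hc hpc hwc k hk.1.1 hpk hk.1.2.2) y hy hpy hk.2.2.2.symm
    push Not at hmid
    obtain ⟨f, hf⟩ := Set.nonempty_of_ncard_ne_zero (s := perp D c ∩ perp D y) (by rw [h.mu_eq hc hy hcy]; norm_num)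
    have hcf : c ∈ perp D f := ⟨hc, hf.1.2.1.symm, hf.1.2.2.symm⟩
    have hyf : y ∈ perp D f := ⟨hy, hf.2.2.1.symm, hf.2.2.2.symm⟩
    have hpf : p ∈ perp D f := ⟨hp, fun e => hpc (e ▸ hf.1.2.2.symm), (hmid f hf).symm⟩
    rcases h.double_perp hf.1.1 hcf hyf hcy hpf (fun k hk h1 h2 => (hmid k
      ⟨⟨hk.1, fun e => hcy (e ▸ h2), h1.symm⟩, hk.1, fun e => hcy (e ▸ h1).symm, h2.symm⟩).symm) with e | e | e
    · exact absurd (e ▸ Commute.refl p) hpc
    · exact absurd (e ▸ Commute.refl p) hpy
    · have hy_eq : y = p * c * p := by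
        rw [braid hE hp hc hpc, e]
        calc y = (c * c) * y * (c * c) := by rw [sq_eq_one hE hc, one_mul, mul_one]
          _ = _ := by simp only [mul_assoc]
      rw [hy_eq]
      calc w * (p * c * p) * w⁻¹ = (w * p * w⁻¹) * (w * c * w⁻¹) * (w * p * w⁻¹) := by group
        _ = _ := by rw [hwc, ← hwp.eq, mul_inv_cancel_right]
  have hD : ∀ y ∈ D, Commute y w := by
    intro y hy
    by_cases hpy : Commute p y
    · by_cases e : y = p
      · exact e ▸ hwp
      · exact hw y ⟨hy, e, hpy⟩
    · exact (mul_inv_eq_iff_eq_mul.1 (hall y hy hpy)).symm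
  have hle : closure D ≤ centralizer ({w} : Set G) :=
    (closure_le _).2 fun y hy => mem_centralizer_singleton_iff.2 (hD y hy).eq
  have : w ∈ center G := mem_center_iff.2 fun g =>
    mem_centralizer_singleton_iff.1 (hle (h.cls.2.2 ▸ mem_top g))
  rwa [h.center_eq, mem_bot] at this

/-- A member is the product of five commuting members of its neighbourhood. -/
theorem exists_five {a : G} (ha : a ∈ D) : ∃ bs : List G, bs.length = 5 ∧ (∀ x ∈ bs, x ∈ perp D a) ∧
    (∀ x ∈ bs, ∀ y ∈ bs, Commute x y) ∧ bs.prod = a := by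
  obtain ⟨b, hb⟩ := Set.nonempty_of_ncard_ne_zero (s := perp D a) (by rw [h.ncard_perp ha]; norm_num)
  have h181 := h.ncard_one ha hb
  obtain ⟨c, hc, hcb⟩ := Set.exists_ne_of_one_lt_ncard (s := {y : G | y ∈ perp D a ∧ Commute y b}) (by omega) b
  obtain ⟨p, q, r, hnd, hcomm, hmem, hprod, -⟩ := m22_hexad h.cls h.prim h.twin h.type ha hb.1 hc.1.1
    hb.2.1.symm hc.1.2.1.symm hcb.symm hb.2.2 hc.1.2.2 hc.2.symm
  refine ⟨[b, c, p, q, r], rfl, fun x hx => ⟨hmem x (List.mem_cons_of_mem _ hx), fun e => ?_,
    hcomm a (by simp) x (List.mem_cons_of_mem _ hx)⟩, fun x hx y hy => hcomm x (List.mem_cons_of_mem _ hx) y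
    (List.mem_cons_of_mem _ hy), ?_⟩
  · exact (List.nodup_cons.1 hnd).1 (e ▸ hx)
  · rw [List.prod_cons] at hprod
    rw [eq_inv_of_mul_eq_one_right hprod, inv_eq h.cls.1 ha]

theorem self_mem {a : G} (ha : a ∈ D) : a ∈ closure (perp D a) := by
  obtain ⟨bs, -, hbs, -, e⟩ := h.exists_five ha
  have h1 : bs.prod ∈ closure (perp D a) := list_prod_mem fun x hx => subset_closure (hbs x hx)
  rwa [e] at h1

theorem mem_of_commute {a x : G} (ha : a ∈ D) (hx : x ∈ D) (hc : Commute x a) : x ∈ closure (perp D a) := by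
  by_cases e : x = a
  · rw [e]; exact h.self_mem ha
  · exact subset_closure ⟨hx, e, hc.symm⟩

theorem conj_mem_closure_perp {u t k : G} (hk : k ∈ closure (perp D u)) {a : G} (ht : t * a * t⁻¹ = u) :
    t⁻¹ * k * t ∈ closure (perp D a) := by
  have e : (closure (perp D u)).map (MulAut.conj t⁻¹).toMonoidHom = closure (perp D a) := by
    rw [MonoidHom.map_closure, show a = t⁻¹ * u * t⁻¹⁻¹ by rw [← ht]; group, ← conj_image_perp h.cls t⁻¹ u]
    rfl
  rw [← e]
  exact ⟨k, hk, by simp⟩

/-- Three pairwise noncommuting members. -/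
theorem triangle {u v w : G} (hu : u ∈ D) (hv : v ∈ D) (hw : w ∈ D) (huv : ¬ Commute u v) (huw : ¬ Commute u w)
    (hvw : ¬ Commute v w) : ∃ k ∈ closure (perp D u), v * w * (u * v) = u * w * k := by
  have hE := h.cls.1
  have uu := sq_eq_one hE hu
  have vv := sq_eq_one hE hv
  have ww := sq_eq_one hE hw
  refine ⟨w * u * v * w * u * v, ?_, by
    calc v * w * (u * v) = (u * (w * w) * u) * (v * w * (u * v)) := by rw [ww, mul_one, uu, one_mul]
      _ = _ := by simp only [mul_assoc]⟩
  have hd : u * v * u ∈ D := by simpa [inv_eq hE hu] using conj_mem h.cls u hv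
  by_cases hpl : Commute (u * v * u) w
  · by_cases e : w = u * v * u
    · have : w * u * v * w * u * v = 1 := by
        rw [e]
        calc u * v * u * u * v * (u * v * u) * u * v = u * (v * ((u * u) * v)) * (u * (v * ((u * u) * v))) := by
              simp only [mul_assoc]
          _ = 1 := by rw [uu, one_mul, vv, mul_one, uu]
      rw [this]; exact one_mem _
    · have hk : w * u * v * w * u * v = u * (v * w * v) := by
        calc w * u * v * w * u * v = (w * (u * v * u)) * (u * w * u) * v := by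
              simp only [mul_assoc]; rw [← mul_assoc u u, uu, one_mul]
          _ = ((u * v * u) * w) * (u * w * u) * v := by rw [hpl.symm.eq]
          _ = u * v * (u * w * u) * w * u * v := by simp only [mul_assoc]
          _ = u * v * (w * u * w) * w * u * v := by rw [braid hE hu hw huw]
          _ = u * v * w * (u * ((w * w) * u)) * v := by simp only [mul_assoc]
          _ = _ := by rw [ww, one_mul, uu, mul_one]; simp only [mul_assoc]
      rw [hk]
      refine mul_mem (h.self_mem hu) (h.mem_of_commute hu ?_ ?_)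
      · simpa [inv_eq hE hv] using conj_mem h.cls v hw
      · rw [show v * w * v = v * w * v⁻¹ by rw [inv_eq hE hv],
          show u = v * (u * v * u) * v⁻¹ by
            rw [braid hE hu hv huv, inv_eq hE hv]
            calc u = (v * v) * u * (v * v) := by rw [vv, one_mul, mul_one]
              _ = _ := by simp only [mul_assoc],
          conj_commute_iff]
        exact hpl.symm
  · have hN := h.plane_eq hu hv huv (h.mu_eq hu hv huv) hw (fun h' => huw h'.symm) (fun h' => hvw h'.symm)
      fun h' => hpl h'.symm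
    obtain ⟨f, hf⟩ := Finset.card_pos.1 (show 0 < ((mem' D).filter fun x => Commute x u ∧ Commute x v ∧ Commute x w).card
      by omega)
    simp only [Finset.mem_filter, mem_mem'] at hf
    obtain ⟨hfD, hfu, hfv, hfw⟩ := hf
    have hu' : u ∈ perp D f := ⟨hu, fun e => huv (e ▸ hfv), hfu⟩
    have hv' : v ∈ perp D f := ⟨hv, fun e => huv (e ▸ hfu).symm, hfv⟩
    have hw' : w ∈ perp D f := ⟨hw, fun e => huw (e ▸ hfu).symm, hfw⟩
    have mu := subset_closure (k := perp D f) hu'
    have mv := subset_closure (k := perp D f) hv'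
    have mw := subset_closure (k := perp D f) hw'
    have hfix : Commute (w * u * v * w * u * v) u := by
      refine mul_inv_eq_iff_eq_mul.1 ?_
      calc w * u * v * w * u * v * u * (w * u * v * w * u * v)⁻¹
          = (w * u) * ((v * w) * ((u * v) * u * (u * v)⁻¹) * (v * w)⁻¹) * (w * u)⁻¹ := by group
        _ = u := by rw [mul_conj_eq hE hu hv huv, mul_conj_eq hE hv hw hvw, mul_conj_eq hE hw hu fun h' => huw h'.symm]
    obtain ⟨k, hk, z, hz, hzH, e⟩ := h.point_stabiliser hfD hu'
      (mul_mem (mul_mem (mul_mem (mul_mem (mul_mem mw mu) mv) mw) mu) mv) hfix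
    rw [e]
    refine mul_mem ((closure_le (closure (perp D u))).2 ?_ hk) ?_
    · rintro y ⟨hy, hyu⟩
      exact h.mem_of_commute hu hy.1 hyu
    · rcases h.eq_one_or_self hfD (closure_perp_commute hzH).symm hz with e | e
      · rw [e]; exact one_mem _
      · rw [e]; exact h.mem_of_commute hu hfD hfu

theorem exists_nonperp₄ (p q r s : G) (hp : p ∈ D) (hq : q ∈ D) (hr : r ∈ D) (hs : s ∈ D) :
    ∃ w ∈ D, ¬ Commute p w ∧ ¬ Commute q w ∧ ¬ Commute r w ∧ ¬ Commute s w := by
  have hcard : (mem' D).card = 3510 := by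
    obtain ⟨c, hc, hpc⟩ : ∃ c ∈ D, ¬ Commute p c :=
      exists_not_commute h.cls (by obtain ⟨x, hx, y, hy, hne, -⟩ := h.exists_pair.pair; exact ⟨x, hx, y, hy, hne⟩) hp
    rw [h.card_members hp hc hpc, h.card_nonperp hp hc hpc]
  let A : G → Finset G := fun x => (mem' D).filter fun y => Commute y x
  obtain ⟨w, hw, hwn⟩ := Finset.exists_mem_notMem_of_card_lt_card
    (show (A p ∪ A q ∪ A r ∪ A s).card < (mem' D).card by
      have := Finset.card_union_le (A p ∪ A q ∪ A r) (A s)
      have := Finset.card_union_le (A p ∪ A q) (A r)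
      have := Finset.card_union_le (A p) (A q)
      have e1 : (A p).card = 694 := h.card_comm hp
      have e2 : (A q).card = 694 := h.card_comm hq
      have e3 : (A r).card = 694 := h.card_comm hr
      have e4 : (A s).card = 694 := h.card_comm hs
      omega)
  simp only [A, Finset.mem_union, Finset.mem_filter, mem_mem', not_or, not_and] at hwn
  rw [mem_mem'] at hw
  exact ⟨w, hw, fun h' => hwn.1.1.1 hw h'.symm, fun h' => hwn.1.1.2 hw h'.symm, fun h' => hwn.1.2 hw h'.symm,
    fun h' => hwn.2 hw h'.symm⟩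

/-- The centraliser of a member. -/
theorem centralizer_eq {a : G} (ha : a ∈ D) : centralizer ({a} : Set G) = closure (perp D a) := by
  have hE := h.cls.1
  refine le_antisymm (fun g hg => ?_) fun g hg => mem_centralizer_singleton_iff.2 (closure_perp_commute hg).eq
  set K := closure (perp D a) with hK
  have hconv : ∀ {y w : G}, y ∈ D → w ∈ D → ¬ Commute a w → ¬ Commute w y →
      w * y * (a * w) * a * (w * y * (a * w))⁻¹ = y := by
    intro y w hy hw haw hwy
    calc w * y * (a * w) * a * (w * y * (a * w))⁻¹ = (w * y) * ((a * w) * a * (a * w)⁻¹) * (w * y)⁻¹ := by group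
      _ = y := by rw [mul_conj_eq hE ha hw haw, mul_conj_eq hE hw hy hwy]
  -- changing the auxiliary member
  have hWD : ∀ {y w w' : G}, y ∈ D → w ∈ D → w' ∈ D → ¬ Commute a w → ¬ Commute w y → ¬ Commute a w' →
      ¬ Commute w' y → (w' * y * (a * w'))⁻¹ * (w * y * (a * w)) ∈ K := by
    have near : ∀ {y w w' : G}, y ∈ D → w ∈ D → w' ∈ D → ¬ Commute a w → ¬ Commute w y → ¬ Commute a w' →
        ¬ Commute w' y → ¬ Commute w w' → (w' * y * (a * w'))⁻¹ * (w * y * (a * w)) ∈ K := by
      intro y w w' hy hw hw' haw hwy haw' hw'y hww'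
      obtain ⟨k₁, hk₁, e₁⟩ := h.triangle hw hw' hy hww' hwy hw'y
      obtain ⟨k₂, hk₂, e₂⟩ := h.triangle ha hw hw' haw haw' hww'
      have e1' : w * y = w' * y * (w * w') * k₁⁻¹ := by rw [e₁, mul_inv_cancel_right]
      have : (w' * y * (a * w'))⁻¹ * (w * y * (a * w)) = k₂ * ((a * w)⁻¹ * k₁⁻¹ * (a * w)) := by
        calc (w' * y * (a * w'))⁻¹ * (w * y * (a * w))
            = (a * w')⁻¹ * ((w * w') * (a * w)) * ((a * w)⁻¹ * k₁⁻¹ * (a * w)) := by rw [e1']; group
          _ = _ := by rw [e₂, inv_mul_cancel_left]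
      rw [this]
      exact mul_mem hk₂ (h.conj_mem_closure_perp (inv_mem hk₁) (mul_conj_eq hE ha hw haw))
    intro y w w' hy hw hw' haw hwy haw' hw'y
    obtain ⟨v, hv, h1, h2, h3, h4⟩ := h.exists_nonperp₄ a y w w' ha hy hw hw'
    have := mul_mem (near hy hv hw' h1 (fun e => h2 e.symm) haw' hw'y fun e => h4 e.symm)
      (near hy hw hv haw hwy h1 (fun e => h2 e.symm) h3)
    rwa [mul_assoc, mul_inv_cancel_left] at this
  set Good : G → Prop := fun g => ∀ w ∈ D, ¬ Commute a w → ¬ Commute w (g * a * g⁻¹) →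
    (w * (g * a * g⁻¹) * (a * w))⁻¹ * g ∈ K with hGood
  have hbase : ∀ w ∈ D, w * a * (a * w) = (1 : G) := fun w hw => by
    calc w * a * (a * w) = w * (a * a) * w := by simp only [mul_assoc]
      _ = 1 := by rw [sq_eq_one hE ha, mul_one, sq_eq_one hE hw]
  have hone : Good 1 := by
    intro w hw haw hwy
    rw [one_mul, inv_one, mul_one, mul_one, hbase w hw, inv_one]
    exact one_mem _
  have hstep : ∀ x ∈ D, ∀ g : G, Good g → Good (x * g) := by
    intro x hx g hg
    set y := g * a * g⁻¹ with hy
    have hyD : y ∈ D := conj_mem h.cls g ha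
    have hy' : x * g * a * (x * g)⁻¹ = x * y * x := by
      calc x * g * a * (x * g)⁻¹ = x * (g * a * g⁻¹) * x⁻¹ := by group
        _ = x * y * x := by rw [inv_eq hE hx]
    intro w hw haw hwy
    rw [hy'] at hwy ⊢
    by_cases hxy : Commute x y
    · have e : x * y * x = y := by rw [hxy.eq, mul_assoc, sq_eq_one hE hx, mul_one]
      rw [e] at hwy ⊢
      have ht := hconv hyD hw haw hwy
      set t := w * y * (a * w) with htdef
      have hxt : t⁻¹ * x * t ∈ K := by
        refine h.mem_of_commute ha (by simpa using conj_mem h.cls t⁻¹ hx) ?_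
        have h2 := (conj_commute_iff t⁻¹ x y).2 hxy
        rwa [show t⁻¹ * y * t⁻¹⁻¹ = a by rw [← ht]; group, inv_inv] at h2
      have := mul_mem hxt (hg w hw haw hwy)
      rwa [show t⁻¹ * x * t * (t⁻¹ * g) = t⁻¹ * (x * g) by group] at this
    · set y' := x * y * x with hy'def
      have hy'D : y' ∈ D := by rw [hy'def]; simpa [inv_eq hE hx] using conj_mem h.cls x hyD
      obtain ⟨v, hv, h1, h2, h3, -⟩ := h.exists_nonperp₄ a y y' w ha hyD hy'D hw
      have hvy : ¬ Commute v y := fun e => h2 e.symm
      have hvy' : ¬ Commute v y' := fun e => h3 e.symm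
      have hyy' : ¬ Commute y y' := by
        rw [hy'def, braid hE hx hyD hxy]
        exact not_commute_third hE hyD hx fun e => hxy e.symm
      obtain ⟨k, hk, e⟩ := h.triangle hv hyD hy'D hvy hvy' hyy'
      have hgv := hg v hv h1 hvy
      set t := v * y * (a * v)
      have hx_eq : x = y * y' * y := by
        rw [hy'def, braid hE hx hyD hxy]
        calc x = (y * y) * x * (y * y) := by rw [sq_eq_one hE hyD, one_mul, mul_one]
          _ = _ := by simp only [mul_assoc]
      have hconj : (v * y)⁻¹ * y * (v * y) = v := by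
        have := mul_conj_eq hE hv hyD hvy
        calc (v * y)⁻¹ * y * (v * y) = (v * y)⁻¹ * ((v * y) * v * (v * y)⁻¹) * (v * y) := by rw [this]
          _ = v := by group
      have hxv : x * (v * y) = v * y' * (k * v) := by
        calc x * (v * y) = y * y' * (v * y) * ((v * y)⁻¹ * y * (v * y)) := by rw [hx_eq]; group
          _ = _ := by rw [hconj, e]; simp only [mul_assoc]
      have hmain : (v * y' * (a * v))⁻¹ * (x * g) ∈ K := by
        have h5 := mul_mem (h.conj_mem_closure_perp (mul_mem hk (h.self_mem hv)) (mul_conj_eq hE ha hv h1)) hgv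
        have : (v * y' * (a * v))⁻¹ * (x * g) = (a * v)⁻¹ * (k * v) * (a * v) * (t⁻¹ * g) := by
          calc (v * y' * (a * v))⁻¹ * (x * g)
              = (a * v)⁻¹ * ((v * y')⁻¹ * (x * (v * y))) * ((v * y)⁻¹ * g) := by group
            _ = (a * v)⁻¹ * (k * v) * ((v * y)⁻¹ * g) := by rw [hxv, inv_mul_cancel_left]
            _ = _ := by simp only [t]; group
        rw [this]; exact h5
      have := mul_mem (hWD hy'D hv hw h1 hvy' haw hwy) hmain
      rwa [show (w * y' * (a * w))⁻¹ * (v * y' * (a * v)) * ((v * y' * (a * v))⁻¹ * (x * g)) =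
        (w * y' * (a * w))⁻¹ * (x * g) by group] at this
  have hall : Good g := by
    refine closure_induction_left (s := D) (p := fun g _ => Good g) hone (fun x hx y _ hy => hstep x hx y hy)
      (fun x hx y _ hy => by rw [inv_eq hE hx]; exact hstep x hx y hy) (h.cls.2.2 ▸ mem_top g)
  have hga : g * a * g⁻¹ = a := by rw [mem_centralizer_singleton_iff.1 hg, mul_inv_cancel_right]
  obtain ⟨w, hw, haw, -⟩ := h.exists_nonperp₄ a a a a ha ha ha ha
  have := hall w hw haw (by rw [hga]; exact fun e => haw e.symm)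
  rwa [hga, hbase w hw, inv_one, one_mul] at this

theorem center_closure_perp {a : G} (ha : a ∈ D) :
    center ↥(closure (perp D a)) = (zpowers a).subgroupOf (closure (perp D a)) := by
  ext z
  rw [mem_subgroupOf, mem_center_iff]
  constructor
  · intro hz
    rcases h.eq_one_or_self ha (closure_perp_commute z.2).symm
      (fun e he => congrArg Subtype.val (hz ⟨e, subset_closure he⟩)) with e | e
    · rw [e]; exact one_mem _
    · rw [e]; exact mem_zpowers a
  · rintro hz g
    obtain ⟨n, hn⟩ := mem_zpowers_iff.1 hz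
    refine Subtype.ext ?_
    show (g : G) * z = z * g
    rw [← hn]
    exact ((closure_perp_commute g.2).zpow_right n).eq

theorem card_center_closure_perp {a : G} (ha : a ∈ D) : Nat.card (center ↥(closure (perp D a))) = 2 := by
  rw [h.center_closure_perp ha, Nat.card_congr (subgroupOfEquivOfLe (zpowers_le.2 (h.self_mem ha))).toEquiv,
    Nat.card_zpowers, h.cls.1.1 a ha]

theorem card_closure_perp {a : G} (ha : a ∈ D) : Nat.card ↥(closure (perp D a)) = 18393661440 := by
  rw [Subgroup.card_eq_card_quotient_mul_card_subgroup (center ↥(closure (perp D a))), (h.rich a ha).1,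
    h.card_center_closure_perp ha]

theorem card_group {a : G} (ha : a ∈ D) : Nat.card G = 3510 * 18393661440 := by
  haveI : Finite (ConjAct G) := Finite.of_equiv _ ConjAct.toConjAct.toEquiv
  have horb : MulAction.orbit (ConjAct G) a = D := by
    ext x
    rw [ConjAct.mem_orbit_conjAct, isConj_comm, isConj_iff]
    exact ⟨fun ⟨g, hg⟩ => hg ▸ conj_mem h.cls g ha, fun hx => exists_conj h.cls ha hx⟩
  have h1 := MulAction.index_stabilizer (ConjAct G) a
  obtain ⟨c, hc, hac⟩ : ∃ c ∈ D, ¬ Commute a c :=
    exists_not_commute h.cls (by obtain ⟨x, hx, y, hy, hne, -⟩ := h.exists_pair.pair; exact ⟨x, hx, y, hy, hne⟩) ha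
  rw [horb, h.card_eq ha hc hac] at h1
  have h2 : Nat.card ↥(MulAction.stabilizer (ConjAct G) a) = 18393661440 := by
    rw [← h.card_closure_perp ha, ← h.centralizer_eq ha]
    exact Nat.card_congr
      { toFun := fun g => ⟨ConjAct.ofConjAct g.1, mem_centralizer_singleton_iff.2 (by
          have := g.2
          rw [MulAction.mem_stabilizer_iff, ConjAct.smul_def] at this
          exact mul_inv_eq_iff_eq_mul.1 this)⟩
        invFun := fun g => ⟨ConjAct.toConjAct g.1, by
          rw [MulAction.mem_stabilizer_iff, ConjAct.smul_def, ConjAct.ofConjAct_toConjAct,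
            mem_centralizer_singleton_iff.1 g.2, mul_inv_cancel_right]⟩
        left_inv := fun _ => rfl
        right_inv := fun _ => rfl }
  rw [Nat.card_congr ConjAct.toConjAct.toEquiv, ← Subgroup.card_mul_index (MulAction.stabilizer (ConjAct G) a), h1, h2]

end M22

end Cfsg.Lib.ThreeTr
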