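import Cfsg.Agent.ThreeTransposition.M22Count.NormFive
import Cfsg.Agent.ThreeTransposition.OrderFive.Sylow

/-!
The subgroups of order five in type M(22), in the form used one level up.
-/

set_option autoImplicit false

namespace Cfsg.Lib.ThreeTr

open Cfsg Subgroup Cfsg.Lib.OrderFive

universe u

variable {G : Type u} [Group G] [Finite G] {D : Set G}

theorem M22.fiveSplit (h : M22 D) : FiveSplit D 5 := by
  refine ⟨fun X Y hX hY => ?_, fun x hx => ?_⟩
  · obtain ⟨x, d, rfl, hx, hd, hxd⟩ := h.five_fixed hX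
    obtain ⟨y, e, rfl, hy, he, hye⟩ := h.five_fixed hY
    exact h.five_conj_fixed hx hy hd he hxd hye
  · obtain ⟨x', d, hzp, hx', hd, hxd'⟩ := h.five_fixed (X := zpowers x) (by rw [Nat.card_zpowers, hx])
    have hxd : Commute x d := by
      obtain ⟨n, hn⟩ := mem_zpowers_iff.1 (show x ∈ zpowers x' from hzp ▸ mem_zpowers x)
      exact hn ▸ hxd'.zpow_left n
    obtain ⟨-, φ, hinj, -, hsw, hsurj⟩ := h.five_members hx (d := d) ⟨hd, hxd⟩
    have hS : SymSet (fixedSet D x) 5 := by
      refine ⟨φ, hinj, Set.Subset.antisymm (fun z hz => ?_) ?_⟩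
      · obtain ⟨a, b, hab, e⟩ := hsurj z hz
        exact ⟨_, swap_mem_swp hab, e⟩
      · rintro _ ⟨s, ⟨a, b, hab, rfl⟩, rfl⟩
        exact hsw a b hab
    have hcent : centralizer ({x} : Set G) = centralizer ((zpowers x : Subgroup G) : Set G) :=
      Subgroup.ext fun g => by rw [mem_centralizer_singleton_iff, mem_cent]; rfl
    refine ⟨hS, normalizer_split h.conj_D le_rfl hx hS (d := d) ⟨hd, hxd⟩ ?_ ?_⟩
    · rw [inf_comm, hcent, h.inf_five hd hx hxd]; rfl
    · rw [inf_comm, h.card_normalizer_inf_five hd hx hxd]; rfl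

end Cfsg.Lib.ThreeTr
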