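import Cfsg.Agent.ThreeTransposition.M22Count.FiveMembers
import Cfsg.Agent.ThreeTransposition.M22Count.MuValue

/-!
The subgroups of order five in a group of type M(22): all conjugate, each commuting with ten members which generate
a symmetric group of degree five.
-/

set_option autoImplicit false
set_option linter.unusedSectionVars false
set_option linter.style.haveILetI false

namespace Cfsg.Lib.ThreeTr

open Cfsg Subgroup Cfsg.Lib.Classical Cfsg.Lib.ThreeTrBase

attribute [local instance] _root_.Classical.propDecidable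

universe u

variable {G : Type u} [Group G] {D : Set G}

/-- The members commuting with an element. -/
def fixSet (D : Set G) (y : G) : Set G := {a : G | a ∈ D ∧ Commute y a}

theorem mem_cent {x y : G} : y ∈ centralizer ((zpowers x : Subgroup G) : Set G) ↔ Commute y x := by
  constructor
  · exact fun hy => ((mem_centralizer_iff.1 hy x (mem_zpowers x)).symm : y * x = x * y)
  · intro hy
    refine mem_centralizer_iff.2 fun g hg => ?_
    obtain ⟨n, rfl⟩ := mem_zpowers_iff.1 hg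
    exact (hy.zpow_right n).eq.symm

theorem fixSet_eq (x : G) : D ∩ (centralizer ((zpowers x : Subgroup G) : Set G) : Set G) = fixSet D x :=
  Set.ext fun a => ⟨fun ha => ⟨ha.1, (mem_cent.1 ha.2).symm⟩, fun ha => ⟨ha.1, mem_cent.2 ha.2.symm⟩⟩

theorem swap_facts : ∀ a b x y : Fin 5, a ≠ b → x ≠ y →
    (∀ i, Equiv.swap a b i = Equiv.swap x y i) ∨
    (∀ i, Equiv.swap a b (Equiv.swap x y i) = Equiv.swap x y (Equiv.swap a b i)) ∨
    ∃ e f, e ≠ f ∧ ¬ (∀ i, Equiv.swap a b i = Equiv.swap e f i) ∧ ¬ (∀ i, Equiv.swap e f i = Equiv.swap x y i) ∧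
      (∀ i, Equiv.swap a b (Equiv.swap e f i) = Equiv.swap e f (Equiv.swap a b i)) ∧
      (∀ i, Equiv.swap e f (Equiv.swap x y i) = Equiv.swap x y (Equiv.swap e f i)) := by
  decide +kernel

theorem cycle_swap : ∀ k : Fin 5, ∃ a b : Fin 5, a ≠ b ∧
    (k ≠ 0 → ∃ i, (((Equiv.swap (0 : Fin 5) 1 * Equiv.swap 1 2 * Equiv.swap 2 3 * Equiv.swap 3 4) ^ k.val : Equiv.Perm (Fin 5)) (Equiv.swap a b i))
      ≠ Equiv.swap a b (((Equiv.swap (0 : Fin 5) 1 * Equiv.swap 1 2 * Equiv.swap 2 3 * Equiv.swap 3 4) ^ k.val : Equiv.Perm (Fin 5)) i)) := by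
  decide +kernel

namespace M22

variable [Finite G] (h : M22 D)
include h

theorem nb_fixSet {y z : G} : ThreeTrBase.nb (fixSet D y) z = {a : G | a ∈ perp D z ∧ Commute y a} :=
  Set.ext fun _ => ⟨fun ha => ⟨⟨ha.1.1, ha.2.1, ha.2.2⟩, ha.1.2⟩, fun ha => ⟨⟨ha.1.1, ha.2⟩, ha.1.2.1, ha.1.2.2⟩⟩

theorem five_dvd_fixSet {y : G} (hy : orderOf y = 5) : 5 ∣ (fixSet D y).ncard := by
  haveI : Fact (Nat.Prime 5) := ⟨by norm_num⟩
  obtain ⟨d, hd, e, he, hde, -⟩ : ∃ d ∈ D, ∃ e ∈ D, ¬ Commute d e ∧ True := by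
    obtain ⟨a, ha⟩ : D.Nonempty := by
      obtain ⟨d, hd, -⟩ := h.prim.2.1
      exact ⟨d, hd⟩
    obtain ⟨c, hc, hac⟩ := exists_not_commute h.cls
      (by obtain ⟨x, hx, y, hy, hne, -⟩ := h.exists_pair.pair; exact ⟨x, hx, y, hy, hne⟩) ha
    exact ⟨a, ha, c, hc, hac, trivial⟩
  letI : MulAction (zpowers y) D :=
    { smul := fun g a => ⟨(g : G) * a * (g : G)⁻¹, conj_mem h.cls _ a.2⟩
      one_smul := fun a => Subtype.ext (show ((1 : zpowers y) : G) * a * ((1 : zpowers y) : G)⁻¹ = a by simp)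
      mul_smul := fun g k a => Subtype.ext (show ((g * k : zpowers y) : G) * a * ((g * k : zpowers y) : G)⁻¹ =
          (g : G) * ((k : G) * a * (k : G)⁻¹) * (g : G)⁻¹ by push_cast; group) }
  have hp : IsPGroup 5 (zpowers y) := IsPGroup.of_card (n := 1) (by rw [Nat.card_zpowers, hy, pow_one])
  have hm := hp.card_modEq_card_fixedPoints D
  have hfix : Nat.card (MulAction.fixedPoints (zpowers y) D) = (fixSet D y).ncard := by
    rw [← Nat.card_coe_set_eq]
    refine Nat.card_congr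
      { toFun := fun a => ⟨(a.1 : G), a.1.2, ?_⟩
        invFun := fun a => ⟨⟨a.1, a.2.1⟩, fun g => ?_⟩
        left_inv := fun a => rfl
        right_inv := fun a => rfl }
    · have := congrArg Subtype.val (a.2 ⟨y, mem_zpowers y⟩)
      exact (mul_inv_eq_iff_eq_mul.1 this : y * a.1.1 = a.1.1 * y)
    · obtain ⟨n, hn⟩ := mem_zpowers_iff.1 g.2
      refine Subtype.ext (show (g : G) * a.1 * (g : G)⁻¹ = a.1 from ?_)
      rw [← hn, (a.2.2.zpow_left n).eq, mul_inv_cancel_right]
  rw [hfix, Nat.card_coe_set_eq, h.card_eq hd he hde] at hm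
  unfold Nat.ModEq at hm
  omega

theorem flat_fixSet {y : G} (hy : orderOf y = 5) : Flat (fixSet D y) := by
  have hE := h.cls.1
  have htr : IsThreeTranspositionSet (fixSet D y) := ⟨fun d hd => hE.1 d hd.1, fun d hd e he => hE.2 d hd.1 e he.1⟩
  have hcl : ∀ a ∈ fixSet D y, ∀ b ∈ fixSet D y, a * b * a ∈ fixSet D y := fun a ha b hb =>
    ⟨by simpa [inv_eq hE ha.1] using conj_mem h.cls a hb.1, (ha.2.mul_right hb.2).mul_right ha.2⟩
  have hthree : ∀ d ∈ fixSet D y, (ThreeTrBase.nb (fixSet D y) d).ncard = 3 := by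
    intro d hd
    rw [h.nb_fixSet]
    exact (h.nb_five hd.1 hy hd.2).1
  have htri : ∀ d ∈ fixSet D y, ∀ a ∈ ThreeTrBase.nb (fixSet D y) d, ∀ b ∈ ThreeTrBase.nb (fixSet D y) d,
      a ≠ b → ¬ Commute a b := by
    intro d hd a ha b hb hne
    rw [h.nb_fixSet] at ha hb
    exact (h.nb_five hd.1 hy hd.2).2.1 a ha.1 ha.2 b hb.1 hb.2 hne
  refine ⟨htr, hcl, hthree, htri, le_ten_of_flat htr hcl hthree htri ?_⟩
  · intro a ha b hb c hc hab hac hbc hne
    by_contra hcomm
    have hthird : a * b * a ∈ fixSet D y := ⟨by simpa [inv_eq hE ha.1] using conj_mem h.cls a hb.1,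
      (ha.2.mul_right hb.2).mul_right ha.2⟩
    have h18 := h.plane_eq ha.1 hb.1 hab (h.mu_eq ha.1 hb.1 hab) hc.1 (fun e => hac e.symm) (fun e => hbc e.symm)
      (fun e => hcomm e.symm)
    set U := (mem' D).filter fun z => Commute z a ∧ Commute z b ∧ Commute z c
    have hinv : ∀ {z : G} {k : ℤ}, z ∈ U → y ^ k * z * (y ^ k)⁻¹ ∈ U := by
      intro z k hz
      simp only [U, Finset.mem_filter, mem_mem'] at hz ⊢
      have key : ∀ {w : G}, Commute y w → Commute z w → Commute (y ^ k * z * (y ^ k)⁻¹) w := fun hyw hzw =>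
        ((hyw.zpow_left k).mul_left hzw).mul_left (hyw.zpow_left k).inv_left
      exact ⟨conj_mem h.cls _ hz.1, key ha.2 hz.2.1, key hb.2 hz.2.2.1, key hc.2 hz.2.2.2⟩
    let σ : Equiv.Perm {z // z ∈ U} :=
      { toFun := fun z => ⟨y ^ (1 : ℤ) * z.1 * (y ^ (1 : ℤ))⁻¹, hinv z.2⟩
        invFun := fun z => ⟨y ^ (-1 : ℤ) * z.1 * (y ^ (-1 : ℤ))⁻¹, hinv z.2⟩
        left_inv := fun z => Subtype.ext (by simp [mul_assoc])
        right_inv := fun z => Subtype.ext (by simp [mul_assoc]) }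
    have hpow : ∀ (n : ℕ) (z : {z // z ∈ U}), ((σ ^ n) z).1 = y ^ n * z.1 * (y ^ n)⁻¹ := by
      intro n
      induction n with
      | zero => intro z; simp
      | succ n ih =>
        intro z
        rw [pow_succ', Equiv.Perm.mul_apply]
        show y ^ (1 : ℤ) * ((σ ^ n) z).1 * (y ^ (1 : ℤ))⁻¹ = _
        rw [ih, zpow_one, pow_succ', mul_inv_rev]
        simp only [mul_assoc]
    haveI : Fact (Nat.Prime 5) := ⟨by norm_num⟩
    obtain ⟨z, hz⟩ := Equiv.Perm.exists_fixed_point_of_prime (p := 5) (n := 1) (α := {z // z ∈ U})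
      (by rw [Fintype.card_coe, h18]; norm_num) (σ := σ) (Equiv.ext fun z => Subtype.ext (by
        rw [hpow, pow_one, ← hy, pow_orderOf_eq_one]; simp))
    have hz' := hpow 1 z
    rw [pow_one, hz, pow_one, eq_mul_inv_iff_mul_eq] at hz'
    have hzy : Commute y z.1 := hz'.symm
    have hzU := z.2
    simp only [U, Finset.mem_filter, mem_mem'] at hzU
    -- the three members are the neighbours of the fixed one
    have hza : z.1 ≠ a := fun e => hab (e ▸ hzU.2.2.1)
    have hzb : z.1 ≠ b := fun e => hab (e ▸ hzU.2.1).symm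
    have hzc : z.1 ≠ c := fun e => hac (e ▸ hzU.2.1).symm
    obtain ⟨hcard, -, -⟩ := h.nb_five hzU.1 hy hzy
    set S := {w : G | w ∈ perp D z.1 ∧ Commute y w}
    have haS : a ∈ S := ⟨⟨ha.1, hza.symm, hzU.2.1⟩, ha.2⟩
    have hbS : b ∈ S := ⟨⟨hb.1, hzb.symm, hzU.2.2.1⟩, hb.2⟩
    have hcS : c ∈ S := ⟨⟨hc.1, hzc.symm, hzU.2.2.2⟩, hc.2⟩
    have htS : a * b * a ∈ S := by
      have hct : Commute z.1 (a * b * a) := (hzU.2.1.mul_right hzU.2.2.1).mul_right hzU.2.1
      exact ⟨⟨hthird.1, fun e => not_commute_third hE ha.1 hb.1 hab (by rw [e]; exact hzU.2.1.symm), hct⟩, hthird.2⟩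
    have hsub : ({a, b, c, a * b * a} : Set G) ⊆ S := by
      rintro w (rfl | rfl | rfl | rfl)
      exacts [haS, hbS, hcS, htS]
    have := Set.ncard_le_ncard hsub
    have hac' : a ≠ c := fun e => hac (e ▸ Commute.refl a)
    have hbc' : b ≠ c := fun e => hbc (e ▸ Commute.refl b)
    have hab' : a ≠ b := fun e => hab (e ▸ Commute.refl a)
    have hat : a ≠ a * b * a := fun e => not_commute_third hE ha.1 hb.1 hab (by rw [← e])
    have hbt : b ≠ a * b * a := fun e => by
      have h' := not_commute_third hE hb.1 ha.1 (fun e' => hab e'.symm)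
      rw [← third_eq hE ha.1 hb.1 hab, ← e] at h'
      exact h' (Commute.refl b)
    rw [hcard, Set.ncard_insert_of_notMem (by simp [hab', hac', hat]),
      Set.ncard_insert_of_notMem (by simp [hbc', hbt]), Set.ncard_pair hne] at this
    omega

/-- The ten members and the symmetric group they generate. -/
theorem five_members {y d : G} (hy : orderOf y = 5) (hd : d ∈ fixSet D y) :
    (fixSet D y).ncard = 10 ∧ ∃ φ : Equiv.Perm (Fin 5) →* G, Function.Injective φ ∧
      φ.range = closure (fixSet D y) ∧ (∀ a b : Fin 5, a ≠ b → φ (Equiv.swap a b) ∈ fixSet D y) ∧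
      ∀ z ∈ fixSet D y, ∃ a b : Fin 5, a ≠ b ∧ φ (Equiv.swap a b) = z :=
  (h.flat_fixSet hy).five hd fun e => by
    have := h.five_dvd_fixSet hy
    omega

theorem inf_five {y d : G} (hd : d ∈ D) (hy : orderOf y = 5) (hyd : Commute y d) :
    Nat.card ↥(centralizer ((zpowers y : Subgroup G) : Set G) ⊓ centralizer {d}) = 60 := by
  have hE := h.cls.1
  set A := centralizer ((zpowers y : Subgroup G) : Set G) ⊓ centralizer {d}
  set S := {a : G | a ∈ perp D d ∧ Commute y a}
  obtain ⟨hS3, hnc, hrig⟩ := h.nb_five hd hy hyd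
  have memA : ∀ {g}, g ∈ A ↔ Commute g y ∧ Commute g d := fun {g} =>
    ⟨fun hg => ⟨mem_cent.1 hg.1, mem_centralizer_singleton_iff.1 hg.2⟩,
      fun hg => ⟨mem_cent.2 hg.1, mem_centralizer_singleton_iff.2 hg.2.eq⟩⟩
  have hinv : ∀ (g : A) {a : G}, a ∈ S → (g : G) * a * (g : G)⁻¹ ∈ S := by
    intro g a ha
    refine ⟨conj_mem_perp h.conj_D (h.mem_K hd (memA.1 g.2).2) ha.1, ?_⟩
    exact ((memA.1 g.2).1.symm.mul_right ha.2).mul_right (memA.1 g.2).1.symm.inv_right
  letI : MulAction A S :=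
    { smul := fun g a => ⟨(g : G) * a * (g : G)⁻¹, hinv g a.2⟩
      one_smul := fun a => Subtype.ext (show ((1 : A) : G) * a * ((1 : A) : G)⁻¹ = a by simp)
      mul_smul := fun g k a => Subtype.ext (show ((g * k : A) : G) * a * ((g * k : A) : G)⁻¹ =
          (g : G) * ((k : G) * a * (k : G)⁻¹) * (g : G)⁻¹ by push_cast; group) }
  set φ := MulAction.toPermHom A S with hφ
  have hmove : ∀ (g : A) (a : S), ((φ g a : S) : G) = (g : G) * a * (g : G)⁻¹ := fun _ _ => rfl
  obtain ⟨a, b, c, hab, -, -, hS⟩ := Set.ncard_eq_three.1 hS3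
  have ha : a ∈ S := by rw [show S = {a, b, c} from hS]; simp
  have hb : b ∈ S := by rw [show S = {a, b, c} from hS]; simp
  have hker : φ.ker = (zpowers (y * d)).subgroupOf A := by
    ext g
    rw [MonoidHom.mem_ker, mem_subgroupOf]
    constructor
    · intro hg
      have hfix : ∀ w : S, Commute (g : G) (w : G) := fun w => by
        have := hmove g w
        rw [hg] at this
        exact mul_inv_eq_iff_eq_mul.1 this.symm
      obtain ⟨i, e | e⟩ := hrig a b g ha.1 hb.1 ha.2 hb.2 hab (memA.1 g.2).2 (memA.1 g.2).1 (hfix ⟨a, ha⟩) (hfix ⟨b, hb⟩)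
      all_goals
        have hy5 : y ^ 5 = 1 := hy ▸ pow_orderOf_eq_one y
        have hd2 : d * d = 1 := sq_eq_one hE hd
        have h6 : (y * d) ^ 6 = y := by
          rw [hyd.mul_pow, pow_succ y 5, hy5, one_mul, show d ^ 6 = (d * d) ^ 3 by rw [← sq, ← pow_mul], hd2, one_pow,
            mul_one]
        have h5 : (y * d) ^ 5 = d := by
          rw [hyd.mul_pow, hy5, one_mul, show d ^ 5 = (d * d) ^ 2 * d by rw [← sq, ← pow_mul, ← pow_succ], hd2, one_pow,
            one_mul]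
        have my : y ∈ zpowers (y * d) := by
          have := pow_mem (mem_zpowers (y * d)) 6; rwa [h6] at this
        have md : d ∈ zpowers (y * d) := by
          have := pow_mem (mem_zpowers (y * d)) 5; rwa [h5] at this
        rw [e]
      · exact pow_mem my i
      · exact mul_mem (pow_mem my i) md
    · intro hg
      refine Equiv.ext fun w => Subtype.ext ?_
      rw [hmove]
      obtain ⟨n, hn⟩ := mem_zpowers_iff.1 hg
      have : Commute (y * d) (w : G) := w.2.2.mul_left w.2.1.2.2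
      rw [← hn, (this.zpow_left n).eq, mul_inv_cancel_right]
      rfl
  have hk : Nat.card φ.ker = 10 := by
    have hle : zpowers (y * d) ≤ A := zpowers_le.2
      (memA.2 ⟨(Commute.refl y).mul_left hyd.symm, hyd.mul_left (Commute.refl d)⟩)
    rw [hker, Nat.card_congr (subgroupOfEquivOfLe hle).toEquiv, Nat.card_zpowers,
      hyd.orderOf_mul_eq_mul_orderOf_of_coprime (by rw [hy, hE.1 d hd]; norm_num), hy, hE.1 d hd]
  have haA : a ∈ A := memA.2 ⟨ha.2.symm, ha.1.2.2.symm⟩
  have hbA : b ∈ A := memA.2 ⟨hb.2.symm, hb.1.2.2.symm⟩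
  have hnab := hnc a ha.1 ha.2 b hb.1 hb.2 hab
  have h2ord : orderOf (φ ⟨a, haA⟩) = 2 := by
    haveI : Fact (Nat.Prime 2) := ⟨Nat.prime_two⟩
    refine orderOf_eq_prime ?_ fun h1 => hnab ?_
    · rw [← map_pow, show (⟨a, haA⟩ : A) ^ 2 = 1 from Subtype.ext (by rw [Subgroup.coe_pow, sq]; exact sq_eq_one hE ha.1.1),
        map_one]
    · have := hmove ⟨a, haA⟩ ⟨b, hb⟩
      rw [h1] at this
      exact mul_inv_eq_iff_eq_mul.1 this.symm
  have h3ord : orderOf (φ ⟨a * b, mul_mem haA hbA⟩) = 3 := by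
    haveI : Fact (Nat.Prime 3) := ⟨Nat.prime_three⟩
    refine orderOf_eq_prime ?_ fun h1 => hab ?_
    · rw [← map_pow, show (⟨a * b, mul_mem haA hbA⟩ : A) ^ 3 = 1 from Subtype.ext
        (by rw [Subgroup.coe_pow]; exact cube_of_not_commute hE ha.1.1 hb.1.1 hnab), map_one]
    · have := hmove ⟨a * b, mul_mem haA hbA⟩ ⟨a, ha⟩
      rw [h1] at this
      exact this.trans (mul_conj_eq hE ha.1.1 hb.1.1 hnab)
  have hcP : Nat.card (Equiv.Perm S) = 6 := by rw [Nat.card_perm, Nat.card_coe_set_eq, hS3]; rfl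
  have hsurj : Function.Surjective φ := by
    refine MonoidHom.range_eq_top.1 (Subgroup.eq_top_of_le_card _ ?_)
    rw [hcP]
    refine Nat.le_of_dvd Nat.card_pos (Nat.Coprime.mul_dvd_of_dvd_of_dvd (show Nat.Coprime 2 3 by norm_num) ?_ ?_)
    · rw [← h2ord, ← Subgroup.orderOf_mk _ (MonoidHom.mem_range.2 ⟨_, rfl⟩ : φ ⟨a, haA⟩ ∈ φ.range)]
      exact orderOf_dvd_natCard _
    · rw [← h3ord, ← Subgroup.orderOf_mk _ (MonoidHom.mem_range.2 ⟨_, rfl⟩ : φ ⟨a * b, mul_mem haA hbA⟩ ∈ φ.range)]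
      exact orderOf_dvd_natCard _
  rw [card_eq_card_quotient_mul_card_subgroup φ.ker,
    Nat.card_congr (QuotientGroup.quotientKerEquivOfSurjective φ hsurj).toEquiv, hcP, hk]

theorem card_normalizer_inf_five {y d : G} (hd : d ∈ D) (hy : orderOf y = 5) (hyd : Commute y d) :
    Nat.card ↥(normalizer ((zpowers y : Subgroup G) : Set G) ⊓ centralizer {d}) = 240 := by
  haveI : Fact (Nat.Prime 5) := ⟨by norm_num⟩
  set X := zpowers y with hXdef
  set A := normalizer (X : Set G) ⊓ centralizer {d} with hA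
  have hcX : Nat.card X = 5 := by rw [hXdef, Nat.card_zpowers, hy]
  set φ : A →* MulAut X := X.normalizerMonoidHom.comp (inclusion inf_le_left) with hφ
  have hker : φ.ker = (centralizer (X : Set G) ⊓ centralizer {d}).subgroupOf A := by
    ext a
    rw [hφ, MonoidHom.mem_ker, MonoidHom.comp_apply, ← MonoidHom.mem_ker, normalizerMonoidHom_ker, mem_subgroupOf,
      mem_subgroupOf, Subgroup.mem_inf]
    exact ⟨fun ha => ⟨ha, a.2.2⟩, fun ha => ha.1⟩
  have hck : Nat.card φ.ker = 60 := by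
    rw [hker, Nat.card_congr (subgroupOfEquivOfLe
      (inf_le_inf_right _ (Subgroup.centralizer_le_normalizer _))).toEquiv]
    exact h.inf_five hd hy hyd
  have hrange : Nat.card φ.range ∣ 4 := by
    have := Subgroup.card_subgroup_dvd_card φ.range
    rwa [IsCyclic.card_mulAut, hcX, Nat.totient_prime (by norm_num)] at this
  have hcard : Nat.card A = Nat.card φ.range * 60 := by
    rw [← hck, ← Nat.card_congr (QuotientGroup.quotientKerEquivRange φ).toEquiv]
    exact card_eq_card_quotient_mul_card_subgroup _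
  have hKd : centralizer {d} = closure (perp D d) := h.centralizer_eq hd
  set K := centralizer ({d} : Set G) with hK
  have hXK : X ≤ K := zpowers_le.2 (mem_centralizer_singleton_iff.2 hyd.eq)
  have hKcard : Nat.card K = 18393661440 := by rw [hKd]; exact h.card_closure_perp hd
  set P : Sylow 5 K := Sylow.ofCard (X.subgroupOf K) (by
    rw [Nat.card_congr (subgroupOfEquivOfLe hXK).toEquiv, hcX, hKcard,
      show (18393661440 : ℕ) = 5 ^ 1 * 3678732288 by norm_num,
      Nat.factorization_mul (by norm_num) (by norm_num), Finsupp.add_apply,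
      Nat.Prime.factorization_pow (by norm_num), Nat.factorization_eq_zero_of_not_dvd (by norm_num)]
    simp) with hP
  have h1 := card_sylow_modEq_one 5 K
  rw [P.card_eq_index_normalizer,
    show normalizer (P : Set K) = normalizer ((P : Subgroup K) : Set K) from rfl] at h1
  have hN : Nat.card (normalizer ((P : Subgroup K) : Set K)) = Nat.card A := by
    rw [show (P : Subgroup K) = X.subgroupOf K from rfl, ← subgroupOf_normalizer_eq hXK]
    exact Nat.card_congr ((MulEquiv.subgroupCongr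
      (show (normalizer (X : Set G)).subgroupOf K = A.subgroupOf K by rw [hA, inf_subgroupOf_right])).trans
        (subgroupOfEquivOfLe inf_le_right)).toEquiv
  have h2 := Subgroup.card_mul_index (normalizer ((P : Subgroup K) : Set K))
  rw [hN, hKcard, hcard] at h2
  set i := (normalizer ((P : Subgroup K) : Set K)).index
  set r := Nat.card φ.range
  rw [hcard]
  have hr : r ≤ 4 := Nat.le_of_dvd (by norm_num) hrange
  unfold Nat.ModEq at h1
  interval_cases r <;> omega

theorem normaliser_five {y d₀ : G} (hd₀ : d₀ ∈ D) (hy : orderOf y = 5) (hyd₀ : Commute y d₀) :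
    ∃ F : Subgroup G, Nat.card ↥F = 20 ∧ zpowers y ≤ F ∧
      F ⊓ centralizer ((zpowers y : Subgroup G) : Set G) = zpowers y ∧
      F ⊓ closure (D ∩ (centralizer ((zpowers y : Subgroup G) : Set G) : Set G)) = ⊥ ∧
      (∀ f ∈ F, ∀ z ∈ closure (D ∩ (centralizer ((zpowers y : Subgroup G) : Set G) : Set G)), f * z = z * f) ∧
      F ⊔ closure (D ∩ (centralizer ((zpowers y : Subgroup G) : Set G) : Set G)) =
        normalizer ((zpowers y : Subgroup G) : Set G) ∧
      Nonempty (↥(closure (D ∩ (centralizer ((zpowers y : Subgroup G) : Set G) : Set G))) ≃*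
        Equiv.Perm (Fin 5)) := by
  have hE := h.cls.1
  rw [fixSet_eq]
  obtain ⟨hk, φ, hinj, hrange, hsw, hsurj⟩ := h.five_members hy (d := d₀) ⟨hd₀, hyd₀⟩
  set P := fixSet D y
  set X := zpowers y with hXdef
  set N := normalizer (X : Set G) with hN
  have hCN : centralizer (X : Set G) ≤ N := Subgroup.centralizer_le_normalizer _
  set S := closure P with hS
  have hSC : S ≤ centralizer (X : Set G) := (closure_le _).2 fun z hz => mem_cent.2 hz.2.symm
  have hSN : S ≤ N := hSC.trans hCN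
  set d := φ (Equiv.swap 0 1)
  set p := φ (Equiv.swap 1 2)
  set b := φ (Equiv.swap 2 3)
  set a := φ (Equiv.swap 3 4)
  have hd : d ∈ P := hsw 0 1 (by decide)
  have hp : p ∈ P := hsw 1 2 (by decide)
  have hb : b ∈ P := hsw 2 3 (by decide)
  have ha : a ∈ P := hsw 3 4 (by decide)
  have hcm : ∀ s u : Equiv.Perm (Fin 5), Commute (φ s) (φ u) ↔ s * u = u * s := fun s u =>
    ⟨fun e => hinj (by rw [map_mul, map_mul]; exact e.eq),
      fun e => show φ s * φ u = φ u * φ s by rw [← map_mul, ← map_mul, e]⟩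
  have hne : ∀ s u : Equiv.Perm (Fin 5), s ≠ u → φ s ≠ φ u := fun s u hne e => hne (hinj e)
  have hda : a ∈ ThreeTrBase.nb P d := ⟨ha, hne _ _ (by decide), (hcm _ _).2 (by decide)⟩
  have hdb : b ∈ ThreeTrBase.nb P d := ⟨hb, hne _ _ (by decide), (hcm _ _).2 (by decide)⟩
  have had : d ∈ ThreeTrBase.nb P a := ⟨hd, hne _ _ (by decide), (hcm _ _).2 (by decide)⟩
  have hap : p ∈ ThreeTrBase.nb P a := ⟨hp, hne _ _ (by decide), (hcm _ _).2 (by decide)⟩
  have haq : d * p * d ∈ ThreeTrBase.nb P a := by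
    refine ⟨(h.flat_fixSet hy).closed d hd p hp, ?_, ?_⟩
    · show φ (Equiv.swap 0 1) * φ (Equiv.swap 1 2) * φ (Equiv.swap 0 1) ≠ a
      rw [← map_mul, ← map_mul]; exact hne _ _ (by decide)
    · show Commute a (φ (Equiv.swap 0 1) * φ (Equiv.swap 1 2) * φ (Equiv.swap 0 1))
      rw [← map_mul, ← map_mul]; exact (hcm _ _).2 (by decide)
  have nb_eq : ∀ {z u v w}, z ∈ P → u ∈ ThreeTrBase.nb P z → v ∈ ThreeTrBase.nb P z → w ∈ ThreeTrBase.nb P z → u ≠ v → u ≠ w → v ≠ w →
      ThreeTrBase.nb P z = {u, v, w} := fun {z u v w} hz hu hv hw h1 h2 h3 =>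
    (Set.eq_of_subset_of_ncard_le (by rintro t (rfl | rfl | rfl) <;> assumption)
      (by rw [(h.flat_fixSet hy).three z hz, Set.ncard_eq_three.2 ⟨u, v, w, h1, h2, h3, rfl⟩])).symm
  have hnba : ThreeTrBase.nb P a = {d, p, d * p * d} := by
    refine nb_eq ha had hap haq (hne _ _ (by decide)) ?_ ?_
    · show φ (Equiv.swap 0 1) ≠ φ (Equiv.swap 0 1) * φ (Equiv.swap 1 2) * φ (Equiv.swap 0 1)
      rw [← map_mul, ← map_mul]; exact hne _ _ (by decide)
    · show φ (Equiv.swap 1 2) ≠ φ (Equiv.swap 0 1) * φ (Equiv.swap 1 2) * φ (Equiv.swap 0 1)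
      rw [← map_mul, ← map_mul]; exact hne _ _ (by decide)
  have hinv : ∀ {n : G}, n ∈ N → ∀ {z}, z ∈ P → n * z * n⁻¹ ∈ P := by
    intro n hn z hz
    refine ⟨conj_mem h.cls _ hz.1, ?_⟩
    have hg' : n⁻¹ * y * n ∈ X := (mem_normalizer_iff.1 hn (n⁻¹ * y * n)).2 (by rw [show n * (n⁻¹ * y * n) * n⁻¹ = y by group]; exact mem_zpowers y)
    obtain ⟨k, hk⟩ := mem_zpowers_iff.1 hg'
    have hc : Commute (n⁻¹ * y * n) z := hk ▸ hz.2.zpow_left k
    show y * (n * z * n⁻¹) = n * z * n⁻¹ * y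
    calc y * (n * z * n⁻¹) = n * ((n⁻¹ * y * n) * z) * n⁻¹ := by group
      _ = _ := by rw [hc.eq]; group
  have hnb : ∀ {n : G}, n ∈ N → ∀ {z w}, w ∈ ThreeTrBase.nb P z → n * w * n⁻¹ ∈ ThreeTrBase.nb P (n * z * n⁻¹) := fun {n} hn {z w} hw =>
    ⟨hinv hn hw.1, fun e => hw.2.1 (mul_left_cancel (mul_right_cancel e)), hw.2.2.map (MulAut.conj n).toMonoidHom⟩
  have hmoveS : ∀ s : Equiv.Perm (Fin 5), φ s ∈ S := fun s => by rw [← hrange]; exact ⟨s, rfl⟩
  -- adjusting by the symmetric group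
  have step1 : ∀ n ∈ N, ∃ s ∈ S, (s * n) * d * (s * n)⁻¹ = d := by
    intro n hn
    obtain ⟨u, v, huv, e⟩ := hsurj _ (hinv hn hd)
    obtain ⟨σ, hσ⟩ := swap_conj u v huv
    refine ⟨φ σ⁻¹, hmoveS _, ?_⟩
    rw [show φ σ⁻¹ * n * d * (φ σ⁻¹ * n)⁻¹ = φ σ⁻¹ * (n * d * n⁻¹) * (φ σ⁻¹)⁻¹ by group, ← e,
      ← show σ * Equiv.swap 0 1 * σ⁻¹ = Equiv.swap u v from Equiv.ext hσ]
    simp [d, mul_assoc]
  obtain ⟨-, -, hrig⟩ := h.nb_five hd.1 hy hd.2
  have hnbd : ThreeTrBase.nb P d = {a, b, a * b * a} := by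
    have hthird : a * b * a ∈ ThreeTrBase.nb P d := (h.flat_fixSet hy).third hda hdb
    refine nb_eq hd hda hdb hthird (hne _ _ (by decide)) ?_ ?_
    · show φ (Equiv.swap 3 4) ≠ φ (Equiv.swap 3 4) * φ (Equiv.swap 2 3) * φ (Equiv.swap 3 4)
      rw [← map_mul, ← map_mul]; exact hne _ _ (by decide)
    · show φ (Equiv.swap 2 3) ≠ φ (Equiv.swap 3 4) * φ (Equiv.swap 2 3) * φ (Equiv.swap 3 4)
      rw [← map_mul, ← map_mul]; exact hne _ _ (by decide)
  have hsd : ∀ s : Equiv.Perm (Fin 5), s * Equiv.swap 0 1 = Equiv.swap 0 1 * s → φ s * d * (φ s)⁻¹ = d :=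
    fun s e => mul_inv_eq_iff_eq_mul.2 ((hcm _ _).2 e).eq
  have step2 : ∀ n ∈ N, n * d * n⁻¹ = d → ∃ s ∈ S, (s * n) * d * (s * n)⁻¹ = d ∧
      (s * n) * a * (s * n)⁻¹ = a ∧ (s * n) * b * (s * n)⁻¹ = b := by
    intro n hn hnd
    have hA : n * a * n⁻¹ ∈ ThreeTrBase.nb P d := by have := hnb hn hda; rwa [hnd] at this
    have hB : n * b * n⁻¹ ∈ ThreeTrBase.nb P d := by have := hnb hn hdb; rwa [hnd] at this
    rw [hnbd] at hA hB
    have hAB : n * a * n⁻¹ ≠ n * b * n⁻¹ := fun e => (hne _ _ (by decide) : a ≠ b) (mul_left_cancel (mul_right_cancel e))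
    have hs : ∃ s : Equiv.Perm (Fin 5), s * Equiv.swap 0 1 = Equiv.swap 0 1 * s ∧
        φ s * (n * a * n⁻¹) * (φ s)⁻¹ = a ∧ φ s * (n * b * n⁻¹) * (φ s)⁻¹ = b := by
      have hc : a * b * a = φ (Equiv.swap 3 4 * Equiv.swap 2 3 * Equiv.swap 3 4) := by rw [map_mul, map_mul]
      rw [hc] at hA hB
      simp only [Set.mem_insert_iff, Set.mem_singleton_iff] at hA hB
      have key : ∀ u v : Equiv.Perm (Fin 5), φ u = n * a * n⁻¹ → φ v = n * b * n⁻¹ → ∀ s : Equiv.Perm (Fin 5),
          s * Equiv.swap 0 1 = Equiv.swap 0 1 * s → s * u = Equiv.swap 3 4 * s → s * v = Equiv.swap 2 3 * s →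
          ∃ s : Equiv.Perm (Fin 5), s * Equiv.swap 0 1 = Equiv.swap 0 1 * s ∧
            φ s * (n * a * n⁻¹) * (φ s)⁻¹ = a ∧ φ s * (n * b * n⁻¹) * (φ s)⁻¹ = b := by
        intro u v hu hv s h1 h2 h3
        refine ⟨s, h1, ?_, ?_⟩
        · rw [← hu, ← map_mul, h2, map_mul, mul_inv_cancel_right]
        · rw [← hv, ← map_mul, h3, map_mul, mul_inv_cancel_right]
      rcases hA with eA | eA | eA <;> rcases hB with eB | eB | eB
      · exact absurd (eA.trans eB.symm) hAB
      · exact key _ _ eA.symm eB.symm 1 (by decide) (by decide) (by decide)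
      · exact key _ _ eA.symm eB.symm (Equiv.swap 3 4) (by decide) (by decide) (by decide)
      · exact key _ _ eA.symm eB.symm (Equiv.swap 2 4) (by decide) (by decide) (by decide)
      · exact absurd (eA.trans eB.symm) hAB
      · exact key _ _ eA.symm eB.symm (Equiv.swap 2 4 * Equiv.swap 2 3) (by decide) (by decide) (by decide)
      · exact key _ _ eA.symm eB.symm (Equiv.swap 2 3 * Equiv.swap 2 4) (by decide) (by decide) (by decide)
      · exact key _ _ eA.symm eB.symm (Equiv.swap 2 3) (by decide) (by decide) (by decide)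
      · exact absurd (eA.trans eB.symm) hAB
    obtain ⟨s, hs1, hs2, hs3⟩ := hs
    refine ⟨φ s, hmoveS s, ?_, ?_, ?_⟩
    · rw [show φ s * n * d * (φ s * n)⁻¹ = φ s * (n * d * n⁻¹) * (φ s)⁻¹ by group, hnd, hsd s hs1]
    · rw [show φ s * n * a * (φ s * n)⁻¹ = φ s * (n * a * n⁻¹) * (φ s)⁻¹ by group, hs2]
    · rw [show φ s * n * b * (φ s * n)⁻¹ = φ s * (n * b * n⁻¹) * (φ s)⁻¹ by group, hs3]
  set F := N ⊓ centralizer P with hF
  have hfixall : ∀ n ∈ N, n * d * n⁻¹ = d → n * p * n⁻¹ = p → n * b * n⁻¹ = b → n * a * n⁻¹ = a → n ∈ F := by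
    intro n hn e1 e2 e3 e4
    refine ⟨hn, mem_centralizer_iff.2 fun z hz => ?_⟩
    have hle : φ.range ≤ centralizer {n} := by
      rw [MonoidHom.range_eq_map, ← Subgroup.closure_eq (⊤ : Subgroup (Equiv.Perm (Fin 5)))]
      rw [show Subgroup.closure ((⊤ : Subgroup (Equiv.Perm (Fin 5))) : Set (Equiv.Perm (Fin 5))) =
          Subgroup.closure {Equiv.swap 0 1, Equiv.swap 1 2, Equiv.swap 2 3, Equiv.swap 3 4} from ?_,
        MonoidHom.map_closure, closure_le]
      · rintro _ ⟨s, (rfl | rfl | rfl | rfl), rfl⟩ <;> rw [SetLike.mem_coe, mem_centralizer_singleton_iff]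
        exacts [(mul_inv_eq_iff_eq_mul.1 e1).symm, (mul_inv_eq_iff_eq_mul.1 e2).symm,
          (mul_inv_eq_iff_eq_mul.1 e3).symm, (mul_inv_eq_iff_eq_mul.1 e4).symm]
      · rw [Subgroup.closure_eq, eq_comm, Subgroup.eq_top_iff']
        intro s
        have hs : s ∈ Submonoid.closure (Set.range fun i : Fin 4 => Equiv.swap i.castSucc i.succ) := by
          rw [Equiv.Perm.mclosure_swap_castSucc_succ 4]; trivial
        induction hs using Submonoid.closure_induction with
        | mem u hu =>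
          obtain ⟨i, rfl⟩ := hu
          refine Subgroup.subset_closure ?_
          fin_cases i <;> simp
        | one => exact one_mem _
        | mul u v _ _ hu hv => exact mul_mem hu hv
    exact mem_centralizer_singleton_iff.1 (hle (by rw [hrange]; exact subset_closure hz))
  have step3 : ∀ n ∈ N, n * d * n⁻¹ = d → n * a * n⁻¹ = a → n * b * n⁻¹ = b → ∃ s ∈ S, s * n ∈ F := by
    intro n hn e1 e4 e3
    have hP : n * p * n⁻¹ ∈ ThreeTrBase.nb P a := by have := hnb hn hap; rwa [e4] at this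
    rw [hnba] at hP
    rcases hP with e2 | e2 | e2
    · exfalso
      have : p = d := mul_left_cancel (mul_right_cancel (e2.trans e1.symm))
      exact hne _ _ (by decide) this
    · exact ⟨1, one_mem _, by rw [one_mul]; exact hfixall n hn e1 e2 e3 e4⟩
    · have key : ∀ w, n * w * n⁻¹ = w → Commute d w → d * n * w * (d * n)⁻¹ = w := fun w hw hdw => by
        rw [show d * n * w * (d * n)⁻¹ = d * (n * w * n⁻¹) * d⁻¹ by group, hw, hdw.eq, mul_inv_cancel_right]
      refine ⟨d, hmoveS _, hfixall _ (mul_mem (hSN (hmoveS _)) hn) (key d e1 (Commute.refl d)) ?_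
        (key b e3 hdb.2.2) (key a e4 hda.2.2)⟩
      rw [show d * n * p * (d * n)⁻¹ = d * (n * p * n⁻¹) * d⁻¹ by group, e2, inv_eq hE hd.1,
        show d * (d * p * d) * d = (d * d) * p * (d * d) by simp only [mul_assoc], sq_eq_one hE hd.1, one_mul, mul_one]
  have decomp : ∀ n ∈ N, ∃ f ∈ F, ∃ s ∈ S, n = f * s := by
    intro n hn
    obtain ⟨s₁, hs₁, e1⟩ := step1 n hn
    have hn1 : s₁ * n ∈ N := mul_mem (hSN hs₁) hn
    obtain ⟨s₂, hs₂, f1, f2, f3⟩ := step2 _ hn1 e1
    obtain ⟨s₃, hs₃, hf⟩ := step3 _ (mul_mem (hSN hs₂) hn1) f1 f2 f3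
    set f := s₃ * (s₂ * (s₁ * n))
    set s := (s₃ * s₂ * s₁)⁻¹
    have hsS : s ∈ S := inv_mem (mul_mem (mul_mem hs₃ hs₂) hs₁)
    have hcomm : f * s = s * f := by
      have : S ≤ centralizer {f} := (closure_le _).2 fun z hz =>
        mem_centralizer_singleton_iff.2 (mem_centralizer_iff.1 hf.2 z hz)
      exact (mem_centralizer_singleton_iff.1 (this hsS)).symm
    refine ⟨f, hf, s, hsS, ?_⟩
    rw [hcomm]
    simp only [f, s]; group
  have hFS : F ⊓ S = ⊥ := by
    rw [eq_bot_iff]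
    rintro z ⟨hzF, hzS⟩
    rw [← hrange] at hzS
    obtain ⟨s, rfl⟩ := hzS
    rw [mem_bot, perm_five_kernel s fun i => hinj ?_, map_one]
    rw [map_mul, map_mul]
    exact (mem_centralizer_iff.1 hzF.2 _ (hsw _ _ (Fin.castSucc_lt_succ (i := i)).ne)).symm
  have hcomm : ∀ f ∈ F, ∀ z ∈ S, f * z = z * f := by
    intro f hf z hz
    have : S ≤ centralizer {f} := (closure_le _).2 fun w hw =>
      mem_centralizer_singleton_iff.2 (mem_centralizer_iff.1 hf.2 w hw)
    exact (mem_centralizer_singleton_iff.1 (this hz)).symm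
  have hsup : F ⊔ S = N := by
    refine le_antisymm (sup_le inf_le_left hSN) fun n hn => ?_
    obtain ⟨f, hf, s, hs, rfl⟩ := decomp n hn
    exact mul_mem (mem_sup_left hf) (mem_sup_right hs)
  have hS120 : Nat.card S = 120 := by
    rw [← hrange, ← Nat.card_congr (MonoidHom.ofInjective hinj).toEquiv, Nat.card_perm, Nat.card_eq_fintype_card,
      Fintype.card_fin]
    rfl
  have hN2400 : Nat.card N = 2400 := by
    letI : MulAction N P :=
      { smul := fun n z => ⟨(n : G) * z * (n : G)⁻¹, hinv n.2 z.2⟩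
        one_smul := fun z => Subtype.ext (show ((1 : N) : G) * z * ((1 : N) : G)⁻¹ = z by simp)
        mul_smul := fun m n z => Subtype.ext (show ((m * n : N) : G) * z * ((m * n : N) : G)⁻¹ =
            (m : G) * ((n : G) * z * (n : G)⁻¹) * (m : G)⁻¹ by push_cast; group) }
    have hsmul : ∀ (n : N) (z : P), ((n • z : P) : G) = (n : G) * z * (n : G)⁻¹ := fun _ _ => rfl
    have htrans : MulAction.orbit N (⟨d, hd⟩ : P) = Set.univ := by
      refine Set.eq_univ_of_forall fun z => ?_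
      obtain ⟨u, v, huv, e⟩ := hsurj _ z.2
      obtain ⟨σ, hσ⟩ := swap_conj u v huv
      refine ⟨⟨φ σ, hSN (hmoveS σ)⟩, Subtype.ext ?_⟩
      rw [hsmul, ← e, ← show σ * Equiv.swap 0 1 * σ⁻¹ = Equiv.swap u v from Equiv.ext hσ]
      simp [d]
    have hstab : Nat.card (MulAction.stabilizer N (⟨d, hd⟩ : P)) = 240 := by
      rw [← h.card_normalizer_inf_five hd.1 hy hd.2, ← Nat.card_congr (subgroupOfEquivOfLe
        (inf_le_left : N ⊓ centralizer {d} ≤ N)).toEquiv]
      refine Nat.card_congr (MulEquiv.subgroupCongr ?_).toEquiv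
      ext n
      rw [MulAction.mem_stabilizer_iff, Subtype.ext_iff, hsmul, mem_subgroupOf, Subgroup.mem_inf,
        mem_centralizer_singleton_iff, mul_inv_eq_iff_eq_mul]
      exact ⟨fun e => ⟨n.2, e⟩, fun e => e.2⟩
    have hk' := MulAction.index_stabilizer N (⟨d, hd⟩ : P)
    rw [htrans, Set.ncard_univ, Nat.card_coe_set_eq, hk] at hk'
    rw [← Subgroup.card_mul_index (MulAction.stabilizer N (⟨d, hd⟩ : P)), hstab, hk']
  have hFcard : Nat.card F = 20 := by
    let g : F × S → N := fun q => ⟨(q.1 : G) * q.2, mul_mem q.1.2.1 (hSN q.2.2)⟩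
    have hg : Function.Bijective g := by
      refine ⟨fun q r e => ?_, fun n => ?_⟩
      · have e' : (q.1 : G) * q.2 = (r.1 : G) * r.2 := congrArg Subtype.val e
        have h1 : (r.1 : G)⁻¹ * q.1 = (r.2 : G) * (q.2 : G)⁻¹ := by
          rw [inv_mul_eq_iff_eq_mul, ← mul_assoc, ← e', mul_inv_cancel_right]
        have hmem : (r.1 : G)⁻¹ * q.1 ∈ F ⊓ S :=
          Subgroup.mem_inf.2 ⟨mul_mem (inv_mem r.1.2) q.1.2, h1 ▸ mul_mem r.2.2 (inv_mem q.2.2)⟩
        rw [hFS, mem_bot] at hmem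
        have h2 := h1.symm.trans hmem
        exact Prod.ext (Subtype.ext (inv_mul_eq_one.1 hmem).symm) (Subtype.ext (mul_inv_eq_one.1 h2).symm)
      · obtain ⟨f, hf, s, hs, e⟩ := decomp n n.2
        exact ⟨(⟨f, hf⟩, ⟨s, hs⟩), Subtype.ext e.symm⟩
    have := Nat.card_congr (Equiv.ofBijective g hg)
    rw [Nat.card_prod, hS120, hN2400] at this
    omega
  have hFC : F ⊓ centralizer (X : Set G) = X := by
    refine le_antisymm (fun z hz => ?_) (zpowers_le.2 ⟨⟨hCN ?_, ?_⟩, ?_⟩)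
    · obtain ⟨⟨-, hz1⟩, hz2⟩ := hz
      have hzc : ∀ {w}, w ∈ P → Commute z w := fun hw => (mem_centralizer_iff.1 hz1 _ hw).symm
      obtain ⟨i, e | e⟩ := hrig a b z ⟨ha.1, hda.2.1, hda.2.2⟩ ⟨hb.1, hdb.2.1, hdb.2.2⟩ ha.2 hb.2
        (hne _ _ (by decide)) (hzc hd) (mem_cent.1 hz2) (hzc ha) (hzc hb)
      · rw [e]; exact pow_mem (mem_zpowers y) i
      · exfalso
        have hdp : ¬ Commute d p := fun e' => absurd ((hcm _ _).1 e') (by decide)
        apply hdp
        have : d = (y ^ i)⁻¹ * z := by rw [e, inv_mul_cancel_left]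
        rw [this]
        exact (hp.2.pow_left i).inv_left.mul_left (hzc hp)
    · exact mem_cent.2 (Commute.refl y)
    · exact mem_centralizer_iff.2 fun z hz => (hz.2.eq).symm
    · exact mem_cent.2 (Commute.refl y)
  exact ⟨F, hFcard, hFC.symm.le.trans inf_le_left, hFC, hFS, hcomm, hsup,
    ⟨(MulEquiv.subgroupCongr hrange.symm).trans (MonoidHom.ofInjective hinj).symm⟩⟩

theorem exists_good : ∃ (y d : G) (c : Fin 4 → G), orderOf y = 5 ∧ d ∈ D ∧ Commute y d ∧
    ∀ i, c i ∈ D ∧ ∀ z ∈ fixSet D y, Commute (c i) z := by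
  obtain ⟨d, hd⟩ : D.Nonempty := by
    obtain ⟨d, hd, -⟩ := h.prim.2.1
    exact ⟨d, hd⟩
  obtain ⟨c, hc⟩ := h.exists_chain hd
  obtain ⟨hy, hncy⟩ := hc.hom h.cls.1
  set y := chainProd c
  have hyd : Commute y d := closure_perp_commute (mul_mem (mul_mem (mul_mem (subset_closure (hc.mem 0))
    (subset_closure (hc.mem 1))) (subset_closure (hc.mem 2))) (subset_closure (hc.mem 3)))
  refine ⟨y, d, c, hy, hd, hyd, fun i => ⟨(hc.mem i).1, ?_⟩⟩
  obtain ⟨-, φ, hinj, -, hsw, hsurj⟩ := h.five_members hy (d := d) ⟨hd, hyd⟩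
  have step : ∀ z ∈ fixSet D y, Chain D z c → ∀ w ∈ ThreeTrBase.nb (fixSet D y) z, Chain D w c := by
    intro z hz hcz w hw
    rw [h.nb_fixSet] at hw
    have hcw := h.chain_commute hz.1 hcz hw.1 hw.2
    refine ⟨fun j => ⟨(hcz.mem j).1, fun e => hncy j (e ▸ hw.2), (hcw j).symm⟩, hcz.n01, hcz.n12, hcz.n23, hcz.c02,
      hcz.c03, hcz.c13⟩
  have hall : ∀ z ∈ fixSet D y, Chain D z c := by
    intro z hz
    obtain ⟨a, b, hab, ed⟩ := hsurj d ⟨hd, hyd⟩
    obtain ⟨x, x', hxx, ez⟩ := hsurj z hz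
    have hcm : ∀ s u : Equiv.Perm (Fin 5), (∀ i, s (u i) = u (s i)) → Commute (φ s) (φ u) := fun s u e =>
      show φ s * φ u = φ u * φ s by rw [← map_mul, ← map_mul, show s * u = u * s from Equiv.ext e]
    have hne : ∀ s u : Equiv.Perm (Fin 5), ¬ (∀ i, s i = u i) → φ s ≠ φ u :=
      fun s u hne e => hne fun i => by rw [hinj e]
    by_cases hzd : z = d
    · rw [hzd]; exact hc
    by_cases hcomm : Commute d z
    · exact step d ⟨hd, hyd⟩ hc z ⟨hz, hzd, hcomm⟩
    rcases swap_facts a b x x' hab hxx with e | e | ⟨u, v, huv, n1, n2, c1, c2⟩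
    · exact absurd (by rw [← ez, ← ed, Equiv.ext e] : z = d) hzd
    · exact absurd (by rw [← ez, ← ed]; exact hcm _ _ e : Commute d z) hcomm
    · have hw := hsw u v huv
      have h1 : φ (Equiv.swap u v) ∈ ThreeTrBase.nb (fixSet D y) d :=
        ⟨hw, by rw [← ed]; exact (hne _ _ n1).symm, by rw [← ed]; exact hcm _ _ c1⟩
      have h2 : z ∈ ThreeTrBase.nb (fixSet D y) (φ (Equiv.swap u v)) :=
        ⟨hz, by rw [← ez]; exact (hne _ _ n2).symm, by rw [← ez]; exact hcm _ _ c2⟩
      exact step _ hw (step d ⟨hd, hyd⟩ hc _ h1) z h2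
  exact fun z hz => ((hall z hz).mem i).2.2.symm

/-- Two elements of order five with fixed members generate conjugate subgroups. -/
theorem five_conj_fixed {x y d e : G} (hx : orderOf x = 5) (hy : orderOf y = 5) (hd : d ∈ D) (he : e ∈ D)
    (hxd : Commute x d) (hye : Commute y e) :
    ∃ g : G, (zpowers x).map (MulAut.conj g).toMonoidHom = zpowers y := by
  haveI : Fact (Nat.Prime 5) := ⟨by norm_num⟩
  obtain ⟨k, hk⟩ := exists_conj h.cls hd he
  set x' := k * x * k⁻¹
  have hx' : orderOf x' = 5 := by rw [orderOf_conj_eq, hx]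
  have hxe : Commute x' e := hk ▸ (conj_commute_iff k x d).2 hxd
  set K := closure (perp D e)
  have mk : ∀ {g : G}, orderOf g = 5 → ∀ hg : g ∈ K, ∃ P : Sylow 5 K, (P : Subgroup K).map K.subtype = zpowers g := by
    intro g hg hgK
    refine ⟨Sylow.ofCard ((zpowers g).subgroupOf K) ?_, ?_⟩
    · rw [Nat.card_congr (subgroupOfEquivOfLe (zpowers_le.2 hgK)).toEquiv, Nat.card_zpowers, hg,
        h.card_closure_perp he, show (18393661440 : ℕ) = 5 ^ 1 * 3678732288 by norm_num,
        Nat.factorization_mul (by norm_num) (by norm_num), Finsupp.add_apply,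
        Nat.Prime.factorization_pow (by norm_num), Nat.factorization_eq_zero_of_not_dvd (by norm_num)]
      simp
    · show ((zpowers g).subgroupOf K).map K.subtype = zpowers g
      rw [subgroupOf_map_subtype, inf_eq_left.2 (zpowers_le.2 hgK)]
  obtain ⟨P, hP⟩ := mk hx' (h.mem_K he hxe)
  obtain ⟨Q, hQ⟩ := mk hy (h.mem_K he hye)
  obtain ⟨l, hl⟩ := MulAction.exists_smul_eq K P Q
  refine ⟨(l : G) * k, ?_⟩
  have hcomp : (MulAut.conj ((l : G) * k)).toMonoidHom =
      (MulAut.conj (l : G)).toMonoidHom.comp (MulAut.conj k).toMonoidHom :=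
    MonoidHom.ext fun z => by simp [mul_assoc]
  have hx'' : (zpowers x).map (MulAut.conj k).toMonoidHom = zpowers x' := MonoidHom.map_zpowers _ _
  rw [hcomp, ← Subgroup.map_map, hx'', ← hP, ← hQ, ← hl, Subgroup.map_map]
  show _ = ((P : Subgroup K).map (MulAut.conj l).toMonoidHom).map K.subtype
  rw [Subgroup.map_map]
  rfl

/-- A Sylow subgroup of order 25 in which every element fixes a member. -/
theorem exists_sylow_good : ∃ E : Subgroup G, Nat.card E = 25 ∧
    ∀ g ∈ E, g ≠ 1 → orderOf g = 5 ∧ ∃ d ∈ D, Commute g d := by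
  haveI : Fact (Nat.Prime 5) := ⟨by norm_num⟩
  obtain ⟨y, d, c, hy, hd, hyd, hc⟩ := h.exists_good
  obtain ⟨hk, φ, hinj, hrange, hsw, hsurj⟩ := h.five_members hy (d := d) ⟨hd, hyd⟩
  set σ : Equiv.Perm (Fin 5) := Equiv.swap 0 1 * Equiv.swap 1 2 * Equiv.swap 2 3 * Equiv.swap 3 4 with hσ
  set s := φ σ
  have hs5 : orderOf s = 5 := by
    rw [orderOf_injective φ hinj]; exact orderOf_eq_prime five_cycle_facts.1 five_cycle_facts.2.1
  have hsy : Commute s y := by
    have hle : closure (fixSet D y) ≤ centralizer {y} := (closure_le _).2 fun z hz =>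
      mem_centralizer_singleton_iff.2 hz.2.eq.symm
    exact mem_centralizer_singleton_iff.1 (hle (hrange ▸ ⟨σ, rfl⟩))
  have hsc : Commute s (c 0) := by
    have hle : closure (fixSet D y) ≤ centralizer {c 0} := (closure_le _).2 fun z hz =>
      mem_centralizer_singleton_iff.2 ((hc 0).2 z hz).eq.symm
    exact mem_centralizer_singleton_iff.1 (hle (hrange ▸ ⟨σ, rfl⟩))
  have hmeet : ∀ i j : ℕ, s ^ i * y ^ j = 1 → 5 ∣ i := by
    intro i j hij
    by_contra hi
    set k : Fin 5 := ⟨i % 5, Nat.mod_lt _ (by norm_num)⟩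
    obtain ⟨a, b, hab, hk'⟩ := cycle_swap k
    obtain ⟨u, hu⟩ := hk' fun e => hi (Nat.dvd_of_mod_eq_zero (congrArg Fin.val e))
    apply hu
    have hpow : s ^ i = φ (σ ^ (i % 5)) := by
      rw [map_pow, ← pow_mod_orderOf s i, hs5]
    have hcomm : Commute (s ^ i) (φ (Equiv.swap a b)) := by
      rw [eq_inv_of_mul_eq_one_left hij]
      exact ((hsw a b hab).2.pow_left j).inv_left
    rw [hpow] at hcomm
    have := hinj (show φ (σ ^ (i % 5) * Equiv.swap a b) = φ (Equiv.swap a b * σ ^ (i % 5)) by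
      rw [map_mul, map_mul]; exact hcomm.eq)
    exact congrArg (fun f : Equiv.Perm (Fin 5) => f u) this
  have hcomm2 : ∀ (a : zpowers s) (b : zpowers y), Commute (a : G) (b : G) := fun a b => by
    obtain ⟨m, hm⟩ := mem_zpowers_iff.1 a.2
    obtain ⟨n, hn⟩ := mem_zpowers_iff.1 b.2
    rw [← hm, ← hn]; exact hsy.zpow_zpow m n
  set ψ : zpowers s × zpowers y →* G := MonoidHom.noncommCoprod (zpowers s).subtype (zpowers y).subtype hcomm2
  have hψ : Function.Injective ψ := by
    rw [injective_iff_map_eq_one]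
    rintro ⟨⟨a, ha⟩, ⟨b, hb⟩⟩ e
    change a * b = 1 at e
    obtain ⟨i, rfl⟩ := (isOfFinOrder_of_finite s).mem_powers_iff_mem_zpowers.2 ha
    obtain ⟨j, rfl⟩ := (isOfFinOrder_of_finite y).mem_powers_iff_mem_zpowers.2 hb
    have hi := orderOf_dvd_iff_pow_eq_one.1 (hs5 ▸ hmeet i j e)
    simp only at e ⊢
    rw [hi, one_mul] at e
    exact Prod.ext (Subtype.ext hi) (Subtype.ext e)
  set E := ψ.range with hE
  have hE25 : Nat.card E = 25 := by
    rw [hE, ← Nat.card_congr (MonoidHom.ofInjective hψ).toEquiv, Nat.card_prod, Nat.card_zpowers, Nat.card_zpowers,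
      hs5, hy]
  have hord : ∀ g ∈ E, g ≠ 1 → orderOf g = 5 := by
    rintro g ⟨⟨a, b⟩, rfl⟩ hg
    refine orderOf_eq_prime ?_ hg
    rw [← map_pow]
    have : ((a, b) : zpowers s × zpowers y) ^ 5 = 1 := by
      refine Prod.ext ?_ ?_
      · show a ^ 5 = 1; rw [← hs5, ← Nat.card_zpowers]; exact pow_card_eq_one'
      · show b ^ 5 = 1; rw [← hy, ← Nat.card_zpowers]; exact pow_card_eq_one'
    rw [this, map_one]
  refine ⟨E, hE25, fun g hg hg1 => ⟨hord g hg hg1, ?_⟩⟩
  -- counting fixed members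
  letI : MulAction E D :=
    { smul := fun g a => ⟨(g : G) * a * (g : G)⁻¹, conj_mem h.cls _ a.2⟩
      one_smul := fun a => Subtype.ext (show ((1 : E) : G) * a * ((1 : E) : G)⁻¹ = a by simp)
      mul_smul := fun g k a => Subtype.ext (show ((g * k : E) : G) * a * ((g * k : E) : G)⁻¹ =
          (g : G) * ((k : G) * a * (k : G)⁻¹) * (g : G)⁻¹ by push_cast; group) }
  haveI : Fintype E := Fintype.ofFinite E
  haveI : Fintype D := Fintype.ofFinite D
  haveI : ∀ g : E, Fintype (MulAction.fixedBy D g) := fun g => Fintype.ofFinite _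
  haveI : Fintype (Quotient (MulAction.orbitRel E D)) := Fintype.ofFinite _
  have hburn := MulAction.sum_card_fixedBy_eq_card_orbits_mul_card_group E D
  have hfix : ∀ g : E, Fintype.card (MulAction.fixedBy D g) = (fixSet D (g : G)).ncard := by
    intro g
    rw [← Nat.card_eq_fintype_card, ← Nat.card_coe_set_eq]
    refine Nat.card_congr
      { toFun := fun a => ⟨(a.1 : G), a.1.2, ?_⟩
        invFun := fun a => ⟨⟨a.1, a.2.1⟩, ?_⟩
        left_inv := fun a => rfl
        right_inv := fun a => rfl }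
    · exact mul_inv_eq_iff_eq_mul.1 (congrArg Subtype.val a.2)
    · exact Subtype.ext (show (g : G) * a.1 * (g : G)⁻¹ = a.1 by rw [a.2.2.eq, mul_inv_cancel_right])
  set val : E → ℕ := fun g => (fixSet D (g : G)).ncard
  rw [Finset.sum_congr rfl (fun g _ => hfix g), ← Finset.add_sum_erase _ _ (Finset.mem_univ (1 : E))] at hburn
  have h1 : (fixSet D ((1 : E) : G)).ncard = 3510 := by
    obtain ⟨e, he, hde⟩ := exists_not_commute h.cls
      (by obtain ⟨x, hx, y, hy, hne, -⟩ := h.exists_pair.pair; exact ⟨x, hx, y, hy, hne⟩) hd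
    rw [show fixSet D ((1 : E) : G) = D from Set.ext fun a => ⟨fun ha => ha.1, fun ha => ⟨ha, Commute.one_left a⟩⟩,
      h.card_eq hd he hde]
  set T := (Finset.univ : Finset E).erase 1
  set Ft := T.filter fun x : E => (fixSet D (x : G)).Nonempty
  set Nf := T.filter fun x : E => ¬ (fixSet D (x : G)).Nonempty
  have hsumT : ∑ x ∈ T, (fixSet D (x : G)).ncard = 10 * Ft.card := by
    rw [← Finset.sum_filter_add_sum_filter_not T (fun x : E => (fixSet D (x : G)).Nonempty),
      Finset.sum_eq_zero (s := Nf) (fun x hx => by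
        rw [Set.ncard_eq_zero, ← Set.not_nonempty_iff_eq_empty]; exact (Finset.mem_filter.1 hx).2), add_zero,
      Finset.sum_const_nat (m := 10) (fun x hx => ?_), mul_comm]
    obtain ⟨hxT, a, ha⟩ := Finset.mem_filter.1 hx
    exact (h.five_members (hord _ x.2 fun e => (Finset.mem_erase.1 hxT).1 (Subtype.ext e)) ha).1
  rw [h1, hsumT, Fintype.card_eq_nat_card (α := E), hE25] at hburn
  have hTc : T.card = 24 := by
    rw [Finset.card_erase_of_mem (Finset.mem_univ _), Finset.card_univ, Fintype.card_eq_nat_card, hE25]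
  have hpart : Ft.card + Nf.card = 24 := by rw [Finset.card_filter_add_card_filter_not]; exact hTc
  -- the elements without fixed members come in fours
  have hfour : 4 ∣ Nf.card := by
    rw [Finset.card_eq_sum_card_image (fun x : E => zpowers x) Nf]
    refine Finset.dvd_sum fun X hX => ?_
    obtain ⟨x, hx, rfl⟩ := Finset.mem_image.1 hX
    obtain ⟨hxT, hxn⟩ := Finset.mem_filter.1 hx
    have hx1 : x ≠ 1 := (Finset.mem_erase.1 hxT).1
    have hox : orderOf x = 5 := by
      rw [← Subgroup.orderOf_coe]; exact hord _ x.2 fun e => hx1 (Subtype.ext e)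
    have : Nf.filter (fun z => zpowers z = zpowers x) = ((Finset.univ : Finset E).filter (fun z => z ∈ zpowers x)).erase 1 := by
      ext z
      simp only [Finset.mem_filter, Finset.mem_erase, Finset.mem_univ, true_and, Nf, T, ne_eq]
      constructor
      · rintro ⟨⟨⟨hz1, -⟩, -⟩, e⟩
        exact ⟨hz1, e ▸ mem_zpowers z⟩
      · rintro ⟨hz1, hz⟩
        have heq : zpowers z = zpowers x := by
          refine Subgroup.eq_of_le_of_card_ge (zpowers_le.2 hz) ?_
          rw [Nat.card_zpowers, Nat.card_zpowers, hox, ← Subgroup.orderOf_coe,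
            hord _ z.2 fun e => hz1 (Subtype.ext e)]
        refine ⟨⟨⟨hz1, trivial⟩, fun ⟨a, ha⟩ => hxn ⟨a, ha.1, ?_⟩⟩, heq⟩
        obtain ⟨n, hn⟩ := mem_zpowers_iff.1 (show x ∈ zpowers z from heq ▸ mem_zpowers x)
        rw [← hn, Subgroup.coe_zpow]
        exact ha.2.zpow_left n
    rw [this, Finset.card_erase_of_mem (s := Finset.univ.filter fun z => z ∈ zpowers x)
      (Finset.mem_filter.2 ⟨Finset.mem_univ _, one_mem _⟩), ← Fintype.card_subtype,
      Fintype.card_eq_nat_card, show Nat.card {z : E // z ∈ zpowers x} = 5 from (Nat.card_zpowers x).trans hox]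
  -- the known ones
  have hknown : 8 ≤ Ft.card := by
    have hmem : ∀ {z : G}, z ∈ E → (∃ a ∈ D, Commute z a) → z ≠ 1 → ∃ x ∈ Ft, (x : G) = z := by
      intro z hz ⟨a, ha, hza⟩ hz1
      exact ⟨⟨z, hz⟩, Finset.mem_filter.2 ⟨Finset.mem_erase.2 ⟨fun e => hz1 (congrArg Subtype.val e), Finset.mem_univ _⟩,
        a, ha, hza⟩, rfl⟩
    set R : Finset G := ((Finset.range 4).image fun i => s ^ (i + 1)) ∪ ((Finset.range 4).image fun i => y ^ (i + 1))
    have hinjpow : ∀ {g : G}, orderOf g = 5 → ((Finset.range 4).image fun i => g ^ (i + 1)).card = 4 := by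
      intro g hg
      rw [Finset.card_image_of_injOn, Finset.card_range]
      intro i hi j hj e
      have := pow_injOn_Iio_orderOf (x := g) (by simp only [Set.mem_Iio, hg, Finset.coe_range] at hi ⊢; omega)
        (by simp only [Set.mem_Iio, hg, Finset.coe_range] at hj ⊢; omega) e
      omega
    have hR : R.card = 8 := by
      rw [Finset.card_union_of_disjoint, hinjpow hs5, hinjpow hy]
      rw [Finset.disjoint_left]
      simp only [Finset.mem_image, Finset.mem_range]
      rintro z ⟨i, hi, rfl⟩ ⟨j, hj, e⟩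
      have := hmeet (i + 1) (5 - (j + 1)) (by
        rw [← e, ← pow_add, show j + 1 + (5 - (j + 1)) = 5 by omega, ← hy, pow_orderOf_eq_one])
      omega
    calc 8 = R.card := hR.symm
      _ ≤ (Ft.image fun x : E => (x : G)).card := by
        refine Finset.card_le_card fun z hz => ?_
        simp only [R, Finset.mem_union, Finset.mem_image, Finset.mem_range] at hz ⊢
        rcases hz with ⟨i, hi, rfl⟩ | ⟨i, hi, rfl⟩
        · obtain ⟨x, hx, e⟩ := hmem (pow_mem (show s ∈ E from ⟨(⟨s, mem_zpowers s⟩, 1), mul_one s⟩) (i + 1))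
            ⟨c 0, (hc 0).1, hsc.pow_left _⟩ (by
              intro e; have := orderOf_dvd_of_pow_eq_one e; rw [hs5] at this; have := Nat.le_of_dvd (by omega) this
              omega)
          exact ⟨x, hx, e⟩
        · obtain ⟨x, hx, e⟩ := hmem (pow_mem (show y ∈ E from ⟨(1, ⟨y, mem_zpowers y⟩), one_mul y⟩) (i + 1))
            ⟨d, hd, hyd.pow_left _⟩ (by
              intro e; have := orderOf_dvd_of_pow_eq_one e; rw [hy] at this; have := Nat.le_of_dvd (by omega) this
              omega)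
          exact ⟨x, hx, e⟩
      _ ≤ Ft.card := Finset.card_image_le
  have hN0 : Nf.card = 0 := by omega
  by_contra hcon
  have : (⟨g, hg⟩ : E) ∈ Nf := Finset.mem_filter.2 ⟨Finset.mem_erase.2
    ⟨fun e => hg1 (congrArg Subtype.val e), Finset.mem_univ _⟩, fun ⟨a, ha⟩ => hcon ⟨a, ha.1, ha.2⟩⟩
  rw [Finset.card_eq_zero.1 hN0] at this
  exact Finset.notMem_empty _ this

theorem five_fixed {X : Subgroup G} (hX : Nat.card X = 5) :
    ∃ x d : G, zpowers x = X ∧ orderOf x = 5 ∧ d ∈ D ∧ Commute x d := by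
  haveI : Fact (Nat.Prime 5) := ⟨by norm_num⟩
  obtain ⟨E, hE, hgood⟩ := h.exists_sylow_good
  obtain ⟨a, ha⟩ : D.Nonempty := by
    obtain ⟨d, hd, -⟩ := h.prim.2.1
    exact ⟨d, hd⟩
  set P : Sylow 5 G := Sylow.ofCard E (by
    rw [hE, h.card_group ha, show 3510 * 18393661440 = 5 ^ 2 * 2582470066176 by norm_num,
      Nat.factorization_mul (by norm_num) (by norm_num), Finsupp.add_apply,
      Nat.Prime.factorization_pow (by norm_num), Nat.factorization_eq_zero_of_not_dvd (by norm_num)]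
    simp)
  obtain ⟨Q, hQ⟩ := (IsPGroup.of_card (p := 5) (n := 1) (G := X) (by rw [hX, pow_one])).exists_le_sylow
  obtain ⟨g, hg⟩ := MulAction.exists_smul_eq G P Q
  haveI : Nontrivial X := by rw [← Finite.one_lt_card_iff_nontrivial, hX]; norm_num
  obtain ⟨x₀, hx₀⟩ := exists_ne (1 : X)
  have hx1 : (x₀ : G) ≠ 1 := fun e => hx₀ (Subtype.ext e)
  have hxQ := hQ x₀.2
  rw [← hg] at hxQ
  obtain ⟨w, hw, e⟩ := (Subgroup.mem_smul_pointwise_iff_exists _ _ _).1 hxQ
  have hwe : g * w * g⁻¹ = (x₀ : G) := e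
  obtain ⟨hw5, d, hd, hwd⟩ := hgood w hw fun e' => hx1 (by rw [← hwe, e']; simp)
  have hx5 : orderOf (x₀ : G) = 5 := by rw [← hwe, orderOf_conj_eq, hw5]
  refine ⟨x₀, g * d * g⁻¹, ?_, hx5, conj_mem h.cls g hd, hwe ▸ (conj_commute_iff g w d).2 hwd⟩
  exact Subgroup.eq_of_le_of_card_ge (zpowers_le.2 x₀.2) (by rw [hX, Nat.card_zpowers, hx5])

end M22

end Cfsg.Lib.ThreeTr
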