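import Cfsg.Agent.ThreeTransposition.M22Count.TorusSeven
import Cfsg.Agent.ThreeTransposition.M22Count.MuValue
import Cfsg.Agent.ThreeTransposition.M22Count.Centraliser

/-!
The subgroups of order seven in a group of type M(22): their normalisers are the products of a group of order 42
with the symmetric group on the three members they commute with.
-/

set_option autoImplicit false
set_option linter.unusedSectionVars false
set_option linter.style.haveILetI false

namespace Cfsg.Lib.ThreeTr

open Cfsg Subgroup Cfsg.Lib.Classical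

attribute [local instance] _root_.Classical.propDecidable

universe u

variable {G : Type u} [Group G] {D : Set G}

namespace M22

variable [Finite G] (h : M22 D)
include h

/-- No element of order seven commutes with two commuting members. -/
theorem not_fix_seven {d e x : G} (hd : d ∈ D) (he : e ∈ perp D d) (hx : orderOf x = 7) (hxd : Commute x d)
    (hxe : Commute x e) : False := by
  set K := closure (perp D d) with hK
  letI : MulAction K G := MulAction.compHom G ((MulAut.conj : G →* MulAut G).comp K.subtype)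
  have hsmul : ∀ (k : K) (y : G), k • y = (k : G) * y * (k : G)⁻¹ := fun _ _ => rfl
  have horb : MulAction.orbit K e = perp D d := by
    ext y
    constructor
    · rintro ⟨k, rfl⟩
      show k • e ∈ _
      rw [hsmul]
      exact conj_mem_perp h.conj_D k.2 he
    · intro hy
      obtain ⟨g, hg, hge⟩ := h.exists_pair.perp_transitive hd he hy
      exact ⟨⟨g, hg⟩, hge⟩
  have h1 := MulAction.index_stabilizer K e
  rw [horb, h.ncard_perp hd] at h1
  have h2 := Subgroup.card_mul_index (MulAction.stabilizer K e)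
  rw [h1, h.card_closure_perp hd] at h2
  have hxK : x ∈ K := by
    rw [hK, ← h.centralizer_eq hd]
    exact mem_centralizer_singleton_iff.2 hxd.eq
  have hmem : (⟨x, hxK⟩ : K) ∈ MulAction.stabilizer K e := by
    rw [MulAction.mem_stabilizer_iff, hsmul]
    show x * e * x⁻¹ = e
    rw [hxe.eq, mul_inv_cancel_right]
  have h3 : orderOf x ∣ Nat.card (MulAction.stabilizer K e) := by
    rw [show x = K.subtype ⟨x, hxK⟩ from rfl, orderOf_injective _ K.subtype_injective,
      ← Subgroup.orderOf_mk _ hmem]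
    exact orderOf_dvd_natCard _
  obtain ⟨m, hm⟩ := h3
  rw [hm, hx] at h2
  omega

/-- The elements centralising a member and an element of order seven commuting with it. -/
theorem seven_centraliser {d x : G} (hd : d ∈ D) (hx : orderOf x = 7) (hxd : Commute x d) {y : G}
    (hyd : Commute y d) (hyx : Commute y x) : ∃ i : ℕ, y = x ^ i ∨ y = x ^ i * d := by
  set K := closure (perp D d) with hK
  have hmemK : ∀ {g : G}, Commute g d → g ∈ K := fun hg => by
    rw [hK, ← h.centralizer_eq hd]; exact mem_centralizer_singleton_iff.2 hg.eq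
  set X : K := ⟨x, hmemK hxd⟩ with hX
  set Y : K := ⟨y, hmemK hyd⟩ with hY
  obtain ⟨F, _, _, H, π, vec, hM⟩ := h.exists_model hd
  have hS := hM.six
  haveI := hS.fd
  have hx7 : x ^ 7 = 1 := hx ▸ pow_orderOf_eq_one x
  have hX7 : (QuotientGroup.mk X : K ⧸ center K) ^ 7 = 1 := by
    rw [← QuotientGroup.mk_pow, show X ^ 7 = 1 from Subtype.ext hx7, QuotientGroup.mk_one]
  obtain ⟨t₀, ht₀⟩ := hM.surj (QuotientGroup.mk X)
  have hcube : ∀ {z : H.SIsom}, z ∈ center H.SIsom → z ^ 3 = 1 := by
    intro z hz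
    obtain ⟨c, hc, hzc⟩ := hS.center_scalar hz
    refine H.sisom_ext fun v => ?_
    show (z ^ 3).1.1 v = v
    rw [pow_three, HermSpace.smul_mul_apply, HermSpace.smul_mul_apply, hzc, hzc, hzc, smul_smul, smul_smul,
      ← pow_three', (Seven.cube_cases hM.four c).resolve_left hc, one_smul]
  set t := t₀ ^ 15 with ht
  have hπt : π t = QuotientGroup.mk X := by
    rw [ht, map_pow, ht₀, show (15 : ℕ) = 7 * 2 + 1 by norm_num, pow_add, pow_mul, hX7, one_pow, one_mul, pow_one]
  have ht7 : t ^ 7 = 1 := by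
    have hc : t₀ ^ 7 ∈ center H.SIsom := by
      rw [← hM.ker, MonoidHom.mem_ker, map_pow, ht₀, hX7]
    rw [ht, ← pow_mul, show 15 * 7 = 7 * 3 * 5 by norm_num, pow_mul, pow_mul, hcube hc, one_pow]
  have hfree : Seven.IsFree t := by
    refine ⟨ht7, fun v hv0 hvv hfix => ?_⟩
    obtain ⟨e, he, a, ha, hva⟩ := hM.cover v hv0 hvv
    have hconj : t * hS.tv hvv * t⁻¹ = hS.tv hvv := by
      refine (H.sT_conj t hvv hS.skew).trans (H.sisom_ext fun w => ?_)
      show (H.sT (v := t.1.1 v) _ hS.skew).1.1 w = (H.sT hvv hS.skew).1.1 w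
      rw [H.sT_apply, H.sT_apply, hfix]
    have hE : π (hS.tv hvv) = QuotientGroup.mk (⟨e, subset_closure he⟩ : K) := by
      rw [hM.img ⟨e, subset_closure he⟩ he (hM.vec_iso e he)]
      exact (hS.tv_image_eq_iff π hM.ker hvv (hM.vec_iso e he) hv0).2 ⟨a, ha, hva⟩
    have key := congrArg π hconj
    rw [map_mul, map_mul, map_inv, hπt, hE, ← QuotientGroup.mk_inv, ← QuotientGroup.mk_mul, ← QuotientGroup.mk_mul]
      at key
    have hmem : x * e * x⁻¹ ∈ perp D d := conj_mem_perp h.conj_D (hmemK hxd) he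
    have := congrArg Subtype.val (mk_injOn (x := X * ⟨e, subset_closure he⟩ * X⁻¹)
      (y := (⟨e, subset_closure he⟩ : K)) h.cls.1 h.conj_D hmem he (h.not_center hd hmem) key)
    exact h.not_fix_seven hd he hx hxd (mul_inv_eq_iff_eq_mul.1 this)
  obtain ⟨s, hs⟩ := hM.surj (QuotientGroup.mk Y)
  have hst : Commute s t := by
    have hc : s * t * s⁻¹ * t⁻¹ ∈ center H.SIsom := by
      rw [← hM.ker, MonoidHom.mem_ker, map_mul, map_mul, map_mul, map_inv, map_inv, hπt, hs]
      have : (QuotientGroup.mk Y : K ⧸ center K) * QuotientGroup.mk X = QuotientGroup.mk X * QuotientGroup.mk Y := by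
        rw [← QuotientGroup.mk_mul, ← QuotientGroup.mk_mul, show Y * X = X * Y from Subtype.ext hyx.eq]
      rw [this, mul_inv_cancel_right, mul_inv_cancel]
    set c := s * t * s⁻¹ * t⁻¹ with hcdef
    have hct : s * t * s⁻¹ = c * t := by rw [hcdef, inv_mul_cancel_right]
    have h7 : c ^ 7 = 1 := by
      have := congrArg (fun g => g ^ 7) hct
      simp only [conj_pow, ht7, mul_one, mul_inv_cancel] at this
      rwa [(Subgroup.mem_center_iff.1 hc t).symm |> (fun e => (show Commute c t from e).mul_pow 7), ht7, mul_one,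
        eq_comm] at this
    have h1 : c = 1 := by
      rw [show (7 : ℕ) = 3 * 2 + 1 by norm_num, pow_add, pow_mul, hcube hc, one_pow, one_mul, pow_one] at h7
      exact h7
    rw [h1, one_mul, mul_inv_eq_iff_eq_mul] at hct
    exact hct
  obtain ⟨z, hz, i, rfl⟩ := Seven.centraliser hS hM.four hfree hst
  have hπz : π z = 1 := by rwa [← MonoidHom.mem_ker, hM.ker]
  rw [map_mul, map_pow, hπt, hπz, one_mul, ← QuotientGroup.mk_pow, QuotientGroup.eq] at hs
  rw [h.center_closure_perp hd, mem_subgroupOf, Subgroup.coe_mul, Subgroup.coe_inv, Subgroup.coe_pow] at hs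
  change (x ^ i)⁻¹ * y ∈ zpowers d at hs
  obtain ⟨n, hn⟩ := mem_zpowers_iff.1 hs
  have hd2 : d * d = 1 := sq_eq_one h.cls.1 hd
  rcases Int.even_or_odd n with ⟨m, rfl⟩ | ⟨m, rfl⟩
  · refine ⟨i, Or.inl ?_⟩
    rw [← two_mul, zpow_mul, zpow_two, hd2, one_zpow] at hn
    exact (inv_mul_eq_one.1 hn.symm).symm
  · refine ⟨i, Or.inr ?_⟩
    rw [zpow_add, zpow_mul, zpow_two, hd2, one_zpow, one_mul, zpow_one] at hn
    rw [hn, mul_inv_cancel_left]

section Seven

variable {x d : G} (hd : d ∈ D) (hx : orderOf x = 7) (hxd : Commute x d)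
include hd hx hxd

omit h hd hxd in
theorem mem_centralizer_X {y : G} : y ∈ centralizer ((zpowers x : Subgroup G) : Set G) ↔ Commute y x := by
  constructor
  · exact fun hy => ((mem_centralizer_iff.1 hy x (mem_zpowers x)).symm : y * x = x * y)
  · intro hy
    refine mem_centralizer_iff.2 fun g hg => ?_
    obtain ⟨n, rfl⟩ := mem_zpowers_iff.1 hg
    exact (hy.zpow_right n).eq.symm

theorem inf_centralizer : centralizer ((zpowers x : Subgroup G) : Set G) ⊓ centralizer {d} = zpowers (x * d) := by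
  refine le_antisymm (fun y hy => ?_) (zpowers_le.2 ⟨(mem_centralizer_X hx).2 ?_, ?_⟩)
  · obtain ⟨i, e | e⟩ := h.seven_centraliser hd hx hxd (mem_centralizer_singleton_iff.1 hy.2)
      ((mem_centralizer_X hx).1 hy.1)
    all_goals
      have hx7 : x ^ 7 = 1 := hx ▸ pow_orderOf_eq_one x
      have hd2 : d * d = 1 := sq_eq_one h.cls.1 hd
      have hx8 : (x * d) ^ 8 = x := by
        rw [hxd.mul_pow, pow_succ x 7, hx7, one_mul, show d ^ 8 = (d * d) ^ 4 by rw [← sq, ← pow_mul], hd2, one_pow,
          mul_one]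
      have hd7 : (x * d) ^ 7 = d := by
        rw [hxd.mul_pow, hx7, one_mul, show d ^ 7 = (d * d) ^ 3 * d by rw [← sq, ← pow_mul, ← pow_succ], hd2, one_pow,
          one_mul]
      have mx : x ∈ zpowers (x * d) := by
        have := pow_mem (mem_zpowers (x * d)) 8; rwa [hx8] at this
      have md : d ∈ zpowers (x * d) := by
        have := pow_mem (mem_zpowers (x * d)) 7; rwa [hd7] at this
      rw [e]
    · exact pow_mem mx i
    · exact mul_mem (pow_mem mx i) md
  · exact (Commute.refl x).mul_left hxd.symm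
  · exact mem_centralizer_singleton_iff.2 (hxd.mul_left (Commute.refl d)).eq

theorem card_inf : Nat.card ↥(centralizer ((zpowers x : Subgroup G) : Set G) ⊓ centralizer {d}) = 14 := by
  rw [h.inf_centralizer hd hx hxd, Nat.card_zpowers, hxd.orderOf_mul_eq_mul_orderOf_of_coprime
    (by rw [hx, h.cls.1.1 d hd]; norm_num), hx, h.cls.1.1 d hd]

theorem card_normalizer_inf : Nat.card ↥(normalizer ((zpowers x : Subgroup G) : Set G) ⊓ centralizer {d}) = 84 := by
  haveI : Fact (Nat.Prime 7) := ⟨by norm_num⟩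
  set X := zpowers x with hXdef
  set A := normalizer (X : Set G) ⊓ centralizer {d} with hA
  have hcX : Nat.card X = 7 := by rw [hXdef, Nat.card_zpowers, hx]
  set φ : A →* MulAut X := X.normalizerMonoidHom.comp (inclusion inf_le_left) with hφ
  have hker : φ.ker = (centralizer (X : Set G) ⊓ centralizer {d}).subgroupOf A := by
    ext a
    rw [hφ, MonoidHom.mem_ker, MonoidHom.comp_apply, ← MonoidHom.mem_ker, normalizerMonoidHom_ker, mem_subgroupOf,
      mem_subgroupOf, Subgroup.mem_inf]
    exact ⟨fun ha => ⟨ha, a.2.2⟩, fun ha => ha.1⟩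
  have hck : Nat.card φ.ker = 14 := by
    rw [hker, Nat.card_congr (subgroupOfEquivOfLe
      (inf_le_inf_right _ (Subgroup.centralizer_le_normalizer _))).toEquiv]
    exact h.card_inf hd hx hxd
  have hrange : Nat.card φ.range ∣ 6 := by
    have := Subgroup.card_subgroup_dvd_card φ.range
    rwa [IsCyclic.card_mulAut, hcX, Nat.totient_prime (by norm_num)] at this
  have hcard : Nat.card A = Nat.card φ.range * 14 := by
    rw [← hck, ← Nat.card_congr (QuotientGroup.quotientKerEquivRange φ).toEquiv]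
    exact card_eq_card_quotient_mul_card_subgroup _
  have hKd : centralizer {d} = closure (perp D d) := h.centralizer_eq hd
  set K := centralizer ({d} : Set G) with hK
  have hXK : X ≤ K := zpowers_le.2 (mem_centralizer_singleton_iff.2 hxd.eq)
  have hKcard : Nat.card K = 18393661440 := by rw [hKd]; exact h.card_closure_perp hd
  set P : Sylow 7 K := Sylow.ofCard (X.subgroupOf K) (by
    rw [Nat.card_congr (subgroupOfEquivOfLe hXK).toEquiv, hcX, hKcard,
      show (18393661440 : ℕ) = 7 ^ 1 * 2627665920 by norm_num,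
      Nat.factorization_mul (by norm_num) (by norm_num), Finsupp.add_apply,
      Nat.Prime.factorization_pow (by norm_num), Nat.factorization_eq_zero_of_not_dvd (by norm_num)]
    simp) with hP
  have h1 := card_sylow_modEq_one 7 K
  rw [P.card_eq_index_normalizer,
    show normalizer (P : Set K) = normalizer ((P : Subgroup K) : Set K) from rfl] at h1
  have hN : Nat.card (normalizer ((P : Subgroup K) : Set K)) = Nat.card A := by
    rw [show (P : Subgroup K) = X.subgroupOf K from rfl, ← subgroupOf_normalizer_eq hXK]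
    exact Nat.card_congr ((MulEquiv.subgroupCongr
      (show (normalizer (X : Set G)).subgroupOf K = A.subgroupOf K by rw [hA, inf_subgroupOf_right])).trans
        (subgroupOfEquivOfLe inf_le_right)).toEquiv
  have h2 := Subgroup.card_mul_index (normalizer ((P : Subgroup K) : Set K))
  rw [hN, hKcard, hcard] at h2
  set i := (normalizer ((P : Subgroup K) : Set K)).index
  set r := Nat.card φ.range
  rw [hcard]
  have hr : r ≤ 6 := Nat.le_of_dvd (by norm_num) hrange
  unfold Nat.ModEq at h1
  interval_cases r <;> omega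

theorem noncomm {e e' : G} (he : e ∈ D) (hex : Commute x e) (he' : e' ∈ D) (hex' : Commute x e') (hne : e' ≠ e) :
    ¬ Commute e e' := fun hc => h.not_fix_seven he ⟨he', hne, hc⟩ hx hex hex'

/-- At most three members commute with an element of order seven. -/
theorem ncard_fix_le : ({e : G | e ∈ D ∧ Commute x e}).ncard ≤ 3 := by
  set S := {e : G | e ∈ D ∧ Commute x e}
  by_contra hc
  push Not at hc
  obtain ⟨e, he, hed⟩ := Set.exists_ne_of_one_lt_ncard (s := S) (by omega) d
  have hde : ¬ Commute d e := h.noncomm hd hx hxd hd hxd he.1 he.2 hed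
  set g := d * e * d with hg
  have hgS : g ∈ S := ⟨by simpa [hg, inv_eq h.cls.1 hd] using conj_mem h.cls d he.1,
    (hxd.mul_right he.2).mul_right hxd⟩
  obtain ⟨f, hf, hfn⟩ : ∃ f ∈ S, f ∉ ({d, e, g} : Set G) := by
    by_contra hcon
    push Not at hcon
    have := Set.ncard_le_ncard (s := S) (t := {d, e, g}) hcon
    have := Set.ncard_insert_le d ({e, g} : Set G)
    have := Set.ncard_insert_le e ({g} : Set G)
    rw [Set.ncard_singleton] at this
    omega
  simp only [Set.mem_insert_iff, Set.mem_singleton_iff, not_or] at hfn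
  have nc : ∀ {y}, y ∈ S → f ≠ y → ¬ Commute f y := fun hy hne =>
    h.noncomm hd hx hxd hf.1 hf.2 hy.1 hy.2 (Ne.symm hne)
  have h18 := h.plane_eq hd he.1 hde (h.mu_eq hd he.1 hde) hf.1 (nc ⟨hd, hxd⟩ hfn.1) (nc he hfn.2.1)
    (nc hgS hfn.2.2)
  set U := (mem' D).filter fun y => Commute y d ∧ Commute y e ∧ Commute y f
  have hinv : ∀ {y : G} {k : ℤ}, y ∈ U → x ^ k * y * (x ^ k)⁻¹ ∈ U := by
    intro y k hy
    simp only [U, Finset.mem_filter, mem_mem'] at hy ⊢
    have key : ∀ {w : G}, Commute x w → Commute y w → Commute (x ^ k * y * (x ^ k)⁻¹) w := fun hxw hyw =>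
      ((hxw.zpow_left k).mul_left hyw).mul_left (hxw.zpow_left k).inv_left
    exact ⟨conj_mem h.cls _ hy.1, key hxd hy.2.1, key he.2 hy.2.2.1, key hf.2 hy.2.2.2⟩
  let σ : Equiv.Perm {y // y ∈ U} :=
    { toFun := fun y => ⟨x ^ (1 : ℤ) * y.1 * (x ^ (1 : ℤ))⁻¹, hinv y.2⟩
      invFun := fun y => ⟨x ^ (-1 : ℤ) * y.1 * (x ^ (-1 : ℤ))⁻¹, hinv y.2⟩
      left_inv := fun y => Subtype.ext (by simp [mul_assoc])
      right_inv := fun y => Subtype.ext (by simp [mul_assoc]) }
  have hpow : ∀ (n : ℕ) (y : {y // y ∈ U}), ((σ ^ n) y).1 = x ^ n * y.1 * (x ^ n)⁻¹ := by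
    intro n
    induction n with
    | zero => intro y; simp
    | succ n ih =>
      intro y
      rw [pow_succ', Equiv.Perm.mul_apply]
      show x ^ (1 : ℤ) * ((σ ^ n) y).1 * (x ^ (1 : ℤ))⁻¹ = _
      rw [ih, zpow_one, pow_succ', mul_inv_rev]
      simp only [mul_assoc]
  haveI : Fact (Nat.Prime 7) := ⟨by norm_num⟩
  obtain ⟨y, hy⟩ := Equiv.Perm.exists_fixed_point_of_prime (p := 7) (n := 1) (α := {y // y ∈ U})
    (by rw [Fintype.card_coe, h18]; norm_num) (σ := σ) (Equiv.ext fun y => Subtype.ext (by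
      rw [hpow, pow_one, ← hx, pow_orderOf_eq_one]; simp))
  have hy' := hpow 1 y
  rw [pow_one, hy, pow_one, eq_mul_inv_iff_mul_eq] at hy'
  have hyx : Commute x y.1 := hy'.symm
  have hyU := y.2
  simp only [U, Finset.mem_filter, mem_mem'] at hyU
  by_cases hyd : y.1 = d
  · exact hde (hyd ▸ hyU.2.2.1)
  · exact h.noncomm hd hx hxd hd hxd hyU.1 hyx hyd hyU.2.1.symm

end Seven

theorem seven_dvd_parts : Nat.card G = 7 ^ 1 * (3510 * 2627665920) := by
  obtain ⟨a, ha⟩ : D.Nonempty := by
    obtain ⟨d, hd, -⟩ := h.prim.2.1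
    exact ⟨d, hd⟩
  rw [h.card_group ha]
  norm_num

/-- A subgroup of order seven as a Sylow subgroup. -/
theorem exists_sylow_seven {X : Subgroup G} (hX : Nat.card X = 7) :
    haveI : Fact (Nat.Prime 7) := ⟨by norm_num⟩
    ∃ P : Sylow 7 G, (P : Subgroup G) = X := by
  haveI : Fact (Nat.Prime 7) := ⟨by norm_num⟩
  refine ⟨Sylow.ofCard X ?_, rfl⟩
  rw [hX, h.seven_dvd_parts, Nat.factorization_mul (by norm_num) (by norm_num), Finsupp.add_apply,
    Nat.Prime.factorization_pow (by norm_num), Nat.factorization_eq_zero_of_not_dvd (by norm_num)]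
  simp

theorem seven_conj {X Y : Subgroup G} (hX : Nat.card X = 7) (hY : Nat.card Y = 7) :
    ∃ g : G, X.map (MulAut.conj g).toMonoidHom = Y := by
  haveI : Fact (Nat.Prime 7) := ⟨by norm_num⟩
  obtain ⟨P, rfl⟩ := h.exists_sylow_seven hX
  obtain ⟨Q, rfl⟩ := h.exists_sylow_seven hY
  obtain ⟨g, hg⟩ := MulAction.exists_smul_eq G P Q
  exact ⟨g, by rw [← hg]; rfl⟩

/-- An element of order seven commutes with a member. -/
theorem exists_fixed_member {X : Subgroup G} (hX : Nat.card X = 7) :
    ∃ x d : G, zpowers x = X ∧ orderOf x = 7 ∧ d ∈ D ∧ Commute x d := by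
  haveI : Fact (Nat.Prime 7) := ⟨by norm_num⟩
  obtain ⟨a, ha⟩ : D.Nonempty := by
    obtain ⟨d, hd, -⟩ := h.prim.2.1
    exact ⟨d, hd⟩
  obtain ⟨y, hy⟩ := exists_prime_orderOf_dvd_card' (G := ↥(closure (perp D a))) 7
    (by rw [h.card_closure_perp ha]; norm_num)
  rw [← Subgroup.orderOf_coe] at hy
  obtain ⟨g, hg⟩ := h.seven_conj (X := zpowers (y : G)) (by rw [Nat.card_zpowers, hy]) hX
  refine ⟨g * y * g⁻¹, g * a * g⁻¹, ?_, by rw [orderOf_conj_eq, hy], conj_mem h.cls g ha,
    (conj_commute_iff g (y : G) a).2 (closure_perp_commute y.2)⟩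
  rw [← hg, MonoidHom.map_zpowers]
  rfl

theorem normaliser_seven {x d : G} (hd : d ∈ D) (hx : orderOf x = 7) (hxd : Commute x d) :
    ∃ F : Subgroup G, Nat.card ↥F = 42 ∧ zpowers x ≤ F ∧
      F ⊓ centralizer ((zpowers x : Subgroup G) : Set G) = zpowers x ∧
      F ⊓ closure (D ∩ (centralizer ((zpowers x : Subgroup G) : Set G) : Set G)) = ⊥ ∧
      (∀ f ∈ F, ∀ y ∈ closure (D ∩ (centralizer ((zpowers x : Subgroup G) : Set G) : Set G)), f * y = y * f) ∧
      F ⊔ closure (D ∩ (centralizer ((zpowers x : Subgroup G) : Set G) : Set G)) =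
        normalizer ((zpowers x : Subgroup G) : Set G) ∧
      Nonempty (↥(closure (D ∩ (centralizer ((zpowers x : Subgroup G) : Set G) : Set G))) ≃*
        Equiv.Perm (Fin 3)) := by
  haveI : Fact (Nat.Prime 7) := ⟨by norm_num⟩
  have hE := h.cls.1
  set X := zpowers x with hXdef
  set C := centralizer (X : Set G) with hC
  set DX : Set G := D ∩ (C : Set G) with hDX
  set N := normalizer (X : Set G) with hN
  have hCN : C ≤ N := Subgroup.centralizer_le_normalizer _
  have memDX : ∀ {e}, e ∈ DX ↔ e ∈ D ∧ Commute x e := fun {e} =>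
    ⟨fun he => ⟨he.1, ((mem_centralizer_X hx).1 he.2).symm⟩, fun he => ⟨he.1, (mem_centralizer_X hx).2 he.2.symm⟩⟩
  have hdDX : d ∈ DX := memDX.2 ⟨hd, hxd⟩
  have hnc : ∀ {e}, e ∈ DX → e ≠ d → ¬ Commute d e := fun he hne =>
    h.noncomm hd hx hxd hd hxd (memDX.1 he).1 (memDX.1 he).2 hne
  -- the action of the normaliser on the fixed members
  have hinv : ∀ (n : N) {e : G}, e ∈ DX → (n : G) * e * (n : G)⁻¹ ∈ DX := by
    intro n e he
    refine ⟨conj_mem h.cls _ he.1, mem_centralizer_iff.2 fun g hg => ?_⟩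
    have hg' : (n : G)⁻¹ * g * n ∈ X := by
      have := (mem_normalizer_iff.1 n.2 ((n : G)⁻¹ * g * n)).2 (by simpa [mul_assoc] using hg)
      exact this
    have := mem_centralizer_iff.1 he.2 _ hg'
    calc g * ((n : G) * e * (n : G)⁻¹) = (n : G) * ((n : G)⁻¹ * g * n * e) * (n : G)⁻¹ := by group
      _ = _ := by rw [this]; group
  letI : MulAction N DX :=
    { smul := fun n e => ⟨(n : G) * e * (n : G)⁻¹, hinv n e.2⟩
      one_smul := fun e => Subtype.ext (show ((1 : N) : G) * e * ((1 : N) : G)⁻¹ = e by simp)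
      mul_smul := fun a b e => Subtype.ext (show ((a * b : N) : G) * e * ((a * b : N) : G)⁻¹ =
          (a : G) * ((b : G) * e * (b : G)⁻¹) * (a : G)⁻¹ by push_cast; group) }
  have hsmul : ∀ (n : N) (e : DX), ((n • e : DX) : G) = (n : G) * e * (n : G)⁻¹ := fun _ _ => rfl
  -- transitivity
  have htrans : MulAction.orbit N (⟨d, hdDX⟩ : DX) = Set.univ := by
    refine Set.eq_univ_of_forall fun e => ?_
    by_cases hed : (e : G) = d
    · exact ⟨1, Subtype.ext (by rw [hsmul]; simp [hed])⟩
    · refine ⟨⟨d * (e : G), mul_mem (hCN hdDX.2) (hCN e.2.2)⟩, Subtype.ext ?_⟩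
      rw [hsmul]
      exact mul_conj_eq hE hd e.2.1 (hnc e.2 hed)
  have hstab : Nat.card (MulAction.stabilizer N (⟨d, hdDX⟩ : DX)) = 84 := by
    rw [← h.card_normalizer_inf hd hx hxd, ← Nat.card_congr (subgroupOfEquivOfLe
      (inf_le_left : N ⊓ centralizer {d} ≤ N)).toEquiv]
    refine Nat.card_congr (MulEquiv.subgroupCongr ?_).toEquiv
    ext n
    rw [MulAction.mem_stabilizer_iff, Subtype.ext_iff, hsmul, mem_subgroupOf, Subgroup.mem_inf,
      mem_centralizer_singleton_iff, mul_inv_eq_iff_eq_mul]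
    exact ⟨fun e => ⟨n.2, e⟩, fun e => e.2⟩
  have hk := MulAction.index_stabilizer N (⟨d, hdDX⟩ : DX)
  rw [htrans, Set.ncard_univ, Nat.card_coe_set_eq] at hk
  have hNcard : Nat.card N = 84 * DX.ncard := by
    rw [← Subgroup.card_mul_index (MulAction.stabilizer N (⟨d, hdDX⟩ : DX)), hstab, hk]
  have hle : DX.ncard ≤ 3 := by
    rw [show DX = {e : G | e ∈ D ∧ Commute x e} from Set.ext fun e => memDX]
    exact h.ncard_fix_le hd hx hxd
  have hk3 : DX.ncard = 3 := by
    obtain ⟨P, hP⟩ := h.exists_sylow_seven (X := X) (by rw [hXdef, Nat.card_zpowers, hx])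
    have h1 := card_sylow_modEq_one 7 G
    rw [P.card_eq_index_normalizer,
      show normalizer (P : Set G) = N by rw [hN, ← hP]; rfl] at h1
    have h2 := Subgroup.card_mul_index N
    rw [hNcard, h.seven_dvd_parts] at h2
    have hpos : 0 < DX.ncard := (Set.ncard_pos).2 ⟨d, hdDX⟩
    unfold Nat.ModEq at h1
    set i := N.index
    set k := DX.ncard
    interval_cases k <;> omega
  obtain ⟨e, heDX, hed⟩ := Set.exists_ne_of_one_lt_ncard (s := DX) (by omega) d
  have he := (memDX.1 heDX).1
  have hde := hnc heDX hed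
  -- the kernel
  set S := closure DX with hS
  have hSC : S ≤ C := (closure_le _).2 fun y hy => hy.2
  have hSN : S ≤ N := hSC.trans hCN
  set φ := MulAction.toPermHom N DX with hφ
  have hcP : Nat.card (Equiv.Perm DX) = 6 := by rw [Nat.card_perm, Nat.card_coe_set_eq, hk3]; rfl
  set F := N ⊓ centralizer DX with hF
  have hker : φ.ker = F.subgroupOf N := by
    ext n
    rw [MonoidHom.mem_ker, mem_subgroupOf, hF, Subgroup.mem_inf, hφ]
    constructor
    · refine fun hn => ⟨n.2, mem_centralizer_iff.2 fun y hy => ?_⟩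
      have := congrArg Subtype.val (congrArg (fun f : Equiv.Perm DX => f ⟨y, hy⟩) hn)
      simp only [MulAction.toPermHom_apply, MulAction.toPerm_apply, Equiv.Perm.coe_one, id_eq, hsmul] at this
      exact (mul_inv_eq_iff_eq_mul.1 this).symm
    · refine fun hn => Equiv.ext fun y => Subtype.ext ?_
      show ((n • y : DX) : G) = y
      rw [hsmul, ← mem_centralizer_iff.1 hn.2 y y.2, mul_inv_cancel_right]
  -- the symmetric group
  have hS6 : Nat.card S ≤ 6 := by
    set W := zpowers (d * e)
    have hd2 := sq_eq_one hE hd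
    have hdW : d ∈ normalizer (W : Set G) := by
      have key : ∀ w ∈ W, d * w * d⁻¹ ∈ W := by
        intro w hw
        obtain ⟨n, rfl⟩ := mem_zpowers_iff.1 hw
        rw [← conj_zpow]
        refine zpow_mem ?_ n
        have : d * (d * e) * d⁻¹ = (d * e)⁻¹ := by
          rw [mul_inv_rev, inv_eq hE hd, inv_eq hE he, ← mul_assoc, hd2, one_mul]
        rw [this]; exact inv_mem (mem_zpowers _)
      refine mem_normalizer_iff.2 fun w => ⟨key w, fun hw => ?_⟩
      have := key _ hw
      rwa [inv_eq hE hd, show d * (d * w * d) * d = (d * d) * w * (d * d) by simp only [mul_assoc], hd2, one_mul,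
        mul_one] at this
    have hmem : ∀ y ∈ DX, y ∈ zpowers d ⊔ W := by
      intro y hy
      have hd' : d ∈ zpowers d ⊔ W := mem_sup_left (mem_zpowers d)
      have he' : e ∈ zpowers d ⊔ W := by
        have := mul_mem hd' (mem_sup_right (mem_zpowers (d * e)) : d * e ∈ zpowers d ⊔ W)
        rwa [← mul_assoc, hd2, one_mul] at this
      have h3 : DX = {d, e, d * e * d} := by
        refine (Set.eq_of_subset_of_ncard_le ?_ ?_).symm
        · rintro y (rfl | rfl | rfl)
          exacts [hdDX, heDX, by simpa [inv_eq hE hd] using hinv ⟨d, hCN hdDX.2⟩ heDX]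
        · rw [hk3]
          have hne : e ≠ d * e * d := fun e' => hde (by
            show d * e = e * d
            conv_rhs => rw [e']
            rw [mul_assoc (d * e), hd2, mul_one])
          have hne' : d ≠ d * e * d := fun e' => hed (by
            calc e = (d * d) * e * (d * d) := by rw [hd2, one_mul, mul_one]
              _ = d * (d * e * d) * d := by simp only [mul_assoc]
              _ = d := by rw [← e', hd2, one_mul])
          rw [Set.ncard_insert_of_notMem (by simp [Ne.symm hed, hne']),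
            Set.ncard_pair hne]
      rw [h3] at hy
      rcases hy with rfl | rfl | rfl
      exacts [hd', he', mul_mem (mul_mem hd' he') hd']
    have hle : S ≤ zpowers d ⊔ W := (closure_le _).2 hmem
    refine (Subgroup.card_le_of_le hle).trans ?_
    show Nat.card ((zpowers d ⊔ W : Subgroup G) : Set G) ≤ 6
    rw [coe_mul_of_left_le_normalizer_right _ _ (zpowers_le.2 hdW)]
    refine Set.natCard_mul_le.trans ?_
    rw [SetLike.coe_sort_coe, SetLike.coe_sort_coe, Nat.card_zpowers, Nat.card_zpowers, hE.1 d hd]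
    have := Nat.le_of_dvd (by norm_num) (orderOf_dvd_of_pow_eq_one (cube_of_not_commute hE hd he hde))
    omega
  set ψ := φ.comp (inclusion hSN) with hψ
  have hdS : d ∈ S := subset_closure hdDX
  have heS : e ∈ S := subset_closure heDX
  have hmove : ∀ (s : S) (y : DX), ((ψ s y : DX) : G) = (s : G) * y * (s : G)⁻¹ := fun _ _ => rfl
  have h2ord : orderOf (ψ ⟨d, hdS⟩) = 2 := by
    haveI : Fact (Nat.Prime 2) := ⟨Nat.prime_two⟩
    refine orderOf_eq_prime ?_ fun h1 => hde ?_
    · rw [← map_pow, show (⟨d, hdS⟩ : S) ^ 2 = 1 from Subtype.ext (by rw [Subgroup.coe_pow, sq]; exact sq_eq_one hE hd),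
        map_one]
    · have := hmove ⟨d, hdS⟩ ⟨e, heDX⟩
      rw [h1] at this
      exact (mul_inv_eq_iff_eq_mul.1 this.symm)
  have h3ord : orderOf (ψ ⟨d * e, mul_mem hdS heS⟩) = 3 := by
    haveI : Fact (Nat.Prime 3) := ⟨Nat.prime_three⟩
    refine orderOf_eq_prime ?_ fun h1 => hed ?_
    · rw [← map_pow, show (⟨d * e, mul_mem hdS heS⟩ : S) ^ 3 = 1 from Subtype.ext
        (by rw [Subgroup.coe_pow]; exact cube_of_not_commute hE hd he hde), map_one]
    · have := hmove ⟨d * e, mul_mem hdS heS⟩ ⟨d, hdDX⟩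
      rw [h1] at this
      exact ((this.trans (mul_conj_eq hE hd he hde))).symm
  have hsurj : Function.Surjective ψ := by
    refine MonoidHom.range_eq_top.1 (Subgroup.eq_top_of_le_card _ ?_)
    rw [hcP]
    refine Nat.le_of_dvd Nat.card_pos (Nat.Coprime.mul_dvd_of_dvd_of_dvd (show Nat.Coprime 2 3 by norm_num) ?_ ?_)
    · rw [← h2ord, ← Subgroup.orderOf_mk _ (MonoidHom.mem_range.2 ⟨_, rfl⟩ : ψ ⟨d, hdS⟩ ∈ ψ.range)]
      exact orderOf_dvd_natCard _
    · rw [← h3ord, ← Subgroup.orderOf_mk _ (MonoidHom.mem_range.2 ⟨_, rfl⟩ : ψ ⟨d * e, mul_mem hdS heS⟩ ∈ ψ.range)]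
      exact orderOf_dvd_natCard _
  have hbij : Function.Bijective ψ := (Nat.bijective_iff_surjective_and_card ψ).2 ⟨hsurj, by
    have := Nat.card_le_card_of_surjective ψ hsurj
    rw [hcP] at this ⊢
    omega⟩
  have hφs : Function.Surjective φ := fun p => by
    obtain ⟨s, hs⟩ := hsurj p
    exact ⟨_, hs⟩
  have hFC : F ⊓ C = X := by
    refine le_antisymm (fun y hy => ?_) (zpowers_le.2 ⟨⟨hCN ?_, ?_⟩, ?_⟩)
    · obtain ⟨⟨-, hy1⟩, hy2⟩ := hy
      obtain ⟨i, e1 | e1⟩ := h.seven_centraliser hd hx hxd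
        ((mem_centralizer_iff.1 hy1 d hdDX).symm : y * d = d * y) ((mem_centralizer_X hx).1 hy2)
      · rw [e1]; exact pow_mem (mem_zpowers x) i
      · exfalso
        have hye : Commute y e := ((mem_centralizer_iff.1 hy1 e heDX).symm : y * e = e * y)
        have hxe : Commute (x ^ i) e := (memDX.1 heDX).2.pow_left i
        apply hde
        have : d = (x ^ i)⁻¹ * y := by rw [e1, inv_mul_cancel_left]
        rw [this]
        exact hxe.inv_left.mul_left hye
    · exact (mem_centralizer_X hx).2 (Commute.refl x)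
    · exact mem_centralizer_iff.2 fun y hy => ((memDX.1 hy).2.eq).symm
    · exact (mem_centralizer_X hx).2 (Commute.refl x)
  refine ⟨F, ?_, hFC.symm.le.trans inf_le_left, hFC, ?_, ?_, ?_, ⟨(MulEquiv.ofBijective ψ hbij).trans
    (Equiv.permCongrHom (Finite.equivFinOfCardEq (by rw [Nat.card_coe_set_eq, hk3])))⟩⟩
  · have h1 := card_eq_card_quotient_mul_card_subgroup φ.ker
    rw [Nat.card_congr (QuotientGroup.quotientKerEquivOfSurjective φ hφs).toEquiv, hker,
      Nat.card_congr (subgroupOfEquivOfLe (inf_le_left : F ≤ N)).toEquiv, hcP, hNcard, hk3] at h1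
    rw [hF]
    omega
  · rw [eq_bot_iff]
    rintro y ⟨hyF, hyS⟩
    rw [mem_bot]
    have : ψ ⟨y, hyS⟩ = 1 := by
      rw [hψ, MonoidHom.comp_apply, ← MonoidHom.mem_ker, hker, mem_subgroupOf]
      exact hyF
    exact congrArg Subtype.val (hbij.1 (this.trans ψ.map_one.symm))
  · intro f hf y hy
    have : S ≤ centralizer {f} := (closure_le _).2 fun z hz =>
      mem_centralizer_singleton_iff.2 (mem_centralizer_iff.1 hf.2 z hz)
    exact (mem_centralizer_singleton_iff.1 (this hy)).symm
  · refine le_antisymm (sup_le inf_le_left hSN) fun n hn => ?_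
    obtain ⟨s, hs⟩ := hsurj (φ ⟨n, hn⟩)
    have hk' : (⟨n, hn⟩ : N) * (inclusion hSN s)⁻¹ ∈ φ.ker := by
      rw [MonoidHom.mem_ker, map_mul, map_inv, ← hs]
      exact mul_inv_cancel _
    rw [hker, mem_subgroupOf] at hk'
    have := mul_mem (mem_sup_left hk' : _ ∈ F ⊔ S) (mem_sup_right s.2 : (s : G) ∈ F ⊔ S)
    simpa using this

end M22

end Cfsg.Lib.ThreeTr
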