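import Cfsg.Agent.ThreeTransposition.M22Count.UnitarySeven
import Cfsg.Agent.ThreeTransposition.M22Count.Centraliser

/-!
Elements of order seven in a group of type M(22): each centralises exactly three members, which generate a
symmetric group of degree three.
-/

set_option autoImplicit false
set_option linter.unusedSectionVars false
set_option linter.style.haveILetI false

namespace Cfsg.Lib.ThreeTr

open Cfsg Subgroup Cfsg.Lib.Classical

attribute [local instance] _root_.Classical.propDecidable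

universe u

variable {G : Type u} [Group G] {D : Set G}

namespace M22

variable [Finite G] (h : M22 D)
include h

/-- No element of order seven centralises two distinct commuting members. -/
theorem not_seven_pair {a e x : G} (ha : a ∈ D) (he : e ∈ perp D a) (hx : orderOf x = 7) (hxa : Commute x a)
    (hxe : Commute x e) : False := by
  set C := centralizer ({a} : Set G)
  letI : MulAction ↥C G := MulAction.compHom G ((MulAut.conj : G →* MulAut G).comp C.subtype)
  have hsmul : ∀ (g : ↥C) (y : G), g • y = g.1 * y * g.1⁻¹ := fun _ _ => rfl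
  have horb : MulAction.orbit ↥C e = perp D a := by
    ext y
    constructor
    · rintro ⟨g, rfl⟩
      show g • e ∈ _
      rw [hsmul]
      have hga : g.1 * a * g.1⁻¹ = a := by rw [mem_centralizer_singleton_iff.1 g.2, mul_inv_cancel_right]
      exact hga ▸ conj_image_perp h.cls g.1 a ▸ ⟨e, he, rfl⟩
    · intro hy
      obtain ⟨g, hg, hge⟩ := h.exists_pair.perp_transitive ha he hy
      exact ⟨⟨g, show g ∈ centralizer ({a} : Set G) by rw [h.centralizer_eq ha]; exact hg⟩, hge⟩
  have hcard : Nat.card ↥(MulAction.orbit ↥C e) * Nat.card ↥(MulAction.stabilizer ↥C e) = Nat.card ↥C := by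
    rw [Nat.card_congr (MulAction.orbitEquivQuotientStabilizer ↥C e),
      ← card_eq_card_quotient_mul_card_subgroup]
  rw [Nat.card_coe_set_eq, horb, h.ncard_perp ha,
    show Nat.card ↥C = 18393661440 by rw [show C = closure (perp D a) from h.centralizer_eq ha, h.card_closure_perp ha]]
    at hcard
  let X : ↥C := ⟨x, mem_centralizer_singleton_iff.2 hxa.eq⟩
  have hX : X ∈ MulAction.stabilizer ↥C e := by
    rw [MulAction.mem_stabilizer_iff, hsmul]
    show x * e * x⁻¹ = e
    rw [hxe.eq, mul_inv_cancel_right]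
  have hd := Subgroup.orderOf_dvd_natCard (MulAction.stabilizer ↥C e) hX
  rw [show orderOf X = 7 by rw [← hx]; exact (orderOf_injective C.subtype C.subtype_injective X).symm] at hd
  omega

/-- The centraliser of an element of order seven in the centraliser of a member. -/
theorem centralizer_seven {a x y : G} (ha : a ∈ D) (hx : orderOf x = 7) (hxa : Commute x a) (hya : Commute y a)
    (hyx : Commute y x) : ∃ i : ℕ, y = x ^ i ∨ y = x ^ i * a := by
  obtain ⟨F, _, _, H, π, vec, hM⟩ := h.exists_model ha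
  have hS := hM.six
  have hK : ∀ {z : G}, Commute z a → z ∈ closure (perp D a) := fun {z} hz => by
    rw [← h.centralizer_eq ha]; exact mem_centralizer_singleton_iff.2 hz.eq
  have hxK := hK hxa
  have hyK := hK hya
  set X : ↥(closure (perp D a)) := ⟨x, hxK⟩
  set Y : ↥(closure (perp D a)) := ⟨y, hyK⟩
  have hx7 : x ^ 7 = 1 := hx ▸ pow_orderOf_eq_one x
  have hZ : ∀ {z : ↥(closure (perp D a))}, z ∈ center ↥(closure (perp D a)) → (z : G) = 1 ∨ (z : G) = a := fun {z} hz =>
    h.eq_one_or_self ha (closure_perp_commute z.2).symm fun e he =>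
      congrArg Subtype.val (mem_center_iff.1 hz ⟨e, subset_closure he⟩)
  obtain ⟨T₀, hT₀⟩ := hM.surj (QuotientGroup.mk X)
  obtain ⟨S, hSy⟩ := hM.surj (QuotientGroup.mk Y)
  haveI := hS.fd
  have hcube : ∀ {R : H.SIsom}, R ∈ center H.SIsom → R ^ 3 = 1 := fun {R} hR => by
    obtain ⟨k, hk0, hk⟩ := hS.center_scalar hR
    refine H.sisom_ext fun v => ?_
    simp only [pow_succ, pow_zero, one_mul, HermSpace.smul_mul_apply, hk, map_smul, smul_smul]
    rw [← mul_assoc, hS.cube_eq_one hM.four hk0, one_smul]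
    rfl
  have hX7 : (QuotientGroup.mk X : ↥(closure (perp D a)) ⧸ center ↥(closure (perp D a))) ^ 7 = 1 := by
    rw [← QuotientGroup.mk_pow, show X ^ 7 = 1 from Subtype.ext (by simpa [X] using hx7), QuotientGroup.mk_one]
  have h21 : T₀ ^ 21 = 1 := by
    rw [show 21 = 7 * 3 by rfl, pow_mul]
    exact hcube (by rw [← hM.ker, MonoidHom.mem_ker, map_pow, hT₀, hX7])
  set T := T₀ ^ 15 with hT
  have hT7 : T ^ 7 = 1 := by rw [hT, ← pow_mul, show 15 * 7 = 21 * 5 by rfl, pow_mul, h21, one_pow]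
  have hπT : π T = QuotientGroup.mk X := by
    rw [hT, map_pow, hT₀, show 15 = 7 * 2 + 1 by rfl, pow_succ, pow_mul, hX7, one_pow, one_mul]
  have hXc : X ∉ center ↥(closure (perp D a)) := fun hc => by
    rcases hZ hc with e | e
    · rw [show x = 1 from e, orderOf_one] at hx; norm_num at hx
    · rw [show x = a from e, h.cls.1.1 a ha] at hx; norm_num at hx
  -- no isotropic vector is fixed
  have hfix : ∀ v, v ≠ 0 → H.h v v = 0 → T.1.1 v ≠ v := by
    intro v hv0 hvv hfx
    obtain ⟨e, he, t, ht, hve⟩ := hM.cover v hv0 hvv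
    have hfe : T.1.1 (vec e) = vec e := by
      rw [hve, map_smul] at hfx
      exact smul_right_injective _ ht hfx
    have hee := hM.vec_iso e he
    have hcm : Commute T (hS.tv hee) := by
      refine H.sisom_ext fun z => ?_
      simp only [HermSpace.smul_mul_apply, hS.tv_apply, map_add, map_smul, hfe]
      conv_rhs => rw [← hfe, H.map_form T.1, hfe]
    have h1 := hcm.map π
    rw [hπT, ← hM.img ⟨e, subset_closure he⟩ he hee] at h1
    have hxe' : x * e * x⁻¹ ∈ perp D a := by
      have hga : x * a * x⁻¹ = a := by rw [hxa.eq, mul_inv_cancel_right]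
      exact hga ▸ conj_image_perp h.cls x a ▸ ⟨e, he, rfl⟩
    have h2 : (QuotientGroup.mk (X * ⟨e, subset_closure he⟩ * X⁻¹) : ↥(closure (perp D a)) ⧸ center ↥(closure (perp D a))) =
        QuotientGroup.mk ⟨e, subset_closure he⟩ := by
      rw [QuotientGroup.mk_mul, QuotientGroup.mk_mul, QuotientGroup.mk_inv, h1.eq, mul_inv_cancel_right]
    have h3 := mk_injOn (x := X * ⟨e, subset_closure he⟩ * X⁻¹) (y := ⟨e, subset_closure he⟩) h.cls.1 h.conj_D
      (by simpa [X] using hxe') he (h.not_center ha (by simpa [X] using hxe')) h2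
    exact h.not_seven_pair ha he hx hxa (mul_inv_eq_iff_eq_mul.1 (show x * e * x⁻¹ = e from congrArg Subtype.val h3))
  have hST : Commute S T := by
    have hYX : (QuotientGroup.mk Y : _ ⧸ center ↥(closure (perp D a))) * QuotientGroup.mk X =
        QuotientGroup.mk X * QuotientGroup.mk Y := by
      rw [← QuotientGroup.mk_mul, ← QuotientGroup.mk_mul, show Y * X = X * Y from Subtype.ext hyx.eq]
    have hπ : π (S * T * S⁻¹ * T⁻¹) = 1 := by
      rw [map_mul, map_mul, map_mul, map_inv, map_inv, hSy, hπT, hYX]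
      group
    have hz : S * T * S⁻¹ * T⁻¹ ∈ center H.SIsom := by rw [← hM.ker]; exact hπ
    set z := S * T * S⁻¹ * T⁻¹ with hzdef
    have hc : Commute z T := (mem_center_iff.1 hz T).symm
    have e1 : z * T = S * T * S⁻¹ := inv_mul_cancel_right (S * T * S⁻¹) T
    have e7 : (z * T) ^ 7 = 1 := by rw [e1, conj_pow, hT7, mul_one, mul_inv_cancel]
    rw [hc.mul_pow, hT7, mul_one] at e7
    have hz1 : z = 1 := by
      have h7 : z ^ 7 = z := by
        rw [pow_succ z 6, show z ^ 6 = (z ^ 3) ^ 2 from pow_mul z 3 2, hcube hz, one_pow, one_mul]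
      exact h7.symm.trans e7
    rw [hz1, one_mul, eq_mul_inv_iff_mul_eq] at e1
    exact e1.symm
  obtain ⟨i, hi⟩ := hS.seven_centralizer hM.four hT7 hfix hST
  rw [← hM.ker, MonoidHom.mem_ker, map_mul, map_inv, map_pow, hSy, hπT, mul_inv_eq_one, ← QuotientGroup.mk_pow] at hi
  rcases hZ (QuotientGroup.eq.1 hi) with e | e
  · refine ⟨i, Or.inl ?_⟩
    exact inv_mul_eq_one.1 e
  · refine ⟨i, Or.inr ?_⟩
    have e' : y⁻¹ * x ^ i = a := e
    rw [inv_mul_eq_iff_eq_mul] at e'
    rw [e', mul_assoc, ← sq, ← h.cls.1.1 a ha, pow_orderOf_eq_one, mul_one]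

/-- An element of order seven centralises exactly three members, on one line. -/
theorem fixed_seven {x : G} (hx : orderOf x = 7) :
    ∃ a ∈ D, ∃ b ∈ D, ¬ Commute a b ∧
      ∀ z, (z ∈ D ∧ Commute x z) ↔ (z = a ∨ z = b ∨ z = a * b * a) := by
  have hE := h.cls.1
  haveI : Fact (Nat.Prime 7) := ⟨by norm_num⟩
  letI : MulAction ↥(zpowers x) G := MulAction.compHom G ((MulAut.conj : G →* MulAut G).comp (zpowers x).subtype)
  have hsmul : ∀ (g : ↥(zpowers x)) (y : G), g • y = g.1 * y * g.1⁻¹ := fun _ _ => rfl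
  have hPg : IsPGroup 7 ↥(zpowers x) := IsPGroup.of_card (n := 1) (by rw [Nat.card_zpowers, hx, pow_one])
  -- invariant sets have as many fixed points modulo seven
  have hmod : ∀ S : Set G, (∀ y ∈ S, x * y * x⁻¹ ∈ S) →
      S.ncard ≡ ({y : G | y ∈ S ∧ Commute x y}).ncard [MOD 7] := by
    intro S hS
    have hinv : ∀ (g : ↥(zpowers x)) (y : G), y ∈ S → g • y ∈ S := by
      intro g y hy
      obtain ⟨g, hg⟩ := g
      rw [← mem_powers_iff_mem_zpowers] at hg
      obtain ⟨n, rfl⟩ := hg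
      rw [hsmul]
      show x ^ n * y * (x ^ n)⁻¹ ∈ S
      clear hg
      induction n with
      | zero => simpa using hy
      | succ n ih =>
        rw [show x ^ (n + 1) * y * (x ^ (n + 1))⁻¹ = x * (x ^ n * y * (x ^ n)⁻¹) * x⁻¹ by rw [pow_succ']; group]
        exact hS _ ih
    letI : MulAction ↥(zpowers x) ↥S :=
      { smul := fun g y => ⟨g • y.1, hinv g y.1 y.2⟩
        one_smul := fun y => Subtype.ext (one_smul _ y.1)
        mul_smul := fun g g' y => Subtype.ext (mul_smul g g' y.1) }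
    have h1 := hPg.card_modEq_card_fixedPoints ↥S
    rw [Nat.card_coe_set_eq] at h1
    suffices hc : Nat.card ↥(MulAction.fixedPoints ↥(zpowers x) ↥S) = ({y : G | y ∈ S ∧ Commute x y}).ncard by
      rwa [hc] at h1
    rw [← Nat.card_coe_set_eq]
    symm
    refine Nat.card_congr ⟨fun y => ⟨⟨y.1, y.2.1⟩, fun g => Subtype.ext ?_⟩, fun y => ⟨y.1.1, y.1.2, ?_⟩,
      fun y => rfl, fun y => rfl⟩
    · obtain ⟨g, hg⟩ := g
      obtain ⟨n, rfl⟩ := mem_zpowers_iff.1 hg
      show (⟨x ^ n, hg⟩ : ↥(zpowers x)) • y.1 = y.1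
      rw [hsmul]
      show x ^ n * y.1 * (x ^ n)⁻¹ = y.1
      rw [(y.2.2.zpow_left n).eq, mul_inv_cancel_right]
    · have hp := congrArg Subtype.val (y.2 ⟨x, mem_zpowers x⟩)
      change x * y.1.1 * x⁻¹ = y.1.1 at hp
      exact mul_inv_eq_iff_eq_mul.1 hp
  have hDx : ∀ y ∈ D, x * y * x⁻¹ ∈ D := fun y hy => conj_mem h.cls x hy
  obtain ⟨a₀, ha₀, c₀, hc₀, hac₀, -⟩ := h.type.2
  have hF := hmod D hDx
  rw [h.card_eq ha₀ hc₀ hac₀] at hF
  set Fx := {y : G | y ∈ D ∧ Commute x y} with hFx
  have hnc : ∀ y ∈ Fx, ∀ z ∈ Fx, y ≠ z → ¬ Commute y z := fun y hy z hz hne hyz =>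
    h.not_seven_pair hy.1 ⟨hz.1, hne.symm, hyz⟩ hx hy.2 hz.2
  obtain ⟨a, haF⟩ : Fx.Nonempty := by
    refine Set.nonempty_of_ncard_ne_zero fun e => ?_
    rw [e] at hF
    exact absurd hF (by decide)
  obtain ⟨b, hbF, hba⟩ : ∃ b ∈ Fx, b ≠ a := by
    by_contra hcon
    push Not at hcon
    rw [show Fx = {a} from Set.Subset.antisymm hcon (Set.singleton_subset_iff.2 haF), Set.ncard_singleton] at hF
    exact absurd hF (by decide)
  have hab := hnc a haF b hbF hba.symm
  have hcF : a * b * a ∈ Fx := by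
    refine ⟨?_, (haF.2.mul_right hbF.2).mul_right haF.2⟩
    have := conj_mem h.cls a hbF.1
    rwa [inv_eq hE haF.1] at this
  refine ⟨a, haF.1, b, hbF.1, hab, fun z => ⟨fun hz => ?_, ?_⟩⟩
  · by_contra hcon
    push Not at hcon
    obtain ⟨hza, hzb, hzc⟩ := hcon
    have h18 := h.plane_eq haF.1 hbF.1 hab (h.mu_eq haF.1 hbF.1 hab) hz.1 (hnc z hz a haF hza) (hnc z hz b hbF hzb)
      (hnc z hz _ hcF hzc)
    have hinvP : ∀ y ∈ {y : G | y ∈ D ∧ Commute y a ∧ Commute y b ∧ Commute y z},
        x * y * x⁻¹ ∈ {y : G | y ∈ D ∧ Commute y a ∧ Commute y b ∧ Commute y z} := by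
      rintro y ⟨hy, h1, h2, h3⟩
      have hfix : ∀ {w : G}, Commute x w → Commute y w → Commute (x * y * x⁻¹) w := fun {w} hw hyw =>
        (hw.mul_left hyw).mul_left hw.inv_left
      exact ⟨hDx y hy, hfix haF.2 h1, hfix hbF.2 h2, hfix hz.2 h3⟩
    have h4 := hmod _ hinvP
    rw [show ({y : G | y ∈ D ∧ Commute y a ∧ Commute y b ∧ Commute y z}).ncard = 18 by
      rw [← h18, ← Set.ncard_coe_finset]; congr 1; ext y; simp [mem_mem']] at h4
    obtain ⟨w, ⟨hwD, hwa, hwb, -⟩, hxw⟩ := Set.nonempty_of_ncard_ne_zero fun e => by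
      rw [e] at h4; exact absurd h4 (by decide)
    exact hnc w ⟨hwD, hxw⟩ a haF (fun e => hab (e ▸ hwb)) hwa
  · rintro (rfl | rfl | rfl)
    exacts [haF, hbF, hcF]

end M22

end Cfsg.Lib.ThreeTr
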