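import Cfsg.Agent.ThreeTransposition.Basic
import Cfsg.Agent.ThreeTransposition.Base.Basic
import Cfsg.Agent.S2530

/-!
A set of at most ten 3-transpositions in which every member commutes with three further ones, these three pairwise not
commuting, is the set of transpositions of five points unless it has six members. The bound holds in particular when
three pairwise noncommuting members are collinear.
-/

set_option autoImplicit false
set_option linter.unusedSectionVars false

namespace Cfsg.Lib.ThreeTr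

open Cfsg Cfsg.Lib.ThreeTrBase

variable {G : Type*} [Group G] {E : Set G}

/-- The hypotheses. -/
structure Flat (E : Set G) : Prop where
  tr : IsThreeTranspositionSet E
  closed : ∀ x ∈ E, ∀ y ∈ E, x * y * x ∈ E
  three : ∀ d ∈ E, (nb E d).ncard = 3
  tri : ∀ d ∈ E, ∀ y ∈ nb E d, ∀ z ∈ nb E d, y ≠ z → ¬ Commute y z
  le : E.ncard ≤ 10

theorem nb_third (hE : IsThreeTranspositionSet E) (hcl : ∀ x ∈ E, ∀ y ∈ E, x * y * x ∈ E) {d y z : G}
    (hy : y ∈ nb E d) (hz : z ∈ nb E d) : y * z * y ∈ nb E d := by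
  refine ⟨hcl y hy.1 z hz.1, fun e => hz.2.1 ?_, (hy.2.2.mul_right hz.2.2).mul_right hy.2.2⟩
  have hy2 := sq_eq_one hE hy.1
  calc z = (y * y) * z * (y * y) := by rw [hy2, one_mul, mul_one]
    _ = y * (y * z * y) * y := by simp only [mul_assoc]
    _ = d := by rw [e, hy.2.2.symm.eq, mul_assoc, hy2, mul_one]

/-- The bound when three pairwise noncommuting members are collinear. -/
theorem le_ten_of_flat [Finite G] (hE : IsThreeTranspositionSet E) (hcl : ∀ x ∈ E, ∀ y ∈ E, x * y * x ∈ E)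
    (hthree : ∀ d ∈ E, (nb E d).ncard = 3)
    (htri : ∀ d ∈ E, ∀ y ∈ nb E d, ∀ z ∈ nb E d, y ≠ z → ¬ Commute y z)
    (hflat : ∀ x ∈ E, ∀ y ∈ E, ∀ z ∈ E, ¬ Commute x y → ¬ Commute x z → ¬ Commute y z → ¬ z = x * y * x →
      Commute (x * y * x) z) : E.ncard ≤ 10 := by
  classical
  rcases E.eq_empty_or_nonempty with hemp | ⟨d, hd⟩
  · simp [hemp]
  obtain ⟨a, b, a₂, h01, h02, h12, hnb⟩ := Set.ncard_eq_three.1 (hthree d hd)
  have ha : a ∈ nb E d := by rw [hnb]; simp
  have hb : b ∈ nb E d := by rw [hnb]; simp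
  set c := a * b * a with hc
  have hab := htri d hd a ha b hb h01
  have hcnb : c ∈ nb E d := nb_third hE hcl ha hb
  have hsub : E ⊆ ({a, b, c, d} : Set G) ∪ (nb E a \ {d}) ∪ (nb E b \ {d}) ∪ (nb E c \ {d}) := by
    intro z hz
    simp only [Set.mem_union, Set.mem_insert_iff, Set.mem_singleton_iff, Set.mem_sdiff]
    by_cases hzd : z = d
    · exact Or.inl (Or.inl (Or.inl (Or.inr (Or.inr (Or.inr hzd)))))
    by_cases hza : z = a
    · exact Or.inl (Or.inl (Or.inl (Or.inl hza)))
    by_cases hzb : z = b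
    · exact Or.inl (Or.inl (Or.inl (Or.inr (Or.inl hzb))))
    by_cases h1 : Commute a z
    · exact Or.inl (Or.inl (Or.inr ⟨⟨hz, hza, h1⟩, hzd⟩))
    by_cases h2 : Commute b z
    · exact Or.inl (Or.inr ⟨⟨hz, hzb, h2⟩, hzd⟩)
    by_cases hzc : z = c
    · exact Or.inl (Or.inl (Or.inl (Or.inr (Or.inr (Or.inl hzc)))))
    exact Or.inr ⟨⟨hz, hzc, hflat a ha.1 b hb.1 z hz hab h1 h2 hzc⟩, hzd⟩
  have k : ∀ {u : G}, u ∈ nb E d → (nb E u \ {d}).ncard = 2 := fun {u} hu => by
    rw [Set.ncard_sdiff_singleton_of_mem (nb_symm hd hu), hthree u hu.1]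
  have := Set.ncard_le_ncard hsub
  have := Set.ncard_union_le (({a, b, c, d} : Set G) ∪ (nb E a \ {d}) ∪ (nb E b \ {d})) (nb E c \ {d})
  have := Set.ncard_union_le (({a, b, c, d} : Set G) ∪ (nb E a \ {d})) (nb E b \ {d})
  have := Set.ncard_union_le ({a, b, c, d} : Set G) (nb E a \ {d})
  have := Set.ncard_insert_le a ({b, c, d} : Set G)
  have := Set.ncard_insert_le b ({c, d} : Set G)
  have := Set.ncard_insert_le c ({d} : Set G)
  have := Set.ncard_singleton d
  have := k ha
  have := k hb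
  have := k hcnb
  omega

/-- Conjugation by the generated group keeps the set. -/
theorem conj_mem_closure_set (hE : IsThreeTranspositionSet E) (hcl : ∀ x ∈ E, ∀ y ∈ E, x * y * x ∈ E) {g : G}
    (hg : g ∈ Subgroup.closure E) : ∀ y ∈ E, g * y * g⁻¹ ∈ E := by
  induction hg using Subgroup.closure_induction'' with
  | mem x hx => intro y hy; rw [inv_eq hE hx]; exact hcl x hx y hy
  | inv_mem x hx => intro y hy; rw [inv_inv, inv_eq hE hx]; exact hcl x hx y hy
  | one => intro y hy; simpa using hy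
  | mul g k _ _ hg hk =>
    intro y hy
    rw [show g * k * y * (g * k)⁻¹ = g * (k * y * k⁻¹) * g⁻¹ by group]
    exact hg _ (hk y hy)

theorem swap_conj : ∀ a b : Fin 5, a ≠ b → ∃ σ : Equiv.Perm (Fin 5),
    ∀ x, σ (Equiv.swap 0 1 (σ⁻¹ x)) = Equiv.swap a b x := by decide +kernel

theorem perm_five_kernel : ∀ k : Equiv.Perm (Fin 5),
    (∀ i : Fin 4, k * Equiv.swap i.castSucc i.succ = Equiv.swap i.castSucc i.succ * k) → k = 1 := by
  decide +kernel

/-- A chain of four members receives the symmetric group of degree five faithfully. -/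
theorem chain_hom {D : Set G} (hE : IsThreeTranspositionSet D) {w x y z : G} (hw : w ∈ D) (hx : x ∈ D) (hy : y ∈ D)
    (hz : z ∈ D) (hwx : ¬ Commute w x) (hxy : ¬ Commute x y) (hyz : ¬ Commute y z) (hwy : Commute w y)
    (hwz : Commute w z) (hxz : Commute x z) :
    ∃ φ : Equiv.Perm (Fin 5) →* G, Function.Injective φ ∧
      (∀ i : Fin 4, φ (Equiv.swap i.castSucc i.succ) = ![w, x, y, z] i) ∧
      φ.range ≤ Subgroup.closure (Set.range ![w, x, y, z]) := by
  classical
  obtain ⟨cs, hcs⟩ := Cfsg.Agent.S2530.result 4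
  let g : Fin 4 → G := ![w, x, y, z]
  have gE : ∀ i, g i ∈ D := fun i => by fin_cases i <;> [exact hw; exact hx; exact hy; exact hz]
  have c1 : ∀ {u : G}, u ∈ D → (u * u) ^ 1 = 1 := fun hu => by rw [pow_one, sq_eq_one hE hu]
  have c2 : ∀ {u v : G}, u ∈ D → v ∈ D → Commute u v → (u * v) ^ 2 = 1 := fun {u v} hu hv huv => by
    rw [huv.mul_pow, pow_two, pow_two, sq_eq_one hE hu, sq_eq_one hE hv, one_mul]
  have c3 : ∀ {u v : G}, u ∈ D → v ∈ D → ¬ Commute u v → (u * v) ^ 3 = 1 :=
    fun hu hv huv => cube_of_not_commute hE hu hv huv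
  have hg : (CoxeterMatrix.A 4).IsLiftable g := by
    intro i j
    fin_cases i <;> fin_cases j <;>
      first
      | exact c1 (gE _)
      | exact c2 hw hy hwy
      | exact c2 hy hw hwy.symm
      | exact c2 hw hz hwz
      | exact c2 hz hw hwz.symm
      | exact c2 hx hz hxz
      | exact c2 hz hx hxz.symm
      | exact c3 hw hx hwx
      | exact c3 hx hw fun e => hwx e.symm
      | exact c3 hx hy hxy
      | exact c3 hy hx fun e => hxy e.symm
      | exact c3 hy hz hyz
      | exact c3 hz hy fun e => hyz e.symm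
  let φ : Equiv.Perm (Fin 5) →* G := cs.lift ⟨g, hg⟩
  have hφ : ∀ i : Fin 4, φ (Equiv.swap i.castSucc i.succ) = g i := fun i => by
    rw [← hcs i]; exact cs.lift_apply_simple hg i
  refine ⟨φ, ?_, hφ, ?_⟩
  · rw [← MonoidHom.ker_eq_bot_iff]
    have hn : (φ.ker.subgroupOf (alternatingGroup (Fin 5))).Normal := Subgroup.normal_subgroupOf
    have := alternatingGroup.isSimpleGroup (α := Fin 5) (by simp)
    rcases hn.eq_bot_or_eq_top with hh | hh
    · rw [eq_bot_iff]
      intro k hk
      refine Subgroup.mem_bot.2 (perm_five_kernel k fun i => ?_)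
      set s := Equiv.swap i.castSucc i.succ
      have hm : k * s * k⁻¹ * s⁻¹ ∈ alternatingGroup (Fin 5) := by
        rw [Equiv.Perm.mem_alternatingGroup]
        simp only [map_mul, map_inv]
        exact mul_inv_eq_one.2 (by rw [mul_comm, inv_mul_cancel_left])
      have hk' : k * s * k⁻¹ * s⁻¹ ∈ φ.ker := by
        rw [MonoidHom.mem_ker] at hk ⊢
        simp [hk]
      have : (⟨_, hm⟩ : alternatingGroup (Fin 5)) ∈ φ.ker.subgroupOf (alternatingGroup (Fin 5)) := hk'
      rw [hh, Subgroup.mem_bot] at this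
      exact mul_inv_eq_iff_eq_mul.1 (mul_inv_eq_one.1 (congrArg Subtype.val this : k * s * k⁻¹ * s⁻¹ = 1))
    · exfalso
      have hm : Equiv.swap (0 : Fin 5) 1 * Equiv.swap 1 2 ∈ alternatingGroup (Fin 5) := by
        rw [Equiv.Perm.mem_alternatingGroup]; decide
      have hk : (⟨_, hm⟩ : alternatingGroup (Fin 5)) ∈ φ.ker.subgroupOf (alternatingGroup (Fin 5)) := by
        rw [hh]; trivial
      have hk' : φ (Equiv.swap (0 : Fin 5) 1 * Equiv.swap 1 2) = 1 := hk
      rw [map_mul, show Equiv.swap (0 : Fin 5) 1 = Equiv.swap (0 : Fin 4).castSucc (0 : Fin 4).succ from rfl,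
        show Equiv.swap (1 : Fin 5) 2 = Equiv.swap (1 : Fin 4).castSucc (1 : Fin 4).succ from rfl, hφ, hφ] at hk'
      exact hwx (((eq_inv_of_mul_eq_one_right (show w * x = 1 from hk')).trans (inv_eq hE hw)) ▸ Commute.refl w)
  · rw [MonoidHom.range_eq_map, ← cs.subgroup_closure_range_simple, MonoidHom.map_closure, Subgroup.closure_le]
    rintro _ ⟨_, ⟨i, rfl⟩, rfl⟩
    rw [hcs, hφ]
    exact Subgroup.subset_closure ⟨i, rfl⟩

namespace Flat

variable [Finite G] (h : Flat E)
include h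

theorem third {d y z : G} (hy : y ∈ nb E d) (hz : z ∈ nb E d) : y * z * y ∈ nb E d :=
  nb_third h.tr h.closed hy hz

/-- The symmetric group of degree five. -/
theorem five {d : G} (hd : d ∈ E) (hne : E.ncard ≠ 6) :
    E.ncard = 10 ∧ ∃ φ : Equiv.Perm (Fin 5) →* G, Function.Injective φ ∧ φ.range = Subgroup.closure E ∧
      (∀ a b : Fin 5, a ≠ b → φ (Equiv.swap a b) ∈ E) ∧
      ∀ z ∈ E, ∃ a b : Fin 5, a ≠ b ∧ φ (Equiv.swap a b) = z := by
  classical
  obtain ⟨a₀, a₁, a₂, h01, h02, h12, hnb⟩ := Set.ncard_eq_three.1 (h.three d hd)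
  have ha : a₀ ∈ nb E d := by rw [hnb]; simp
  have hb : a₁ ∈ nb E d := by rw [hnb]; simp
  set a := a₀
  set b := a₁
  set c := a * b * a with hc
  have hab := h.tri d hd a ha b hb h01
  have hcnb : c ∈ nb E d := h.third ha hb
  have hnc := not_commute_third' h.tr ha.1 hb.1 hab
  have hle := h.le
  -- a chain
  obtain ⟨p, hp, hpd, hpb⟩ : ∃ p ∈ nb E a, p ≠ d ∧ ¬ Commute p b := by
    by_contra hcon
    push Not at hcon
    have hpb : ∀ u ∈ nb E a, Commute u b := fun u hu => by
      by_cases hud : u = d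
      · exact hud ▸ hb.2.2
      · exact hcon u hu hud
    have hsubb : nb E a ⊆ nb E b := fun u hu =>
      ⟨hu.1, fun e => hab (e ▸ hu.2.2), (hpb u hu).symm⟩
    have heqb : nb E a = nb E b := Set.eq_of_subset_of_ncard_le hsubb (by rw [h.three a ha.1, h.three b hb.1])
    have hsubc : nb E a ⊆ nb E c := fun u hu =>
      ⟨hu.1, fun e => hnc.1 (by rw [← hc, ← e]; exact hu.2.2), (((hu.2.2).mul_left (hsubb hu).2.2).mul_left hu.2.2)⟩
    have heqc : nb E a = nb E c := Set.eq_of_subset_of_ncard_le hsubc (by rw [h.three a ha.1, h.three c hcnb.1])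
    have hne_ab : a ≠ b := h01
    have hac : a ≠ c := fun e => hnc.1 (by rw [← hc, ← e])
    have hbc : b ≠ c := fun e => hnc.2 (by rw [← hc, ← e])
    set L : Set G := {a, b, c} with hL
    have hLc : L.ncard = 3 := Set.ncard_eq_three.2 ⟨a, b, c, hne_ab, hac, hbc, rfl⟩
    have hback : ∀ u ∈ nb E a, nb E u = L := by
      intro u hu
      refine (Set.eq_of_subset_of_ncard_le ?_ (by rw [h.three u hu.1, hLc])).symm
      rintro w (rfl | rfl | rfl)
      exacts [nb_symm ha.1 hu, nb_symm hb.1 (hsubb hu), nb_symm hcnb.1 (hsubc hu)]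
    set S : Set G := L ∪ nb E a with hS
    have hSE : S ⊆ E := by
      rintro w ((rfl | rfl | rfl) | hw)
      exacts [ha.1, hb.1, hcnb.1, hw.1]
    have hdisj : Disjoint L (nb E a) := by
      rw [Set.disjoint_left]
      rintro w (rfl | rfl | rfl) hw
      exacts [hw.2.1 rfl, hab hw.2.2, hnc.1 hw.2.2]
    have hScard : S.ncard = 6 := by rw [hS, Set.ncard_union_eq hdisj, hLc, h.three a ha.1]
    have hout : ∀ z ∈ E \ S, nb E z ⊆ E \ S := by
      intro z hz u hu
      refine ⟨hu.1, fun huS => hz.2 ?_⟩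
      have hz' : z ∈ nb E u := nb_symm hz.1 hu
      rcases huS with (rfl | rfl | rfl) | huS
      · exact Or.inr hz'
      · exact Or.inr (heqb ▸ hz')
      · exact Or.inr (heqc ▸ hz')
      · exact Or.inl (hback u huS ▸ hz')
    have hT : (E \ S).ncard ≤ 4 := by rw [Set.ncard_sdiff hSE, hScard]; omega
    have hTne : (E \ S).Nonempty := by
      rw [← Set.ncard_pos]
      have := Set.ncard_le_ncard hSE
      rw [Set.ncard_sdiff hSE, hScard]
      omega
    obtain ⟨z, hz⟩ := hTne
    obtain ⟨u, v, w, huv, huw, hvw, huvw⟩ := Set.ncard_eq_three.1 (h.three z hz.1)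
    have hu : u ∈ nb E z := by rw [huvw]; simp
    have hv : v ∈ nb E z := by rw [huvw]; simp
    have huT := hout z hz hu
    have heq : nb E u = (E \ S) \ {u} := by
      refine Set.eq_of_subset_of_ncard_le (fun x hx => ⟨hout u huT hx, hx.2.1⟩) ?_
      rw [h.three u hu.1, Set.ncard_sdiff_singleton_of_mem huT]
      omega
    have hvu : v ∈ nb E u := by rw [heq]; exact ⟨hout z hz hv, huv.symm⟩
    exact h.tri z hz.1 u hu v hv huv hvu.2.2
  have hdp : ¬ Commute d p := h.tri a ha.1 d (nb_symm hd ha) p hp hpd.symm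
  -- the homomorphism
  have gE : ∀ i, (![d, p, b, a] : Fin 4 → G) i ∈ E := fun i => by
    fin_cases i <;> [exact hd; exact hp.1; exact hb.1; exact ha.1]
  obtain ⟨φ, hinj, hφ, hrange₀⟩ := chain_hom h.tr (gE 0) (gE 1) (gE 2) (gE 3) hdp hpb (fun e => hab e.symm) hb.2.2
    ha.2.2 hp.2.2.symm
  have hrange : φ.range ≤ Subgroup.closure E := hrange₀.trans (Subgroup.closure_mono (by
    rintro _ ⟨i, rfl⟩
    exact gE i))
  have hsw : ∀ x y : Fin 5, x ≠ y → φ (Equiv.swap x y) ∈ E := by
    intro x y hxy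
    obtain ⟨σ, hσ⟩ := swap_conj x y hxy
    rw [← show σ * Equiv.swap 0 1 * σ⁻¹ = Equiv.swap x y from Equiv.ext hσ, map_mul, map_mul, map_inv,
      show Equiv.swap (0 : Fin 5) 1 = Equiv.swap (0 : Fin 4).castSucc (0 : Fin 4).succ from rfl, hφ]
    exact conj_mem_closure_set h.tr h.closed (hrange ⟨σ, rfl⟩) _ (gE 0)
  set I : Set (Equiv.Perm (Fin 5)) := ↑((Finset.univ : Finset (Fin 5 × Fin 5)).filter (fun q => q.1 ≠ q.2)
    |>.image fun q => Equiv.swap q.1 q.2) with hI
  have hIc : I.ncard = 10 := by rw [hI, Set.ncard_coe_finset]; decide +kernel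
  have himg : φ '' I ⊆ E := by
    rintro _ ⟨s, hs, rfl⟩
    simp only [hI, Finset.coe_image, Finset.coe_filter, Finset.mem_univ, true_and, Set.mem_image,
      Set.mem_ofPred_eq] at hs
    obtain ⟨q, hq, rfl⟩ := hs
    exact hsw _ _ hq
  have heq : φ '' I = E := Set.eq_of_subset_of_ncard_le himg (by rw [Set.ncard_image_of_injective _ hinj, hIc]; exact hle)
  refine ⟨by rw [← heq, Set.ncard_image_of_injective _ hinj, hIc], φ, hinj, le_antisymm hrange ?_, hsw, ?_⟩
  · rw [Subgroup.closure_le, ← heq]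
    rintro _ ⟨s, -, rfl⟩
    exact ⟨s, rfl⟩
  · intro z hz
    rw [← heq] at hz
    obtain ⟨s, hs, rfl⟩ := hz
    simp only [hI, Finset.coe_image, Finset.coe_filter, Finset.mem_univ, true_and, Set.mem_image,
      Set.mem_ofPred_eq] at hs
    obtain ⟨q, hq, rfl⟩ := hs
    exact ⟨q.1, q.2, hq, rfl⟩
where
  not_commute_third' {a b : G} (hE : IsThreeTranspositionSet E) (ha : a ∈ E) (hb : b ∈ E) (hab : ¬ Commute a b) :
      ¬ Commute a (a * b * a) ∧ ¬ Commute b (a * b * a) := by
    have ha2 := sq_eq_one hE ha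
    constructor
    · intro e
      have := ((Commute.refl a).mul_right e).mul_right (Commute.refl a)
      rw [show a * (a * b * a) * a = (a * a) * b * (a * a) by simp only [mul_assoc], ha2, one_mul, mul_one] at this
      exact hab this
    · intro e
      have hb2 := sq_eq_one hE hb
      have := ((Commute.refl b).mul_right e).mul_right (Commute.refl b)
      rw [braid hE ha hb hab, show b * (b * a * b) * b = (b * b) * a * (b * b) by simp only [mul_assoc], hb2, one_mul,
        mul_one] at this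
      exact hab this.symm

end Flat

end Cfsg.Lib.ThreeTr
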