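import Cfsg.Agent.ThreeTransposition.M22Count.TorusFive
import Cfsg.Agent.ThreeTransposition.M22Count.PetersenTen
import Cfsg.Agent.ThreeTransposition.M22Count.Centraliser

/-!
In a class of type M(22): the members commuting with a member and with an element of order five commuting with it,
and chains of four members whose products have order five.
-/

set_option autoImplicit false
set_option linter.unusedSectionVars false
set_option linter.style.haveILetI false

namespace Cfsg.Lib.ThreeTr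

open Cfsg Subgroup Cfsg.Lib.Classical

attribute [local instance] _root_.Classical.propDecidable

universe u

variable {G : Type u} [Group G] {D : Set G}

/-- A chain of four members commuting with `z`. -/
structure Chain (D : Set G) (z : G) (c : Fin 4 → G) : Prop where
  mem : ∀ i, c i ∈ perp D z
  n01 : ¬ Commute (c 0) (c 1)
  n12 : ¬ Commute (c 1) (c 2)
  n23 : ¬ Commute (c 2) (c 3)
  c02 : Commute (c 0) (c 2)
  c03 : Commute (c 0) (c 3)
  c13 : Commute (c 1) (c 3)

/-- The product of a chain. -/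
def chainProd (c : Fin 4 → G) : G := c 0 * c 1 * c 2 * c 3

theorem five_cycle_facts :
    (Equiv.swap (0 : Fin 5) 1 * Equiv.swap 1 2 * Equiv.swap 2 3 * Equiv.swap 3 4) ^ 5 = 1 ∧
      (Equiv.swap (0 : Fin 5) 1 * Equiv.swap 1 2 * Equiv.swap 2 3 * Equiv.swap 3 4) ≠ 1 ∧
      ∀ i : Fin 4, ¬ (Equiv.swap (0 : Fin 5) 1 * Equiv.swap 1 2 * Equiv.swap 2 3 * Equiv.swap 3 4) *
        Equiv.swap i.castSucc i.succ =
        Equiv.swap i.castSucc i.succ * (Equiv.swap (0 : Fin 5) 1 * Equiv.swap 1 2 * Equiv.swap 2 3 * Equiv.swap 3 4) := by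
  decide +kernel

namespace Chain

variable {z : G} {c : Fin 4 → G}

theorem hom (hE : IsThreeTranspositionSet D) (hc : Chain D z c) :
    orderOf (chainProd c) = 5 ∧ ∀ i, ¬ Commute (chainProd c) (c i) := by
  obtain ⟨φ, hinj, hφ, -⟩ := chain_hom hE (hc.mem 0).1 (hc.mem 1).1 (hc.mem 2).1 (hc.mem 3).1 hc.n01 hc.n12 hc.n23
    hc.c02 hc.c03 hc.c13
  have hval : ∀ i : Fin 4, ![c 0, c 1, c 2, c 3] i = c i := fun i => by fin_cases i <;> rfl
  have hprod : φ (Equiv.swap (0 : Fin 5) 1 * Equiv.swap 1 2 * Equiv.swap 2 3 * Equiv.swap 3 4) = chainProd c := by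
    rw [map_mul, map_mul, map_mul]
    have e0 := hφ 0; have e1 := hφ 1; have e2 := hφ 2; have e3 := hφ 3
    simp only [hval] at e0 e1 e2 e3
    rw [chainProd, ← e0, ← e1, ← e2, ← e3]
    rfl
  refine ⟨?_, fun i hcomm => five_cycle_facts.2.2 i (hinj ?_)⟩
  · rw [← hprod, orderOf_injective φ hinj]
    haveI : Fact (Nat.Prime 5) := ⟨by norm_num⟩
    exact orderOf_eq_prime five_cycle_facts.1 five_cycle_facts.2.1
  · rw [map_mul φ _ (Equiv.swap i.castSucc i.succ), map_mul φ (Equiv.swap i.castSucc i.succ), hφ, hval, hprod]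
    exact hcomm.eq

end Chain

namespace IsModel

variable {p : G} {F : Type} [Field F] [Fintype F] {H : HermSpace F (Fin 6 → F)}
  {π : H.SIsom →* ↥(closure (perp D p)) ⧸ center ↥(closure (perp D p))} {vec : G → (Fin 6 → F)}
  (hM : IsModel D p H π vec)
include hM

theorem center_cube {z : H.SIsom} (hz : z ∈ center H.SIsom) : z ^ 3 = 1 := by
  haveI := hM.six.fd
  obtain ⟨c, hc, hzc⟩ := hM.six.center_scalar hz
  refine H.sisom_ext fun v => ?_
  show (z ^ 3).1.1 v = v
  rw [pow_three, HermSpace.smul_mul_apply, HermSpace.smul_mul_apply, hzc, hzc, hzc, smul_smul, smul_smul,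
    ← pow_three', (Seven.cube_cases hM.four c).resolve_left hc, one_smul]

/-- An element fixing a member fixes its vector up to a scalar. -/
theorem vec_fixed [Finite G] (h : M22 D) {g a : G} (hg : g ∈ closure (perp D p)) {s : H.SIsom}
    (hs : π s = QuotientGroup.mk (⟨g, hg⟩ : ↥(closure (perp D p)))) (ha : a ∈ perp D p) (hga : Commute g a) :
    ∃ c : F, c ≠ 0 ∧ s.1.1 (vec a) = c • vec a := by
  haveI := hM.six.fd
  have hS := hM.six
  have hvv := hM.vec_iso a ha
  have hv0 := hM.vec_ne a ha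
  have hv' : H.h (s.1.1 (vec a)) (s.1.1 (vec a)) = 0 := by rw [H.map_form, hvv]
  refine (hS.tv_image_eq_iff π hM.ker hv' hvv fun e => hv0 (s.1.1.injective (by rw [e, map_zero]))).1 ?_
  have e1 : s * hS.tv hvv * s⁻¹ = hS.tv hv' := H.sT_conj s hvv hS.skew
  have key := congrArg π e1
  rw [map_mul, map_mul, map_inv, hs, ← hM.img ⟨a, subset_closure ha⟩ ha hvv, ← QuotientGroup.mk_inv,
    ← QuotientGroup.mk_mul, ← QuotientGroup.mk_mul] at key
  rw [← key, ← hM.img ⟨a, subset_closure ha⟩ ha hvv]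
  congr 1
  exact Subtype.ext (show g * a * g⁻¹ = a by rw [hga.eq, mul_inv_cancel_right])

/-- An element fixing the vector of a member fixes the member. -/
theorem commute_of_fixed [Finite G] (h : M22 D) (hp : p ∈ D) {g a : G} (hg : g ∈ closure (perp D p)) {s : H.SIsom}
    (hs : π s = QuotientGroup.mk (⟨g, hg⟩ : ↥(closure (perp D p)))) (ha : a ∈ perp D p)
    (hfix : s.1.1 (vec a) = vec a) : Commute g a := by
  haveI := hM.six.fd
  have hS := hM.six
  have hvv := hM.vec_iso a ha
  have hconj : s * hS.tv hvv * s⁻¹ = hS.tv hvv := by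
    refine (H.sT_conj s hvv hS.skew).trans (H.sisom_ext fun w => ?_)
    show (H.sT (v := s.1.1 (vec a)) _ hS.skew).1.1 w = (H.sT hvv hS.skew).1.1 w
    rw [H.sT_apply, H.sT_apply, hfix]
  have key := congrArg π hconj
  rw [map_mul, map_mul, map_inv, hs, ← hM.img ⟨a, subset_closure ha⟩ ha hvv, ← QuotientGroup.mk_inv,
    ← QuotientGroup.mk_mul, ← QuotientGroup.mk_mul] at key
  have hmem : g * a * g⁻¹ ∈ perp D p := conj_mem_perp h.conj_D hg ha
  have := congrArg Subtype.val (mk_injOn (x := (⟨g, hg⟩ : ↥(closure (perp D p))) * ⟨a, subset_closure ha⟩ * ⟨g, hg⟩⁻¹)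
    (y := (⟨a, subset_closure ha⟩ : ↥(closure (perp D p)))) h.cls.1 h.conj_D hmem ha (h.not_center hp hmem) key)
  exact mul_inv_eq_iff_eq_mul.1 this

/-- An element of order five of the centraliser comes from an isometry of order five. -/
theorem exists_five [Finite G] (h : M22 D) (hp : p ∈ D) {y : G} (hy : orderOf y = 5)
    (hyK : y ∈ closure (perp D p)) :
    ∃ t : H.SIsom, Five.IsFive t ∧ π t = QuotientGroup.mk (⟨y, hyK⟩ : ↥(closure (perp D p))) := by
  set Y : ↥(closure (perp D p)) := ⟨y, hyK⟩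
  obtain ⟨t₀, ht₀⟩ := hM.surj (QuotientGroup.mk Y)
  have hy5 : Y ^ 5 = 1 := Subtype.ext (show y ^ 5 = 1 by rw [← hy, pow_orderOf_eq_one])
  have hc : t₀ ^ 5 ∈ center H.SIsom := by
    rw [← hM.ker, MonoidHom.mem_ker, map_pow, ht₀, ← QuotientGroup.mk_pow, hy5, QuotientGroup.mk_one]
  have hπ : π (t₀ ^ 6) = QuotientGroup.mk Y := by
    rw [map_pow, ht₀, ← QuotientGroup.mk_pow, pow_succ, hy5, one_mul]
  refine ⟨t₀ ^ 6, ⟨?_, fun e => ?_⟩, hπ⟩
  · rw [← pow_mul, show 6 * 5 = 5 * 3 * 2 by norm_num, pow_mul, pow_mul, hM.center_cube hc, one_pow]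
  · rw [e, map_one, eq_comm, QuotientGroup.eq_one_iff, h.center_closure_perp hp, mem_subgroupOf] at hπ
    have := orderOf_dvd_of_mem_zpowers hπ
    rw [hy, h.cls.1.1 p hp] at this
    norm_num at this

theorem vec_fixed_five [Finite G] (h : M22 D) {y a : G} (hyK : y ∈ closure (perp D p)) {t : H.SIsom}
    (ht5 : t ^ 5 = 1) (ht : π t = QuotientGroup.mk (⟨y, hyK⟩ : ↥(closure (perp D p)))) (ha : a ∈ perp D p)
    (hya : Commute y a) : t.1.1 (vec a) = vec a := by
  obtain ⟨c, hc, e⟩ := hM.vec_fixed h hyK ht ha hya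
  have hn : ∀ n : ℕ, (t ^ n).1.1 (vec a) = c ^ n • vec a := by
    intro n
    induction n with
    | zero => rw [pow_zero, pow_zero, one_smul]; rfl
    | succ n ih => rw [pow_succ', HermSpace.smul_mul_apply, ih, map_smul, e, smul_smul, pow_succ]
  have h5 := hn 5
  rw [ht5] at h5
  have hc5 : c ^ 5 = 1 := by
    have : (c ^ 5 - 1) • vec a = 0 := by
      rw [sub_smul, one_smul, sub_eq_zero]; exact h5.symm
    exact sub_eq_zero.1 ((smul_eq_zero.1 this).resolve_right (hM.vec_ne a ha))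
  have hc3 := (Seven.cube_cases hM.four c).resolve_left hc
  have hc1 : c = 1 := by
    have h6 : (c ^ 3) ^ 2 = 1 := by rw [hc3, one_pow]
    rw [← pow_mul, pow_succ, hc5, one_mul] at h6
    exact h6
  rw [e, hc1, one_smul]

end IsModel

namespace M22

variable [Finite G] (h : M22 D)
include h

theorem mem_K {d g : G} (hd : d ∈ D) (hg : Commute g d) : g ∈ closure (perp D d) := by
  rw [← h.centralizer_eq hd]; exact mem_centralizer_singleton_iff.2 hg.eq

/-- Exactly three members commute with an element of order five and a member it fixes. -/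
theorem nb_five {d y : G} (hd : d ∈ D) (hy : orderOf y = 5) (hyd : Commute y d) :
    ({a : G | a ∈ perp D d ∧ Commute y a}).ncard = 3 ∧
    (∀ a ∈ perp D d, Commute y a → ∀ b ∈ perp D d, Commute y b → a ≠ b → ¬ Commute a b) ∧
    ∀ a b g : G, a ∈ perp D d → b ∈ perp D d → Commute y a → Commute y b → a ≠ b → Commute g d → Commute g y →
      Commute g a → Commute g b → ∃ i : ℕ, g = y ^ i ∨ g = y ^ i * d := by
  obtain ⟨F, _, _, H, π, vec, hM⟩ := h.exists_model hd
  have hS := hM.six
  haveI := hS.fd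
  have hyK := h.mem_K hd hyd
  obtain ⟨t, ht, hπt⟩ := hM.exists_five h hd hy hyK
  obtain ⟨ω, -, -, hω⟩ := Five.exists_omega hS hM.four
  obtain ⟨v, hv, hvv, hall, hker⟩ := Five.points hS hM.four ht
  set Sset := {a : G | a ∈ perp D d ∧ Commute y a}
  have hex : ∀ b, ∃ a ∈ Sset, ∃ k : F, k ≠ 0 ∧ v b = k • vec a := by
    intro b
    obtain ⟨a, ha, k, hk, e⟩ := hM.cover (v b) (hv b).2.1 (hv b).2.2
    refine ⟨a, ⟨ha, hM.commute_of_fixed h hd hyK hπt ha ?_⟩, k, hk, e⟩
    have := Five.mem_Fx.1 (hv b).1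
    rw [e, map_smul] at this
    exact smul_right_injective _ hk this
  choose f hfS k hk hfv using hex
  have hnc : ∀ {b b'}, b ≠ b' → ¬ Commute (f b) (f b') := by
    intro b b' hne hcomm
    apply hvv b b' hne
    rw [hfv b, hfv b', H.smul_left, H.smul_right, (hM.comm_iff h hd (hfS b).1 (hfS b').1).1 hcomm, mul_zero, mul_zero]
  have hinj : Function.Injective f := fun b b' e => by_contra fun hne => hnc hne (e ▸ Commute.refl (f b))
  have hsurj : ∀ a ∈ Sset, ∃ b, f b = a := by
    intro a ha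
    obtain ⟨b, c, hc, e⟩ := hall (vec a) (Five.mem_Fx.2 (hM.vec_fixed_five h hyK ht.five hπt ha.1 ha.2))
      (hM.vec_ne a ha.1) (hM.vec_iso a ha.1)
    refine ⟨b, (hM.eq_of_prop h hd ha.1 (hfS b).1 (a := c * k b) ?_).symm⟩
    rw [e, hfv b, smul_smul]
  have himg : Set.range f = Sset := Set.Subset.antisymm (Set.range_subset_iff.2 hfS) fun a ha => hsurj a ha
  have hcard : Sset.ncard = 3 := by
    rw [← himg, Set.ncard_range_of_injective hinj, Nat.card_eq_fintype_card, Fintype.card_subtype_compl,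
      Fintype.card_subtype_eq, Fintype.card_eq_nat_card, hM.four]
  refine ⟨hcard, ?_, ?_⟩
  · intro a ha hya b hb hyb hne
    obtain ⟨i, rfl⟩ := hsurj a ⟨ha, hya⟩
    obtain ⟨j, rfl⟩ := hsurj b ⟨hb, hyb⟩
    exact hnc fun e => hne (e ▸ rfl)
  · intro a b g ha hb hya hyb hne hgd hgy hga hgb
    have hgK := h.mem_K hd hgd
    obtain ⟨s, hs⟩ := hM.surj (QuotientGroup.mk (⟨g, hgK⟩ : ↥(closure (perp D d))))
    obtain ⟨i, rfl⟩ := hsurj a ⟨ha, hya⟩
    obtain ⟨j, rfl⟩ := hsurj b ⟨hb, hyb⟩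
    have hij : i ≠ j := fun e => hne (e ▸ rfl)
    -- the third member
    have hthird : f i * f j * f i ∈ Sset :=
      ⟨by simpa [inv_eq h.cls.1 (hfS i).1.1] using conj_mem_perp h.conj_D (subset_closure (hfS i).1) (hfS j).1,
        ((hfS i).2.mul_right (hfS j).2).mul_right (hfS i).2⟩
    obtain ⟨l, hl⟩ := hsurj _ hthird
    have hnl := not_commute_third h.cls.1 (hfS i).1.1 (hfS j).1.1 (hnc hij)
    have hnl' : ¬ Commute (f j) (f i * f j * f i) := by
      rw [third_eq h.cls.1 (hfS i).1.1 (hfS j).1.1 (hnc hij)]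
      exact not_commute_third h.cls.1 (hfS j).1.1 (hfS i).1.1 fun h' => hnc hij h'.symm
    have hli : l ≠ i := fun e => hnl (by rw [← hl, e])
    have hlj : l ≠ j := fun e => hnl' (by rw [← hl, e])
    have hfix : ∀ b, ∃ c : F, s.1.1 (v b) = c • v b := by
      intro b
      have hgb' : Commute g (f b) := by
        have h3 : b = i ∨ b = j ∨ b = l := by
          by_contra hcon
          push Not at hcon
          have : ({b, i, j, l} : Finset {x : F // x ≠ 0}).card ≤ 3 := by
            refine (Finset.card_le_univ _).trans ?_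
            rw [Fintype.card_subtype_compl, Fintype.card_subtype_eq, Fintype.card_eq_nat_card, hM.four]
          rw [Finset.card_insert_of_notMem (by simp [hcon.1, hcon.2.1, hcon.2.2]),
            Finset.card_insert_of_notMem (by simp [hij, hli.symm]), Finset.card_pair hlj.symm] at this
          omega
        rcases h3 with rfl | rfl | rfl
        exacts [hga, hgb, hl ▸ (hga.mul_right hgb).mul_right hga]
      obtain ⟨c, -, e⟩ := hM.vec_fixed h hgK hs (hfS b).1 hgb'
      exact ⟨c, by rw [hfv b, map_smul, e, smul_comm]⟩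
    have hst : Commute s t := by
      have hc : s * t * s⁻¹ * t⁻¹ ∈ center H.SIsom := by
        rw [← hM.ker, MonoidHom.mem_ker, map_mul, map_mul, map_mul, map_inv, map_inv, hπt, hs]
        rw [← QuotientGroup.mk_mul, ← QuotientGroup.mk_inv, ← QuotientGroup.mk_inv, ← QuotientGroup.mk_mul,
          ← QuotientGroup.mk_mul, show (⟨g, hgK⟩ : ↥(closure (perp D d))) * ⟨y, hyK⟩ * ⟨g, hgK⟩⁻¹ * ⟨y, hyK⟩⁻¹ = 1 from
            Subtype.ext (show g * y * g⁻¹ * y⁻¹ = 1 by rw [hgy.eq, mul_inv_cancel_right, mul_inv_cancel]),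
          QuotientGroup.mk_one]
      set c := s * t * s⁻¹ * t⁻¹ with hcdef
      have hct : s * t * s⁻¹ = c * t := by rw [hcdef, inv_mul_cancel_right]
      have hcom : Commute c t := (Subgroup.mem_center_iff.1 hc t).symm
      have h5 : c ^ 5 = 1 := by
        have := congrArg (fun g => g ^ 5) hct
        simp only [conj_pow, ht.five, mul_one, mul_inv_cancel] at this
        rwa [hcom.mul_pow, ht.five, mul_one, eq_comm] at this
      have h1 : c = 1 := by
        have h6 : (c ^ 3) ^ 2 = 1 := by rw [hM.center_cube hc, one_pow]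
        rwa [← pow_mul, pow_succ, h5, one_mul] at h6
      rw [h1, one_mul, mul_inv_eq_iff_eq_mul] at hct
      exact hct
    obtain ⟨z, hz, n, rfl⟩ := hker s hst hfix
    have hπz : π z = 1 := by rwa [← MonoidHom.mem_ker, hM.ker]
    rw [map_mul, map_pow, hπt, hπz, one_mul, ← QuotientGroup.mk_pow, QuotientGroup.eq] at hs
    rw [h.center_closure_perp hd, mem_subgroupOf, Subgroup.coe_mul, Subgroup.coe_inv, Subgroup.coe_pow] at hs
    change (y ^ n)⁻¹ * g ∈ zpowers d at hs
    obtain ⟨m, hm⟩ := mem_zpowers_iff.1 hs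
    have hd2 : d * d = 1 := sq_eq_one h.cls.1 hd
    rcases Int.even_or_odd m with ⟨l', rfl⟩ | ⟨l', rfl⟩
    · refine ⟨n, Or.inl ?_⟩
      rw [← two_mul, zpow_mul, zpow_two, hd2, one_zpow] at hm
      exact (inv_mul_eq_one.1 hm.symm).symm
    · refine ⟨n, Or.inr ?_⟩
      rw [zpow_add, zpow_mul, zpow_two, hd2, one_zpow, one_mul, zpow_one] at hm
      rw [hm, mul_inv_cancel_left]

/-- There is a chain. -/
theorem exists_chain {z : G} (hz : z ∈ D) : ∃ c : Fin 4 → G, Chain D z c := by
  obtain ⟨F, _, _, H, π, vec, hM⟩ := h.exists_model hz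
  have hS := hM.six
  haveI := hS.fd
  obtain ⟨e, he⟩ := H.exists_orthonormal
  have hd6 : Module.finrank F (Fin 6 → F) = 6 := hS.dim
  let b : Fin 6 → (Fin 6 → F) := fun i => e (finCongr hd6.symm i)
  have hb : ∀ i j, H.h (b i) (b j) = if i = j then 1 else 0 := fun i j => by
    simp only [b, he, EmbeddingLike.apply_eq_iff_eq]
  let w : Fin 4 → (Fin 6 → F) := fun i => b i.castSucc.castSucc + b i.succ.castSucc
  have hw : ∀ i j, H.h (w i) (w j) = (if i.castSucc.castSucc = j.castSucc.castSucc then 1 else 0) +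
      (if i.castSucc.castSucc = j.succ.castSucc then 1 else 0) +
      ((if i.succ.castSucc = j.castSucc.castSucc then 1 else 0) +
        (if i.succ.castSucc = j.succ.castSucc then (1 : F) else 0)) := fun i j => by
    simp only [w, H.add_left, H.add_right, hb]
  have hwn : ∀ i, w i ≠ 0 := fun i e0 => by
    have : H.h (w i) (b i.castSucc.castSucc) = 0 := by rw [e0, H.zero_left]
    simp [w, H.add_left, hb, Fin.ext_iff] at this
  have hwi : ∀ i, H.h (w i) (w i) = 0 := fun i => by
    rw [hw]; simp [Fin.ext_iff, hS.add_self]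
  choose c hc k hk hck using fun i => hM.cover (w i) (hwn i) (hwi i)
  have hiff : ∀ i j, Commute (c i) (c j) ↔ H.h (w i) (w j) = 0 := by
    intro i j
    rw [hM.comm_iff h hz (hc i) (hc j), hck i, hck j, H.smul_left, H.smul_right]
    simp [hk i, hk j]
  refine ⟨c, hc, ?_, ?_, ?_, ?_, ?_, ?_⟩
  all_goals simp [hiff, hw, Fin.ext_iff]

/-- A member commuting with `z` and with the product of a chain at `z` commutes with the chain. -/
theorem chain_commute {z a : G} {c : Fin 4 → G} (hz : z ∈ D) (hc : Chain D z c) (ha : a ∈ perp D z)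
    (hya : Commute (chainProd c) a) : ∀ i, Commute (c i) a := by
  obtain ⟨F, _, _, H, π, vec, hM⟩ := h.exists_model hz
  have hS := hM.six
  haveI := hS.fd
  set v : Fin 4 → (Fin 6 → F) := fun i => vec (c i) with hv
  have hvi : ∀ i, H.h (v i) (v i) = 0 := fun i => hM.vec_iso _ (hc.mem i)
  have hh : ∀ {i j}, Commute (c i) (c j) → H.h (v i) (v j) = 0 :=
    fun {i j} hcm => (hM.comm_iff h hz (hc.mem i) (hc.mem j)).1 hcm
  have hn : ∀ {i j}, ¬ Commute (c i) (c j) → H.h (v i) (v j) ≠ 0 :=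
    fun {i j} hcm e => hcm ((hM.comm_iff h hz (hc.mem i) (hc.mem j)).2 e)
  set t := hS.tv (hvi 0) * hS.tv (hvi 1) * hS.tv (hvi 2) * hS.tv (hvi 3) with htdef
  have hmemY : chainProd c ∈ closure (perp D z) := mul_mem (mul_mem (mul_mem (subset_closure (hc.mem 0))
      (subset_closure (hc.mem 1))) (subset_closure (hc.mem 2))) (subset_closure (hc.mem 3))
  have hY5 : (⟨chainProd c, hmemY⟩ : ↥(closure (perp D z))) ^ 5 = 1 :=
    Subtype.ext (show chainProd c ^ 5 = 1 by rw [← (hc.hom h.cls.1).1, pow_orderOf_eq_one])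
  have hπt : π t = QuotientGroup.mk (⟨chainProd c, hmemY⟩ : ↥(closure (perp D z))) := by
    rw [htdef, map_mul, map_mul, map_mul, ← hM.img ⟨_, subset_closure (hc.mem 0)⟩ (hc.mem 0) (hvi 0),
      ← hM.img ⟨_, subset_closure (hc.mem 1)⟩ (hc.mem 1) (hvi 1),
      ← hM.img ⟨_, subset_closure (hc.mem 2)⟩ (hc.mem 2) (hvi 2),
      ← hM.img ⟨_, subset_closure (hc.mem 3)⟩ (hc.mem 3) (hvi 3), ← QuotientGroup.mk_mul, ← QuotientGroup.mk_mul,
      ← QuotientGroup.mk_mul]
    rfl
  -- a vector orthogonal to the chain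
  obtain ⟨w, hw, hw0⟩ : ∃ w ∈ H.orth (Submodule.span F (Set.range v)), w ≠ 0 := by
    refine Submodule.exists_mem_ne_zero_of_ne_bot fun e => ?_
    have h1 := H.finrank_orth (Submodule.span F (Set.range v))
    rw [e, finrank_bot, hS.dim] at h1
    have h2 := finrank_range_le_card (R := F) v
    rw [Fintype.card_fin] at h2
    change Module.finrank F ↥(Submodule.span F (Set.range v)) ≤ 4 at h2
    omega
  rw [H.mem_orth_span] at hw
  have htw : t.1.1 w = w := by
    simp only [htdef, HermSpace.smul_mul_apply, hS.tv_apply, hw _ ⟨3, rfl⟩, zero_smul, add_zero,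
      hw _ ⟨2, rfl⟩, hw _ ⟨1, rfl⟩, hw _ ⟨0, rfl⟩]
  have ht5 : t ^ 5 = 1 := by
    have hcen : t ^ 5 ∈ center H.SIsom := by
      rw [← hM.ker, MonoidHom.mem_ker, map_pow, hπt, ← QuotientGroup.mk_pow, hY5, QuotientGroup.mk_one]
    obtain ⟨μ, -, hμ⟩ := hS.center_scalar hcen
    have hfix : ∀ n : ℕ, (t ^ n).1.1 w = w := by
      intro n
      induction n with
      | zero => rfl
      | succ n ih => rw [pow_succ', HermSpace.smul_mul_apply, ih, htw]
    have hμ1 : μ = 1 := by
      have h1 := hμ w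
      rw [hfix] at h1
      have : (μ - 1) • w = 0 := by rw [sub_smul, one_smul, sub_eq_zero]; exact h1.symm
      exact sub_eq_zero.1 ((smul_eq_zero.1 this).resolve_right hw0)
    exact H.sisom_ext fun x => by rw [hμ, hμ1, one_smul]; rfl
  have hfixa := hM.vec_fixed_five h _ ht5 hπt ha hya
  set x := vec a
  set β₃ := H.h x (v 3)
  set x₂ := x + β₃ • v 3
  set β₂ := H.h x₂ (v 2)
  set x₁ := x₂ + β₂ • v 2
  set β₁ := H.h x₁ (v 1)
  set x₀ := x₁ + β₁ • v 1
  set β₀ := H.h x₀ (v 0)
  have hsum : β₃ • v 3 + β₂ • v 2 + β₁ • v 1 + β₀ • v 0 = 0 := by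
    have e1 : t.1.1 x = x₀ + β₀ • v 0 := by
      simp only [htdef, HermSpace.smul_mul_apply, hS.tv_apply]
      rfl
    rw [hfixa] at e1
    have e2 : x + (β₃ • v 3 + β₂ • v 2 + β₁ • v 1 + β₀ • v 0) = x + 0 := by
      rw [add_zero]
      conv_rhs => rw [e1]
      simp only [x₀, x₁, x₂, add_assoc]
    exact add_left_cancel e2
  have p02 := hh hc.c02; have p03 := hh hc.c03; have p13 := hh hc.c13
  have p20 := H.eq_zero_symm p02; have p30 := H.eq_zero_symm p03; have p31 := H.eq_zero_symm p13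
  have n01 := hn hc.n01; have n12 := hn hc.n12; have n23 := hn hc.n23
  have n10 : H.h (v 1) (v 0) ≠ 0 := fun e => n01 (H.eq_zero_symm e)
  have q := fun j => congrArg (fun y => H.h y (v j)) hsum
  have q0 := q 0; have q3 := q 3; have q1 := q 1; have q2 := q 2
  simp only [H.add_left, H.smul_left, H.zero_left, hvi, p02, p03, p13, p20, p30, p31, mul_zero, add_zero,
    zero_add] at q0 q1 q2 q3
  have b1 : β₁ = 0 := (mul_eq_zero.1 q0).resolve_right n10
  have b2 : β₂ = 0 := (mul_eq_zero.1 q3).resolve_right n23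
  have b0 : β₀ = 0 := by
    rw [b2, zero_mul, zero_add] at q1
    exact (mul_eq_zero.1 q1).resolve_right n01
  have b3 : β₃ = 0 := by
    rw [b1, zero_mul, add_zero] at q2
    exact (mul_eq_zero.1 q2).resolve_right fun e => n23 (H.eq_zero_symm e)
  have ex2 : x₂ = x := by simp [x₂, b3]
  have ex1 : x₁ = x := by simp [x₁, b2, ex2]
  have ex0 : x₀ = x := by simp [x₀, b1, ex1]
  intro i
  refine ((hM.comm_iff h hz (hc.mem i) ha).2 ?_)
  apply H.eq_zero_symm
  fin_cases i
  · show H.h x (v 0) = 0; rw [← ex0]; exact b0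
  · show H.h x (v 1) = 0; rw [← ex1]; exact b1
  · show H.h x (v 2) = 0; rw [← ex2]; exact b2
  · exact b3

end M22

end Cfsg.Lib.ThreeTr
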