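import Cfsg.Agent.ThreeTransposition.Basic
import Cfsg.Agent.ThreeTransposition.Unique.Base

/-!
Lines and affine planes of three-transpositions: the nine members of a plane, and counts of the members
commuting with some of them.
-/

set_option autoImplicit false
set_option linter.unusedSectionVars false
set_option linter.style.haveILetI false

namespace Cfsg.Lib.ThreeTr

open Cfsg Subgroup

variable {G : Type*} [Group G] {D : Set G}

/-- The conjugate of one of two noncommuting members by the other. -/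
theorem third_eq (hE : IsThreeTranspositionSet D) {a c : G} (ha : a ∈ D) (hc : c ∈ D) (h : ¬ Commute a c) :
    a * c * a = c * a * c := braid hE ha hc h

/-- A member commuting with two of a line commutes with the third. -/
theorem commute_third (hE : IsThreeTranspositionSet D) {a c x : G} (hxa : Commute x a) (hxc : Commute x c) :
    Commute x (a * c * a) := (hxa.mul_right hxc).mul_right hxa

/-- Two noncommuting members and the third of their line are pairwise noncommuting. -/
theorem not_commute_third (hE : IsThreeTranspositionSet D) {a c : G} (ha : a ∈ D) (hc : c ∈ D) (h : ¬ Commute a c) :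
    ¬ Commute a (a * c * a) := by
  intro h'
  apply h
  have ha2 := sq_eq_one hE ha
  have h2 := (Commute.refl a).mul_right (h'.mul_right (Commute.refl a))
  rwa [show a * (a * c * a * a) = (a * a) * c * (a * a) by simp only [mul_assoc], ha2, one_mul, mul_one] at h2

/-- Nine members indexed by the affine plane of order three, each pair on its line. -/
structure IsPlane (D : Set G) (P : ZMod 3 × ZMod 3 → G) : Prop where
  mem : ∀ x, P x ∈ D
  ncomm : ∀ x y, x ≠ y → ¬ Commute (P x) (P y)
  line : ∀ x y, P x * P y * P x = P (-x - y)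

theorem two_mul_eq_neg : ∀ i : ZMod 3, 2 * i = -i := by decide

theorem mul_self_eq_one : ∀ n : ZMod 3, n ≠ 0 → n * n = 1 := by decide

section Heisenberg

variable {A B z : G}

/-- A normal form with three exponents. -/
def nf (A B z : G) (p : ZMod 3 × ZMod 3 × ZMod 3) : G := A ^ p.1.val * B ^ p.2.1.val * z ^ p.2.2.val

theorem pow_val {A : G} (hA : A ^ 3 = 1) (n : ℕ) : A ^ n = A ^ ((n : ZMod 3)).val := by
  rw [ZMod.val_natCast, pow_eq_pow_mod n hA]

theorem move_pow (hB : Commute z B) (hA : Commute z A) (h : B * A = A * B * z ^ 2) (j : ℕ) :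
    ∀ i : ℕ, B ^ j * A ^ i = A ^ i * B ^ j * z ^ (2 * j * i) := by
  have h1 : ∀ j : ℕ, B ^ j * A = A * B ^ j * z ^ (2 * j) := by
    intro j
    induction j with
    | zero => simp
    | succ j ih =>
      calc B ^ (j + 1) * A = B ^ j * (B * A) := by rw [pow_succ, mul_assoc]
        _ = B ^ j * A * (B * z ^ 2) := by rw [h]; simp only [mul_assoc]
        _ = A * B ^ j * (z ^ (2 * j) * B) * z ^ 2 := by rw [ih]; simp only [mul_assoc]
        _ = A * B ^ (j + 1) * z ^ (2 * (j + 1)) := by
          rw [(hB.pow_left _).eq, pow_succ B, mul_add 2 j 1, pow_add z]; simp only [mul_assoc, mul_one]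
  intro i
  induction i with
  | zero => simp
  | succ i ih =>
    calc B ^ j * A ^ (i + 1) = B ^ j * A ^ i * A := by rw [pow_succ, mul_assoc]
      _ = A ^ i * (B ^ j * (z ^ (2 * j * i) * A)) := by rw [ih]; simp only [mul_assoc]
      _ = A ^ i * (B ^ j * A) * z ^ (2 * j * i) := by rw [(hA.pow_left _).eq]; simp only [mul_assoc]
      _ = A ^ (i + 1) * B ^ j * z ^ (2 * j * (i + 1)) := by
        rw [h1, pow_succ, mul_add (2 * j) i 1, add_comm (2 * j * i), pow_add z]; simp only [mul_assoc, mul_one]

theorem nf_mul (hA3 : A ^ 3 = 1) (hB3 : B ^ 3 = 1) (hz3 : z ^ 3 = 1) (hA : Commute z A) (hB : Commute z B)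
    (h : B * A = A * B * z ^ 2) (p q : ZMod 3 × ZMod 3 × ZMod 3) :
    nf A B z p * nf A B z q = nf A B z (p.1 + q.1, p.2.1 + q.2.1, p.2.2 + q.2.2 + 2 * p.2.1 * q.1) := by
  obtain ⟨i, j, k⟩ := p
  obtain ⟨i', j', k'⟩ := q
  simp only [nf]
  calc A ^ i.val * B ^ j.val * z ^ k.val * (A ^ i'.val * B ^ j'.val * z ^ k'.val)
      = A ^ i.val * B ^ j.val * (z ^ k.val * A ^ i'.val) * B ^ j'.val * z ^ k'.val := by simp only [mul_assoc]
    _ = A ^ i.val * (B ^ j.val * A ^ i'.val) * (z ^ k.val * B ^ j'.val) * z ^ k'.val := by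
        rw [(hA.pow_pow _ _).eq]; simp only [mul_assoc]
    _ = A ^ i.val * A ^ i'.val * B ^ j.val * (z ^ (2 * j.val * i'.val) * B ^ j'.val) * z ^ k.val * z ^ k'.val := by
        rw [move_pow hB hA h, (hB.pow_pow _ _).eq]; simp only [mul_assoc]
    _ = A ^ (i.val + i'.val) * B ^ (j.val + j'.val) * z ^ (2 * j.val * i'.val + k.val + k'.val) := by
        rw [(hB.pow_pow _ _).eq, pow_add, pow_add, pow_add, pow_add]; simp only [mul_assoc]
    _ = _ := by
        rw [pow_val hA3 (i.val + i'.val), pow_val hB3 (j.val + j'.val), pow_val hz3 (2 * j.val * i'.val + k.val + k'.val)]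
        push_cast
        rw [ZMod.natCast_zmod_val, ZMod.natCast_zmod_val, ZMod.natCast_zmod_val, ZMod.natCast_zmod_val,
          ZMod.natCast_zmod_val, ZMod.natCast_zmod_val,
          show 2 * j * i' + k + k' = k + k' + 2 * j * i' by ring]

end Heisenberg

/-- A plane through three noncollinear pairwise noncommuting members. -/
theorem exists_plane (hE : IsThreeTranspositionSet D) (hconj : ∀ g : G, ∀ d ∈ D, g * d * g⁻¹ ∈ D) {a c e : G}
    (ha : a ∈ D) (hc : c ∈ D) (he : e ∈ D) (hac : ¬ Commute a c) (hae : ¬ Commute a e) (hce : ¬ Commute c e)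
    (hpl : ¬ Commute (a * c * a) e) : ∃ P, IsPlane D P ∧ P (0, 0) = a ∧ P (1, 0) = c ∧ P (0, 1) = e := by
  have ha2 := sq_eq_one hE ha
  have hc2 := sq_eq_one hE hc
  have he2 := sq_eq_one hE he
  have haa : ∀ x, a * (a * x) = x := fun x => by rw [← mul_assoc, ha2, one_mul]
  have hd : a * c * a ∈ D := by simpa [inv_eq hE ha] using hconj a c hc
  set A := a * c with hAdef
  set B := a * e with hBdef
  have hA3 : A ^ 3 = 1 := cube_of_not_commute hE ha hc hac
  have hB3 : B ^ 3 = 1 := cube_of_not_commute hE ha he hae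
  have hA' : A⁻¹ = c * a := by rw [hAdef, mul_inv_rev, inv_eq hE ha, inv_eq hE hc]
  have hB' : B⁻¹ = e * a := by rw [hBdef, mul_inv_rev, inv_eq hE ha, inv_eq hE he]
  have hAB : (A * B) ^ 3 = 1 := by
    rw [show A * B = a * c * a * e by simp only [hAdef, hBdef, mul_assoc]]
    exact cube_of_not_commute hE hd he hpl
  have hA'B : (A⁻¹ * B) ^ 3 = 1 := by
    rw [hA', show c * a * B = c * e by rw [hBdef, mul_assoc, haa]]
    exact cube_of_not_commute hE hc he hce
  obtain ⟨hzA, hzB, hz3⟩ := Cfsg.Lib.TTUnique.heisenberg hA3 hB3 hAB hA'B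
  set z := A⁻¹ * B⁻¹ * A * B with hzdef
  have hzi : z⁻¹ = z ^ 2 := inv_eq_of_mul_eq_one_left (by rw [← pow_succ]; exact hz3)
  have hBA : B * A = A * B * z ^ 2 := by rw [← hzi, hzdef]; group
  have mul := fun p q => nf_mul hA3 hB3 hz3 hzA hzB hBA p q
  let ψ := nf A B z
  have hψ0 : ψ (0, 0, 0) = 1 := by simp [ψ, nf]
  have hψA : ψ (1, 0, 0) = A := by simp [ψ, nf, show (1 : ZMod 3).val = 1 from rfl]
  have hψB : ψ (0, 1, 0) = B := by simp [ψ, nf, show (1 : ZMod 3).val = 1 from rfl]
  have haA : a * A * a = A⁻¹ := by rw [hA', hAdef, ← mul_assoc a a c, ha2, one_mul]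
  have haB : a * B * a = B⁻¹ := by rw [hB', hBdef, ← mul_assoc a a e, ha2, one_mul]
  have hinv : ∀ p : ZMod 3 × ZMod 3 × ZMod 3, (ψ p)⁻¹ = ψ (-p.1, -p.2.1, -p.2.2 + 2 * p.1 * p.2.1) := by
    intro p
    refine inv_eq_of_mul_eq_one_right ?_
    show nf A B z p * nf A B z _ = _
    rw [mul, show ((p.1 + -p.1, p.2.1 + -p.2.1, p.2.2 + (-p.2.2 + 2 * p.1 * p.2.1) + 2 * p.2.1 * -p.1) :
      ZMod 3 × ZMod 3 × ZMod 3) = (0, 0, 0) by ext <;> simp; ring]
    exact hψ0
  set f : G →* G := (MulAut.conj a).toMonoidHom with hf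
  have hfe : ∀ x, f x = a * x * a := fun x => by simp [hf, inv_eq hE ha]
  have haz : f z = z := by
    rw [hzdef]
    simp only [map_mul, map_inv, hfe A, hfe B, haA, haB, inv_inv]
    -- a commutator is central, so it equals the commutator of the inverses
    calc A * B * A⁻¹ * B⁻¹ = A * (B * (A⁻¹ * B⁻¹ * A * B) * B⁻¹) * A⁻¹ := by group
      _ = A * (z * (B * B⁻¹)) * A⁻¹ := by rw [← hzdef, ← hzB.eq]; simp only [mul_assoc]
      _ = z := by rw [mul_inv_cancel, mul_one, ← hzA.eq, mul_assoc, mul_inv_cancel, mul_one]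
      _ = _ := hzdef
  have hflip : ∀ p : ZMod 3 × ZMod 3 × ZMod 3, a * ψ p * a = ψ (-p.1, -p.2.1, p.2.2) := by
    intro p
    have e1 : ∀ i : ZMod 3, A⁻¹ ^ i.val = A ^ (-i).val := by
      intro i
      have h := pow_val hA3 (2 * i.val)
      push_cast at h
      rw [ZMod.natCast_zmod_val, two_mul_eq_neg i, pow_mul] at h
      rwa [show A ^ 2 = A⁻¹ from (inv_eq_of_mul_eq_one_left (by rw [← pow_succ]; exact hA3)).symm] at h
    have e2 : ∀ i : ZMod 3, B⁻¹ ^ i.val = B ^ (-i).val := by
      intro i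
      have h := pow_val hB3 (2 * i.val)
      push_cast at h
      rw [ZMod.natCast_zmod_val, two_mul_eq_neg i, pow_mul] at h
      rwa [show B ^ 2 = B⁻¹ from (inv_eq_of_mul_eq_one_left (by rw [← pow_succ]; exact hB3)).symm] at h
    rw [← hfe]
    simp only [ψ, nf, map_mul, map_pow, hfe A, hfe B, haA, haB, haz, e1, e2]
  let g : ZMod 3 × ZMod 3 → G := fun x => ψ (x.1, x.2, x.1 * x.2)
  have hga : ∀ x, a * g x * a = (g x)⁻¹ := fun x => by
    simp only [g, hflip, hinv]
    congr 3
    ring
  have hg3 : ∀ x, g x * g x * g x = 1 := fun x => by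
    simp only [g, ψ, mul]
    rw [show ((x.1 + x.1 + x.1, x.2 + x.2 + x.2,
      x.1 * x.2 + x.1 * x.2 + 2 * x.2 * x.1 + x.1 * x.2 + 2 * (x.2 + x.2) * x.1) :
      ZMod 3 × ZMod 3 × ZMod 3) = (0, 0, 0) by revert x; decide]
    exact hψ0
  let P : ZMod 3 × ZMod 3 → G := fun x => a * g x
  have hP0 : P (0, 0) = a := by
    show a * ψ (0, 0, 0 * 0) = a
    rw [mul_zero, hψ0, mul_one]
  have hP1 : P (1, 0) = c := by
    show a * ψ (1, 0, 1 * 0) = c
    rw [mul_zero, hψA, hAdef, haa]
  have hP2 : P (0, 1) = e := by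
    show a * ψ (0, 1, 0 * 1) = e
    rw [zero_mul, hψB, hBdef, haa]
  have hPP : ∀ x y, P x * P y = (g x)⁻¹ * g y := fun x y => by
    show a * g x * (a * g y) = _
    rw [← hga]; simp only [mul_assoc]
  have hline : ∀ x y, P x * P y * P x = P (-x - y) := by
    intro x y
    show P x * (a * g y) * (a * g x) = a * g (-x - y)
    have e : g x * (g y)⁻¹ * g x = g (-x - y) := by
      simp only [g, hinv, ψ, mul]
      congr 1
      revert x y; decide
    rw [← e, ← hga y]
    show a * g x * (a * g y) * (a * g x) = a * (g x * (a * g y * a) * g x)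
    simp only [mul_assoc]
  have hmem3 : ∀ x y, P x ∈ D → P y ∈ D → P (-x - y) ∈ D := fun x y hx hy => by
    have := hconj (P x) _ hy
    rwa [inv_eq hE hx, hline] at this
  have m00 : P (0, 0) ∈ D := hP0.symm ▸ ha
  have m10 : P (1, 0) ∈ D := hP1.symm ▸ hc
  have m01 : P (0, 1) ∈ D := hP2.symm ▸ he
  have m20 : P (2, 0) ∈ D := by have := hmem3 _ _ m00 m10; exact this
  have m02 : P (0, 2) ∈ D := by have := hmem3 _ _ m00 m01; exact this
  have m22 : P (2, 2) ∈ D := by have := hmem3 _ _ m10 m01; exact this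
  have m11 : P (1, 1) ∈ D := by have := hmem3 _ _ m00 m22; exact this
  have m21 : P (2, 1) ∈ D := by have := hmem3 _ _ m22 m20; exact this
  have m12 : P (1, 2) ∈ D := by have := hmem3 _ _ m22 m02; exact this
  have hmem : ∀ x, P x ∈ D := by
    intro x
    obtain ⟨i, j⟩ := x
    fin_cases i <;> fin_cases j <;> assumption
  refine ⟨P, ⟨hmem, fun x y hxy hcomm => ?_, hline⟩, hP0, hP1, hP2⟩
  -- two commuting points would make a translation trivial
  obtain ⟨k, hk⟩ : ∃ k, (g x)⁻¹ * g y = ψ (y.1 - x.1, y.2 - x.2, k) := by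
    refine ⟨-(x.1 * x.2) + 2 * x.1 * x.2 + y.1 * y.2 + 2 * -x.2 * y.1, ?_⟩
    simp only [g, hinv]
    show nf A B z _ * nf A B z _ = nf A B z _
    rw [mul]
    congr 2
    · ring
    · congr 1
      ring
  have h3 : ∀ p : ZMod 3 × ZMod 3 × ZMod 3, ψ p * ψ p * ψ p = 1 := fun p => by
    simp only [ψ, mul]
    rw [show ((p.1 + p.1 + p.1, p.2.1 + p.2.1 + p.2.1,
      p.2.2 + p.2.2 + 2 * p.2.1 * p.1 + p.2.2 + 2 * (p.2.1 + p.2.1) * p.1) :
      ZMod 3 × ZMod 3 × ZMod 3) = (0, 0, 0) by revert p; decide]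
    exact hψ0
  have h1 : ψ (y.1 - x.1, y.2 - x.2, k) = 1 := by
    have hsq : (P x * P y) * (P x * P y) = 1 := by
      rw [hcomm.symm.mul_mul_mul_comm, sq_eq_one hE (hmem x), sq_eq_one hE (hmem y), one_mul]
    rw [hPP, hk] at hsq
    have := h3 (y.1 - x.1, y.2 - x.2, k)
    rwa [hsq, one_mul] at this
  set i := y.1 - x.1 with hi
  set j := y.2 - x.2 with hj
  have hij : i ≠ 0 ∨ j ≠ 0 := by
    by_contra h
    push Not at h
    exact hxy (Prod.ext (sub_eq_zero.1 h.1).symm (sub_eq_zero.1 h.2).symm)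
  simp only [ψ, nf] at h1
  have hAcB : Commute A B := by
    have back : ∀ {X : G} (n : ZMod 3), X ^ 3 = 1 → n ≠ 0 → ∀ Y : G, Commute (X ^ n.val) Y → Commute X Y := by
      intro X n hX hn Y hc
      have : X = (X ^ n.val) ^ n.val := by
        rw [← pow_mul, pow_val hX, show ((n.val * n.val : ℕ) : ZMod 3) = 1 by
          push_cast; rw [ZMod.natCast_zmod_val]; exact mul_self_eq_one n hn]
        exact (pow_one X).symm
      rw [this]; exact hc.pow_left _
    rcases eq_or_ne j 0 with hj0 | hj0
    · refine back i hA3 (hij.resolve_right fun h => h hj0) B ?_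
      rw [hj0, ZMod.val_zero, pow_zero, mul_one] at h1
      rw [mul_eq_one_iff_eq_inv.1 h1]
      exact (hzB.pow_left _).inv_left
    · refine (back j hB3 hj0 A ?_).symm
      have e := eq_inv_of_mul_eq_one_left h1
      rw [show B ^ j.val = (A ^ i.val)⁻¹ * (z ^ k.val)⁻¹ by rw [← e, inv_mul_cancel_left]]
      exact ((Commute.refl A).pow_left _).inv_left.mul_left (hzA.pow_left _).inv_left
  have hz1 : z = 1 := by
    rw [hzdef, mul_assoc (A⁻¹ * B⁻¹), hAcB.eq, mul_assoc, inv_mul_cancel_left, inv_mul_cancel]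
  rw [hz1, one_pow, mul_one] at h1
  have hi3 : ∀ n : ZMod 3, n = 0 ∨ n = 1 ∨ n = 2 := by decide
  have hA2 : A ^ 2 = c * a := by
    rw [← hA']; exact (inv_eq_of_mul_eq_one_left (by rw [← pow_succ]; exact hA3)).symm
  have hB2 : B ^ 2 = e * a := by
    rw [← hB']; exact (inv_eq_of_mul_eq_one_left (by rw [← pow_succ]; exact hB3)).symm
  have v1 : (1 : ZMod 3).val = 1 := rfl
  have v2 : (2 : ZMod 3).val = 2 := rfl
  have nAB : A ≠ B := fun h => hce (mul_left_cancel h ▸ Commute.refl c)
  have nA'B : c * a ≠ B := fun h => hpl (by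
    have he' : e = a * c * a := by rw [mul_assoc, h, hBdef, haa]
    rw [← he'])
  have nA : A ≠ 1 := fun h => hac (by
    have := mul_eq_one_iff_eq_inv.1 h
    rw [inv_eq hE hc] at this
    exact this ▸ Commute.refl a)
  have nB : B ≠ 1 := fun h => hae (by
    have := mul_eq_one_iff_eq_inv.1 h
    rw [inv_eq hE he] at this
    exact this ▸ Commute.refl a)
  have nA2 : c * a ≠ 1 := fun h => nA (inv_injective (by rw [hA', h, inv_one]))
  have nB2 : e * a ≠ 1 := fun h => nB (inv_injective (by rw [hB', h, inv_one]))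
  rcases hi3 i with h' | h' | h' <;> rcases hi3 j with h'' | h'' | h'' <;>
    simp only [h', h'', ZMod.val_zero, v1, v2, pow_zero, pow_one, mul_one, one_mul, hA2, hB2] at h1
  · exact hij.elim (fun k => k h') fun k => k h''
  · exact nB h1
  · exact nB2 h1
  · exact nA h1
  · exact nA'B (by rw [← hA', inv_eq_of_mul_eq_one_right h1])
  · refine nAB ?_
    rw [mul_eq_one_iff_eq_inv.1 h1, ← hB', inv_inv]
  · exact nA2 h1
  · refine nAB (Eq.symm ?_)
    rw [← hA'] at h1
    exact (inv_mul_eq_one.1 h1).symm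
  · refine nA'B ?_
    rw [mul_eq_one_iff_eq_inv.1 h1, mul_inv_rev, inv_eq hE ha, inv_eq hE he]

/-- A subset of the plane closed under third points has zero, one, three or nine points. -/
theorem closed_card : ∀ S : Finset (ZMod 3 × ZMod 3), (∀ x ∈ S, ∀ y ∈ S, -x - y ∈ S ∨ x = y) →
    S.card = 0 ∨ S.card = 1 ∨ S.card = 3 ∨ S.card = 9 := by decide +kernel

set_option synthInstance.maxSize 4000 in
set_option synthInstance.maxHeartbeats 200000 in
theorem closed_full : ∀ S : Finset (ZMod 3 × ZMod 3), (∀ x ∈ S, ∀ y ∈ S, -x - y ∈ S ∨ x = y) →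
    (0, 0) ∈ S → (1, 0) ∈ S → (0, 1) ∈ S → S.card = 9 := by decide +kernel

section Count

variable {ι : Type*} [Fintype ι] [DecidableEq ι]

open scoped Classical in
/-- First and second moments of an incidence relation. -/
theorem moments (U : Finset G) (P : ι → G) :
    (∑ h ∈ U, (Finset.univ.filter fun x => Commute h (P x)).card =
      ∑ x, (U.filter fun h => Commute h (P x)).card) ∧
    ∑ h ∈ U, (Finset.univ.filter fun x => Commute h (P x)).card ^ 2 =
      ∑ x, ∑ y, (U.filter fun h => Commute h (P x) ∧ Commute h (P y)).card := by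
  constructor
  · simp only [Finset.card_eq_sum_ones, Finset.sum_filter]
    exact Finset.sum_comm
  · simp only [Finset.card_eq_sum_ones, Finset.sum_filter, sq, Finset.sum_mul, Finset.mul_sum, ite_mul, one_mul,
      zero_mul, ← ite_and]
    rw [Finset.sum_comm]
    refine Finset.sum_congr rfl fun x _ => ?_
    rw [Finset.sum_comm]
    refine Finset.sum_congr rfl fun y _ => Finset.sum_congr rfl fun h _ => ?_
    by_cases h1 : Commute h (P x) <;> by_cases h2 : Commute h (P y) <;> simp [h1, h2]

open scoped Classical in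
theorem second_moment_eq (U : Finset G) (P : ι → G) {k μ : ℕ} (hk : ∀ x, (U.filter fun h => Commute h (P x)).card = k)
    (hμ : ∀ x y, x ≠ y → (U.filter fun h => Commute h (P x) ∧ Commute h (P y)).card = μ) :
    ∑ x, ∑ y, (U.filter fun h => Commute h (P x) ∧ Commute h (P y)).card =
      Fintype.card ι * (k + (Fintype.card ι - 1) * μ) := by
  have : ∀ x, ∑ y, (U.filter fun h => Commute h (P x) ∧ Commute h (P y)).card = k + (Fintype.card ι - 1) * μ := by
    intro x
    rw [← Finset.add_sum_erase _ _ (Finset.mem_univ x),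
      Finset.sum_congr rfl (fun y hy => hμ x y (Ne.symm (Finset.ne_of_mem_erase hy))), Finset.sum_const,
      Finset.card_erase_of_mem (Finset.mem_univ x), Finset.card_univ, smul_eq_mul]
    simp only [and_self, hk]
  rw [Finset.sum_congr rfl (fun x _ => this x), Finset.sum_const, Finset.card_univ, smul_eq_mul]

open scoped Classical in
/-- The members of `U` commuting with no point of a line. -/
theorem line_zero (hE : IsThreeTranspositionSet D) {a c : G} (ha : a ∈ D) (hc : c ∈ D) (hac : ¬ Commute a c)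
    (U : Finset G) {k μ : ℕ}
    (hk : ∀ x : Fin 3, (U.filter fun h => Commute h (![a, c, a * c * a] x)).card = k)
    (hμ : ∀ x y : Fin 3, x ≠ y →
      (U.filter fun h => Commute h (![a, c, a * c * a] x) ∧ Commute h (![a, c, a * c * a] y)).card = μ) :
    3 * (U.filter fun h => ¬ Commute h a ∧ ¬ Commute h c ∧ ¬ Commute h (a * c * a)).card + 9 * k =
      3 * U.card + 6 * μ := by
  set P : Fin 3 → G := ![a, c, a * c * a] with hP
  have ha2 := sq_eq_one hE ha
  have hc2 := sq_eq_one hE hc
  have e1 : c = a * (a * c * a) * a := by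
    calc c = (a * a) * c * (a * a) := by rw [ha2, one_mul, mul_one]
      _ = _ := by simp only [mul_assoc]
  have e2 : a = c * (a * c * a) * c := by
    rw [third_eq hE ha hc hac]
    calc a = (c * c) * a * (c * c) := by rw [hc2, one_mul, mul_one]
      _ = _ := by simp only [mul_assoc]
  have hval : ∀ h, (Finset.univ.filter fun x => Commute h (P x)).card = 0 ∨
      (Finset.univ.filter fun x => Commute h (P x)).card = 1 ∨
      (Finset.univ.filter fun x => Commute h (P x)).card = 3 := by
    intro h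
    rw [Finset.card_filter, Fin.sum_univ_three]
    by_cases h0 : Commute h a <;> by_cases h1 : Commute h c <;> by_cases h2 : Commute h (a * c * a) <;>
      simp [hP, h0, h1, h2]
    · exact h2 (commute_third hE h0 h1)
    · exact h1 (e1 ▸ (h0.mul_right h2).mul_right h0)
    · exact h0 (e2 ▸ (h1.mul_right h2).mul_right h1)
  have hpt : ∀ h, (if ¬ Commute h a ∧ ¬ Commute h c ∧ ¬ Commute h (a * c * a) then 3 else 0) +
      4 * (Finset.univ.filter fun x => Commute h (P x)).card =
      3 + (Finset.univ.filter fun x => Commute h (P x)).card ^ 2 := by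
    intro h
    have hz : (¬ Commute h a ∧ ¬ Commute h c ∧ ¬ Commute h (a * c * a)) ↔
        (Finset.univ.filter fun x => Commute h (P x)).card = 0 := by
      simp [Finset.card_eq_zero, Finset.filter_eq_empty_iff, hP, Fin.forall_fin_succ]
    rcases hval h with e | e | e <;> simp [hz, e]
  have hs := Finset.sum_congr (rfl : U = U) fun h _ => hpt h
  rw [Finset.sum_add_distrib, Finset.sum_add_distrib, ← Finset.sum_filter, Finset.sum_const, Finset.sum_const,
    smul_eq_mul, smul_eq_mul, ← Finset.mul_sum, (moments U P).1, (moments U P).2, second_moment_eq U P hk hμ,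
    Finset.sum_congr rfl (fun x _ => hk x)] at hs
  simp only [Finset.sum_const, Finset.card_univ, Fintype.card_fin, smul_eq_mul] at hs
  omega

open scoped Classical in
/-- A bound for the members commuting with all nine points of a plane. -/
theorem plane_bound (hE : IsThreeTranspositionSet D) {P : ZMod 3 × ZMod 3 → G} (hP : IsPlane D P) (U : Finset G)
    {k μ : ℕ} (hk : ∀ x, (U.filter fun h => Commute h (P x)).card = k)
    (hμ : ∀ x y, x ≠ y → (U.filter fun h => Commute h (P x) ∧ Commute h (P y)).card = μ) :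
    9 * k + 16 * (U.filter fun h => Commute h (P (0, 0)) ∧ Commute h (P (1, 0)) ∧ Commute h (P (0, 1))).card ≤
      U.card + 24 * μ := by
  have hclosed : ∀ h, ∀ x ∈ Finset.univ.filter (fun x => Commute h (P x)),
      ∀ y ∈ Finset.univ.filter (fun x => Commute h (P x)),
      -x - y ∈ Finset.univ.filter (fun x => Commute h (P x)) ∨ x = y := by
    intro h x hx y hy
    left
    simp only [Finset.mem_filter, Finset.mem_univ, true_and] at hx hy ⊢
    rw [← hP.line]
    exact commute_third hE hx hy
  have hpt : ∀ h, (if Commute h (P (0, 0)) ∧ Commute h (P (1, 0)) ∧ Commute h (P (0, 1)) then 48 else 0) +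
      4 * (Finset.univ.filter fun x => Commute h (P x)).card ≤
      3 + (Finset.univ.filter fun x => Commute h (P x)).card ^ 2 := by
    intro h
    have hc := closed_card _ (hclosed h)
    split_ifs with h9
    · have hall := closed_full _ (hclosed h) (by simpa using h9.1) (by simpa using h9.2.1) (by simpa using h9.2.2)
      rw [hall]; norm_num
    · rcases hc with e | e | e | e <;> rw [e] <;> norm_num
  have hs := Finset.sum_le_sum (s := U) fun h _ => hpt h
  rw [Finset.sum_add_distrib, Finset.sum_add_distrib, ← Finset.sum_filter, Finset.sum_const, Finset.sum_const,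
    smul_eq_mul, smul_eq_mul, ← Finset.mul_sum, (moments U P).1, (moments U P).2, second_moment_eq U P hk hμ,
    Finset.sum_congr rfl (fun x _ => hk x)] at hs
  simp only [Finset.sum_const, Finset.card_univ, Fintype.card_prod, ZMod.card, smul_eq_mul] at hs
  omega

end Count

end Cfsg.Lib.ThreeTr
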