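import Cfsg.Agent.ThreeTransposition.M22Count.Local
import Cfsg.Agent.ThreeTransposition.M22Count.Plane
import Cfsg.Agent.ThreeTransposition.M22Hexad

/-!
The commuting graph of a class of type M(22): the constants, a window for the number `μ` of members commuting with
two noncommuting ones, and the inequality from planes.
-/

set_option autoImplicit false
set_option linter.unusedSectionVars false
set_option linter.style.haveILetI false

namespace Cfsg.Lib.ThreeTr

open Cfsg Subgroup

attribute [local instance] _root_.Classical.propDecidable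

universe u

variable {G : Type u} [Group G] {D : Set G}

theorem conj_image_inter (hD : IsThreeTranspositionClass D) (g p q : G) :
    (fun x => g * x * g⁻¹) '' (perp D p ∩ perp D q) = perp D (g * p * g⁻¹) ∩ perp D (g * q * g⁻¹) := by
  rw [Set.image_inter (conj_image_injective g), conj_image_perp hD, conj_image_perp hD]

/-- The members commuting with `p`, other than `p`, as a finset. -/
noncomputable def nb [Finite G] (D : Set G) (p : G) : Finset G := (Set.toFinite (perp D p)).toFinset

theorem mem_nb [Finite G] {p x : G} : x ∈ nb D p ↔ x ∈ perp D p := Set.Finite.mem_toFinset _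

/-- All members, as a finset. -/
noncomputable def mem' [Finite G] (D : Set G) : Finset G := (Set.toFinite D).toFinset

theorem mem_mem' [Finite G] {x : G} : x ∈ mem' D ↔ x ∈ D := Set.Finite.mem_toFinset _

theorem card_filter_nb [Finite G] (p : G) (P : G → Prop) [DecidablePred P] :
    ((nb D p).filter fun y => P y).card = ({y : G | y ∈ perp D p ∧ P y}).ncard := by
  rw [← Set.ncard_coe_finset]
  congr 1
  ext y
  simp [mem_nb]

namespace M22

variable [Finite G] (h : M22 D)
include h

theorem exists_pair : Rich D := by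
  obtain ⟨-, d, hd, -⟩ := h.type
  obtain ⟨x, hx⟩ := Set.nonempty_of_ncard_ne_zero (s := perp D d) (by rw [h.ncard_perp hd]; norm_num)
  exact ⟨h.cls, h.prim, d, hd, x, hx.1, hx.2.1.symm, hx.2.2⟩

theorem card_nb {p : G} (hp : p ∈ D) : (nb D p).card = 693 := by
  rw [← h.ncard_perp hp, nb, Set.ncard_eq_toFinset_card (perp D p) (Set.toFinite _)]

theorem nb_one {p x : G} (hp : p ∈ D) (hx : x ∈ perp D p) : ((nb D p).filter fun y => Commute y x).card = 181 := by
  rw [card_filter_nb, h.ncard_one hp hx]

theorem nb_two {p x y : G} (hp : p ∈ D) (hx : x ∈ perp D p) (hy : y ∈ perp D p) (hne : x ≠ y) (hc : Commute x y) :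
    ((nb D p).filter fun z => Commute z x ∧ Commute z y).card = 53 := by
  rw [card_filter_nb, h.ncard_two hp hx hy hne hc]

theorem nb_pair {p x y : G} (hp : p ∈ D) (hx : x ∈ perp D p) (hy : y ∈ perp D p) (hc : ¬ Commute x y) :
    ((nb D p).filter fun z => Commute z x ∧ Commute z y).card = 45 := by
  rw [card_filter_nb, h.ncard_pair hp hx hy hc]

theorem card_comm {p : G} (hp : p ∈ D) : ((mem' D).filter fun y => Commute y p).card = 694 := by
  have e : (mem' D).filter (fun y => Commute y p) = insert p (nb D p) := by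
    ext y
    simp only [Finset.mem_filter, mem_mem', Finset.mem_insert, mem_nb]
    constructor
    · rintro ⟨hy, hc⟩
      by_cases e : y = p
      · exact Or.inl e
      · exact Or.inr ⟨hy, e, hc.symm⟩
    · rintro (rfl | ⟨hy, -, hc⟩)
      · exact ⟨hp, Commute.refl _⟩
      · exact ⟨hy, hc.symm⟩
  rw [e, Finset.card_insert_of_notMem (fun hh => (mem_nb.1 hh).2.1 rfl), h.card_nb hp]

theorem common_pair {a c : G} (ha : a ∈ D) (hc : c ∈ D) (hac : ¬ Commute a c) :
    ((mem' D).filter fun y => Commute y a ∧ Commute y c).card = (perp D a ∩ perp D c).ncard := by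
  rw [← Set.ncard_coe_finset]
  congr 1
  ext y
  simp only [Finset.coe_filter, mem_mem', Set.mem_ofPred_eq, Set.mem_inter_iff]
  constructor
  · rintro ⟨hy, h1, h2⟩
    exact ⟨⟨hy, fun e => hac (e ▸ h2), h1.symm⟩, hy, fun e => hac (e ▸ h1).symm, h2.symm⟩
  · rintro ⟨⟨hy, -, h1⟩, -, -, h2⟩
    exact ⟨hy, h1.symm, h2.symm⟩

/-- All noncommuting pairs have equally many common neighbours. -/
theorem inter_const {a c a' c' : G} (ha : a ∈ D) (hc : c ∈ D) (hac : ¬ Commute a c) (ha' : a' ∈ D) (hc' : c' ∈ D)
    (hac' : ¬ Commute a' c') :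
    ∃ g : G, g * a * g⁻¹ = a' ∧ g * c * g⁻¹ = c' := by
  obtain ⟨g₁, hg₁⟩ := exists_conj h.cls ha ha'
  have hn : ¬ Commute a' (g₁ * c * g₁⁻¹) := fun e => hac ((conj_commute_iff g₁ a c).1 (by rwa [hg₁]))
  obtain ⟨g₂, hg₂a, hg₂⟩ := h.exists_pair.nonperp_transitive ha' (conj_mem h.cls g₁ hc) hn hc' hac'
  refine ⟨g₂ * g₁, ?_, ?_⟩
  · calc g₂ * g₁ * a * (g₂ * g₁)⁻¹ = g₂ * (g₁ * a * g₁⁻¹) * g₂⁻¹ := by group
      _ = a' := by rw [hg₁, hg₂a.eq, mul_inv_cancel_right]
  · rw [← hg₂]; group

theorem inter_card_const {a c a' c' : G} (ha : a ∈ D) (hc : c ∈ D) (hac : ¬ Commute a c) (ha' : a' ∈ D)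
    (hc' : c' ∈ D) (hac' : ¬ Commute a' c') :
    (perp D a ∩ perp D c).ncard = (perp D a' ∩ perp D c').ncard := by
  obtain ⟨g, rfl, rfl⟩ := h.inter_const ha hc hac ha' hc' hac'
  rw [← conj_image_inter h.cls, Set.ncard_image_of_injective _ (conj_image_injective g)]

variable {a c : G} (ha : a ∈ D) (hc : c ∈ D) (hac : ¬ Commute a c)
include ha hc hac

/-- Counting the paths of length two. -/
theorem paths : ((mem' D).filter fun e => ¬ Commute a e).card * (perp D a ∩ perp D c).ncard = 354816 := by
  set N := (mem' D).filter fun e => ¬ Commute a e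
  have h1 : ∀ x ∈ nb D a, (N.filter fun e => Commute x e).card = 512 := by
    intro x hx
    rw [mem_nb] at hx
    have e : (nb D x).filter (fun e => ¬ Commute e a) = N.filter fun e => Commute x e := by
      ext e
      simp only [Finset.mem_filter, mem_nb, N, mem_mem']
      constructor
      · rintro ⟨⟨he, -, hxe⟩, hea⟩
        exact ⟨⟨he, fun h' => hea h'.symm⟩, hxe⟩
      · rintro ⟨⟨he, hae⟩, hxe⟩
        exact ⟨⟨he, fun e' => hae (e' ▸ hx.2.2), hxe⟩, fun h' => hae h'.symm⟩
    rw [← e]
    have := Finset.card_filter_add_card_filter_not (s := nb D x) (fun e => Commute e a)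
    rw [h.nb_one hx.1 (show a ∈ perp D x from ⟨ha, hx.2.1.symm, hx.2.2.symm⟩), h.card_nb hx.1] at this
    omega
  have h2 : ∀ e ∈ N, ((nb D a).filter fun x => Commute x e).card = (perp D a ∩ perp D c).ncard := by
    intro e he
    simp only [N, Finset.mem_filter, mem_mem'] at he
    rw [card_filter_nb, h.inter_card_const ha hc hac ha he.1 he.2]
    congr 1
    ext x
    simp only [Set.mem_ofPred_eq, Set.mem_inter_iff]
    exact ⟨fun ⟨hx, hxe⟩ => ⟨hx, hx.1, fun e' => he.2 (e' ▸ hx.2.2), hxe.symm⟩, fun ⟨hx, hx'⟩ => ⟨hx, hx'.2.2.symm⟩⟩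
  have key : ∑ x ∈ nb D a, (N.filter fun e => Commute x e).card =
      ∑ e ∈ N, ((nb D a).filter fun x => Commute x e).card := by
    simp only [Finset.card_eq_sum_ones, Finset.sum_filter]
    exact Finset.sum_comm
  rw [Finset.sum_congr rfl h1, Finset.sum_congr rfl h2, Finset.sum_const, Finset.sum_const, h.card_nb ha,
    smul_eq_mul, smul_eq_mul] at key
  exact key.symm

theorem card_members :
    (mem' D).card = ((mem' D).filter fun e => ¬ Commute a e).card + 694 := by
  have := Finset.card_filter_add_card_filter_not (s := mem' D) (fun e => Commute e a)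
  rw [h.card_comm ha] at this
  rw [← this, add_comm]
  congr 1
  exact congrArg Finset.card (Finset.filter_congr fun e _ => not_congr ⟨fun h => h.symm, fun h => h.symm⟩)

/-- Forty five neighbours inside. -/
theorem inner_degree {f : G} (hf : f ∈ perp D a ∩ perp D c) :
    ((nb D a ∩ nb D c).filter fun g => Commute g f).card = 46 := by
  have hfD := hf.1.1
  have haf : a ∈ perp D f := ⟨ha, hf.1.2.1.symm, hf.1.2.2.symm⟩
  have hcf : c ∈ perp D f := ⟨hc, hf.2.2.1.symm, hf.2.2.2.symm⟩
  have e : (nb D a ∩ nb D c).filter (fun g => Commute g f) =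
      insert f ((nb D f).filter fun g => Commute g a ∧ Commute g c) := by
    ext g
    simp only [Finset.mem_filter, Finset.mem_inter, Finset.mem_insert, mem_nb]
    constructor
    · rintro ⟨⟨hga, hgc⟩, hgf⟩
      by_cases e : g = f
      · exact Or.inl e
      · exact Or.inr ⟨⟨hga.1, e, hgf.symm⟩, hga.2.2.symm, hgc.2.2.symm⟩
    · rintro (rfl | ⟨⟨hg, -, hfg⟩, hga, hgc⟩)
      · exact ⟨hf, Commute.refl _⟩
      · exact ⟨⟨⟨hg, fun e => hac (e ▸ hgc), hga.symm⟩, hg, fun e => hac (e ▸ hga).symm, hgc.symm⟩, hfg.symm⟩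
  rw [e, Finset.card_insert_of_notMem (fun hh => (mem_nb.1 (Finset.mem_filter.1 hh).1).2.1 rfl),
    h.nb_pair hfD haf hcf hac]

theorem card_inter : (nb D a ∩ nb D c).card = (perp D a ∩ perp D c).ncard := by
  rw [← Set.ncard_coe_finset]
  congr 1
  ext x
  simp [mem_nb]

/-- The window for the number of common neighbours. -/
theorem window : 126 ≤ (perp D a ∩ perp D c).ncard ∧ (perp D a ∩ perp D c).ncard ≤ 198 := by
  have hpaths := h.paths ha hc hac
  have hM := h.card_inter ha hc hac
  set μ := (perp D a ∩ perp D c).ncard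
  set U := nb D a ∩ nb D c with hU
  have hμ0 : μ ≠ 0 := fun e => by simp [e] at hpaths
  have hsub : U ⊆ nb D a := Finset.inter_subset_left
  have hin : ∀ f ∈ U, (U.filter fun g => Commute g f).card = 46 := fun f hf => by
    simp only [hU, Finset.mem_inter, mem_nb] at hf
    exact h.inner_degree ha hc hac hf
  let b : G → ℕ := fun x => (U.filter fun g => Commute g x).card
  have hUD : ∀ f ∈ U, f ∈ perp D a := fun f hf => mem_nb.1 (hsub hf)
  -- first moment
  have m1 : ∑ x ∈ nb D a, b x = 181 * μ := by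
    have key : ∑ x ∈ nb D a, b x = ∑ g ∈ U, ((nb D a).filter fun x => Commute g x).card := by
      simp only [b, Finset.card_eq_sum_ones, Finset.sum_filter]
      exact Finset.sum_comm
    rw [key, Finset.sum_congr rfl (fun g hg => (congrArg Finset.card (Finset.filter_congr fun x _ =>
      (⟨fun h => h.symm, fun h => h.symm⟩ : Commute g x ↔ Commute x g))).trans (h.nb_one ha (hUD g hg))),
      Finset.sum_const, smul_eq_mul, hM, mul_comm]
  -- second moment
  have m2 : ∑ x ∈ nb D a, b x ^ 2 + 45 * 46 * μ + 53 * μ = 181 * μ + 53 * 46 * μ + 45 * μ * μ := by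
    have key : ∑ x ∈ nb D a, b x ^ 2 =
        ∑ f ∈ U, ∑ g ∈ U, ((nb D a).filter fun x => Commute f x ∧ Commute g x).card := by
      simp only [b, Finset.card_eq_sum_ones, Finset.sum_filter, sq, Finset.sum_mul, Finset.mul_sum, ite_mul,
        one_mul, zero_mul, ← ite_and]
      rw [Finset.sum_comm]
      refine Finset.sum_congr rfl fun x _ => ?_
      rw [Finset.sum_comm]
      refine Finset.sum_congr rfl fun y _ => Finset.sum_congr rfl fun h _ => ?_
      by_cases h1 : Commute x h <;> by_cases h2 : Commute y h <;> simp [h1, h2]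
    have hT : ∀ f ∈ U, ∑ g ∈ U, ((nb D a).filter fun x => Commute f x ∧ Commute g x).card + 45 * 46 + 53 =
        181 + 53 * 46 + 45 * μ := by
      intro f hf
      have hsym : ∀ g, ((nb D a).filter fun x => Commute f x ∧ Commute g x).card =
          ((nb D a).filter fun x => Commute x f ∧ Commute x g).card := fun g =>
        congrArg Finset.card (Finset.filter_congr fun x _ =>
          ⟨fun h => ⟨h.1.symm, h.2.symm⟩, fun h => ⟨h.1.symm, h.2.symm⟩⟩)
      have hfm : f ∈ U.filter fun g => Commute g f := Finset.mem_filter.2 ⟨hf, Commute.refl f⟩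
      rw [← Finset.sum_filter_add_sum_filter_not U (fun g => Commute g f), ← Finset.add_sum_erase _ _ hfm]
      have e1 : ∀ g ∈ (U.filter fun g => Commute g f).erase f,
          ((nb D a).filter fun x => Commute f x ∧ Commute g x).card = 53 := by
        intro g hg
        obtain ⟨hne, hg⟩ := Finset.mem_erase.1 hg
        obtain ⟨hgU, hgf⟩ := Finset.mem_filter.1 hg
        rw [hsym, h.nb_two ha (hUD f hf) (hUD g hgU) (Ne.symm hne) hgf.symm]
      have e2 : ∀ g ∈ U.filter (fun g => ¬ Commute g f),
          ((nb D a).filter fun x => Commute f x ∧ Commute g x).card = 45 := by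
        intro g hg
        obtain ⟨hgU, hgf⟩ := Finset.mem_filter.1 hg
        rw [hsym, h.nb_pair ha (hUD f hf) (hUD g hgU) fun h' => hgf h'.symm]
      have e0 : ((nb D a).filter fun x => Commute f x ∧ Commute f x).card = 181 := by
        rw [← h.nb_one ha (hUD f hf)]
        exact congrArg Finset.card (Finset.filter_congr fun x _ => ⟨fun h => h.1.symm, fun h => ⟨h.symm, h.symm⟩⟩)
      rw [Finset.sum_congr rfl e1, Finset.sum_congr rfl e2, e0, Finset.sum_const, Finset.sum_const, smul_eq_mul,
        smul_eq_mul, Finset.card_erase_of_mem hfm, hin f hf]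
      have := Finset.card_filter_add_card_filter_not (s := U) (fun g => Commute g f)
      rw [hin f hf, hM] at this
      omega
    have hs := Finset.sum_congr (rfl : U = U) hT
    rw [Finset.sum_add_distrib, Finset.sum_add_distrib, ← key, Finset.sum_const, Finset.sum_const, Finset.sum_const,
      smul_eq_mul, smul_eq_mul, smul_eq_mul, hM] at hs
    nlinarith [hs]
  have hb46 : ∀ f ∈ U, b f = 46 := hin
  have r1 : ∑ x ∈ nb D a \ U, b x + 46 * μ = 181 * μ := by
    rw [← m1, ← Finset.sum_sdiff hsub, Finset.sum_congr (s₁ := U) rfl hb46, Finset.sum_const, smul_eq_mul, hM, mul_comm μ]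
  have r2 : ∑ x ∈ nb D a \ U, b x ^ 2 + 2116 * μ = ∑ x ∈ nb D a, b x ^ 2 := by
    rw [← Finset.sum_sdiff hsub, Finset.sum_congr (s₁ := U) rfl (fun f hf => by rw [hb46 f hf]), Finset.sum_const,
      smul_eq_mul, hM]
    ring
  have hR : (nb D a \ U).card + μ = 693 := by
    rw [← hM, ← h.card_nb ha]
    exact Finset.card_sdiff_add_card_eq_card hsub
  have hcs := sq_sum_le_card_mul_sum_sq (s := nb D a \ U) (f := fun x => (b x : ℤ))
  zify at r1 r2 hR m2
  have q1 : (∑ x ∈ nb D a \ U, (b x : ℤ)) = 135 * μ := by linarith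
  have q2 : (∑ x ∈ nb D a \ U, (b x : ℤ) ^ 2) = 45 * μ * μ - 1620 * μ := by linarith
  have q3 : ((nb D a \ U).card : ℤ) = 693 - μ := by linarith
  rw [q1, q2, q3] at hcs
  have hpos : (0 : ℤ) < μ := by exact_mod_cast Nat.pos_of_ne_zero hμ0
  have key : (693 - (μ : ℤ)) * (45 * μ - 1620) ≥ 18225 * μ := by
    refine le_of_mul_le_mul_left ?_ hpos
    nlinarith
  constructor
  · by_contra hlt
    push Not at hlt
    have : (μ : ℤ) ≤ 125 := by exact_mod_cast Nat.le_of_lt_succ hlt
    nlinarith
  · by_contra hlt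
    push Not at hlt
    have : (199 : ℤ) ≤ μ := by exact_mod_cast hlt
    nlinarith

/-- The members off a line. -/
theorem line_off :
    3 * ((mem' D).filter fun e => ¬ Commute e a ∧ ¬ Commute e c ∧ ¬ Commute e (a * c * a)).card + 9 * 694 =
      3 * (mem' D).card + 6 * (perp D a ∩ perp D c).ncard := by
  have hd : a * c * a ∈ D := by simpa [inv_eq h.cls.1 ha] using conj_mem h.cls a hc
  have hl : ∀ x : Fin 3, ![a, c, a * c * a] x ∈ D := by
    intro x; fin_cases x <;> simp [ha, hc, hd]
  have hnc : ∀ x y : Fin 3, x ≠ y → ¬ Commute (![a, c, a * c * a] x) (![a, c, a * c * a] y) := by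
    have n1 := not_commute_third h.cls.1 ha hc hac
    have n2 : ¬ Commute c (a * c * a) := by
      rw [third_eq h.cls.1 ha hc hac]; exact not_commute_third h.cls.1 hc ha fun h' => hac h'.symm
    have n3 : ¬ Commute c a := fun h' => hac h'.symm
    have n4 : ¬ Commute (a * c * a) a := fun h' => n1 h'.symm
    have n5 : ¬ Commute (a * c * a) c := fun h' => n2 h'.symm
    intro x y hxy
    fin_cases x <;> fin_cases y <;> simp_all
  exact line_zero h.cls.1 ha hc hac (mem' D) (fun x => h.card_comm (hl x)) fun x y hxy => by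
    rw [h.common_pair (hl x) (hl y) (hnc x y hxy)]
    exact h.inter_card_const (hl x) (hl y) (hnc x y hxy) ha hc hac

/-- The members off a line in the neighbourhood of a common neighbour. -/
theorem line_off_nb {f : G} (hf : f ∈ perp D a ∩ perp D c) :
    ((nb D f).filter fun e => ¬ Commute e a ∧ ¬ Commute e c ∧ ¬ Commute e (a * c * a)).card = 240 := by
  have haf : a ∈ perp D f := ⟨ha, hf.1.2.1.symm, hf.1.2.2.symm⟩
  have hcf : c ∈ perp D f := ⟨hc, hf.2.2.1.symm, hf.2.2.2.symm⟩
  have hdf : a * c * a ∈ perp D f := by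
    have := conj_mem_perp h.conj_D (subset_closure haf) hcf
    rwa [inv_eq h.cls.1 ha] at this
  have hl : ∀ x : Fin 3, ![a, c, a * c * a] x ∈ perp D f := by
    intro x; fin_cases x <;> simp [haf, hcf, hdf]
  have n1 := not_commute_third h.cls.1 ha hc hac
  have n2 : ¬ Commute c (a * c * a) := by
    rw [third_eq h.cls.1 ha hc hac]; exact not_commute_third h.cls.1 hc ha fun h' => hac h'.symm
  have n3 : ¬ Commute c a := fun h' => hac h'.symm
  have n4 : ¬ Commute (a * c * a) a := fun h' => n1 h'.symm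
  have n5 : ¬ Commute (a * c * a) c := fun h' => n2 h'.symm
  have hnc : ∀ x y : Fin 3, x ≠ y → ¬ Commute (![a, c, a * c * a] x) (![a, c, a * c * a] y) := by
    intro x y hxy
    fin_cases x <;> fin_cases y <;> simp_all
  have := line_zero h.cls.1 ha hc hac (nb D f) (fun x => h.nb_one hf.1.1 (hl x)) fun x y hxy =>
    h.nb_pair hf.1.1 (hl x) (hl y) (hnc x y hxy)
  rw [h.card_nb hf.1.1] at this
  omega

/-- The bound from the plane through `a`, `c` and a member off their line. -/
theorem plane_le {e : G} (he : e ∈ D) (hea : ¬ Commute e a) (hec : ¬ Commute e c)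
    (hed : ¬ Commute e (a * c * a)) :
    9 * 694 + 16 * ((mem' D).filter fun x => Commute x a ∧ Commute x c ∧ Commute x e).card ≤
      (mem' D).card + 24 * (perp D a ∩ perp D c).ncard := by
  obtain ⟨P, hP, h0, h1, h2⟩ := exists_plane h.cls.1 (fun g d hd => conj_mem h.cls g hd) ha hc he hac
    (fun h' => hea h'.symm) (fun h' => hec h'.symm) fun h' => hed h'.symm
  have := plane_bound h.cls.1 hP (mem' D) (fun x => h.card_comm (hP.mem x)) (μ := (perp D a ∩ perp D c).ncard)
    fun x y hxy => by
      rw [h.common_pair (hP.mem x) (hP.mem y) (hP.ncomm x y hxy)]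
      exact h.inter_card_const (hP.mem x) (hP.mem y) (hP.ncomm x y hxy) ha hc hac
  rwa [h0, h1, h2] at this

/-- The incidences between the members off the line and the common neighbours. -/
theorem triple_sum :
    ∑ e ∈ (mem' D).filter (fun e => ¬ Commute e a ∧ ¬ Commute e c ∧ ¬ Commute e (a * c * a)),
      ((mem' D).filter fun x => Commute x a ∧ Commute x c ∧ Commute x e).card =
      240 * (perp D a ∩ perp D c).ncard := by
  set Z := (mem' D).filter (fun e => ¬ Commute e a ∧ ¬ Commute e c ∧ ¬ Commute e (a * c * a))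
  set U := (mem' D).filter (fun x => Commute x a ∧ Commute x c)
  have e1 : ∀ e, ((mem' D).filter fun x => Commute x a ∧ Commute x c ∧ Commute x e) =
      U.filter fun x => Commute x e := fun e => by
    simp only [U, Finset.filter_filter, and_assoc]
  have e2 : ∀ f ∈ U, (Z.filter fun e => Commute f e).card = 240 := by
    intro f hf
    simp only [U, Finset.mem_filter, mem_mem'] at hf
    have hfM : f ∈ perp D a ∩ perp D c :=
      ⟨⟨hf.1, fun e => hac (e ▸ hf.2.2), hf.2.1.symm⟩, hf.1, fun e => hac (e ▸ hf.2.1).symm, hf.2.2.symm⟩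
    rw [← h.line_off_nb ha hc hac hfM]
    congr 1
    ext e
    simp only [Z, Finset.mem_filter, mem_mem', mem_nb]
    constructor
    · rintro ⟨⟨he, h1, h2, h3⟩, hfe⟩
      exact ⟨⟨he, fun e' => h1 (e' ▸ hf.2.1), hfe⟩, h1, h2, h3⟩
    · rintro ⟨⟨he, -, hfe⟩, h1, h2, h3⟩
      exact ⟨⟨he, h1, h2, h3⟩, hfe⟩
  rw [Finset.sum_congr rfl (fun e _ => congrArg Finset.card (e1 e))]
  have key : ∑ e ∈ Z, (U.filter fun x => Commute x e).card = ∑ f ∈ U, (Z.filter fun e => Commute f e).card := by
    simp only [Finset.card_eq_sum_ones, Finset.sum_filter]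
    exact Finset.sum_comm
  rw [key, Finset.sum_congr rfl e2, Finset.sum_const, smul_eq_mul, h.common_pair ha hc hac, mul_comm]

omit h ha hc hac in
theorem candidates : ∀ μ ∈ Finset.Icc 126 198, 354816 % μ = 0 →
    16 * (240 * μ) + 6246 * (354816 / μ + 694 + 2 * μ - 2082) ≤
      (354816 / μ + 694 + 2 * μ - 2082) * (354816 / μ + 694 + 24 * μ) → μ = 126 ∨ μ = 192 ∨ μ = 198 := by
  decide +kernel

theorem mu_cases : (perp D a ∩ perp D c).ncard = 126 ∨ (perp D a ∩ perp D c).ncard = 192 ∨
    (perp D a ∩ perp D c).ncard = 198 := by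
  obtain ⟨hlo, hhi⟩ := h.window ha hc hac
  have hp := h.paths ha hc hac
  have hv := h.card_members ha hc hac
  have hl := h.line_off ha hc hac
  have ht := h.triple_sum ha hc hac
  have hs : ∀ e ∈ (mem' D).filter (fun e => ¬ Commute e a ∧ ¬ Commute e c ∧ ¬ Commute e (a * c * a)),
      6246 + 16 * ((mem' D).filter fun x => Commute x a ∧ Commute x c ∧ Commute x e).card ≤
        (mem' D).card + 24 * (perp D a ∩ perp D c).ncard := by
    intro e he
    simp only [Finset.mem_filter, mem_mem'] at he
    exact h.plane_le ha hc hac he.1 he.2.1 he.2.2.1 he.2.2.2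
  have hsum := Finset.sum_le_sum hs
  rw [Finset.sum_add_distrib, ← Finset.mul_sum, ht, Finset.sum_const, Finset.sum_const, smul_eq_mul, smul_eq_mul]
    at hsum
  set μ := (perp D a ∩ perp D c).ncard
  set m := ((mem' D).filter fun e => ¬ Commute a e).card
  set n₀ := ((mem' D).filter fun e => ¬ Commute e a ∧ ¬ Commute e c ∧ ¬ Commute e (a * c * a)).card
  have hm : 354816 / μ = m := by rw [← hp]; exact Nat.mul_div_cancel m (by omega)
  refine candidates μ (Finset.mem_Icc.2 ⟨hlo, hhi⟩) (by rw [← hp]; exact Nat.mul_mod_left m μ) ?_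
  rw [hm]
  have e0 : m + 694 + 2 * μ - 2082 = n₀ := by omega
  rw [e0, ← hv]
  linarith

/-- With the least value every plane has exactly eighteen members over it. -/
theorem plane_eq (hμ : (perp D a ∩ perp D c).ncard = 126) {e : G} (he : e ∈ D) (hea : ¬ Commute e a)
    (hec : ¬ Commute e c) (hed : ¬ Commute e (a * c * a)) :
    ((mem' D).filter fun x => Commute x a ∧ Commute x c ∧ Commute x e).card = 18 := by
  have hp := h.paths ha hc hac
  have hv := h.card_members ha hc hac
  have hl := h.line_off ha hc hac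
  have ht := h.triple_sum ha hc hac
  set Z := (mem' D).filter (fun e => ¬ Commute e a ∧ ¬ Commute e c ∧ ¬ Commute e (a * c * a))
  have hle : ∀ x ∈ Z, ((mem' D).filter fun y => Commute y a ∧ Commute y c ∧ Commute y x).card ≤ 18 := by
    intro x hx
    simp only [Z, Finset.mem_filter, mem_mem'] at hx
    have := h.plane_le ha hc hac hx.1 hx.2.1 hx.2.2.1 hx.2.2.2
    rw [hμ] at hp this
    omega
  by_contra hne
  have hlt : ∑ x ∈ Z, ((mem' D).filter fun y => Commute y a ∧ Commute y c ∧ Commute y x).card < ∑ _x ∈ Z, 18 :=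
    Finset.sum_lt_sum hle ⟨e, by simp only [Z, Finset.mem_filter, mem_mem']; exact ⟨he, hea, hec, hed⟩,
      lt_of_le_of_ne (hle e (by simp only [Z, Finset.mem_filter, mem_mem']; exact ⟨he, hea, hec, hed⟩)) hne⟩
  rw [ht, Finset.sum_const, smul_eq_mul] at hlt
  rw [hμ] at hp hl hlt
  omega

end M22

end Cfsg.Lib.ThreeTr
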