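import Cfsg.Agent.ThreeTransposition.M22Count.SixCounts
import Cfsg.Agent.Classical.Unitary.Decomp

/-!
In a hermitian space of dimension six over the field with four elements the stabiliser of an isotropic point is
generated, up to scalars, by the transvections at the isotropic vectors orthogonal to it.
-/

set_option autoImplicit false
set_option linter.unusedSectionVars false
set_option linter.style.haveILetI false

namespace Cfsg.Lib.ThreeTr

open Cfsg Subgroup Cfsg.Lib.Classical Cfsg.Lib.TTUnitary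

universe u v

variable {F : Type u} [Field F] {V : Type v} [AddCommGroup V] [Module F V] {H : HermSpace F V}

namespace IsSixSpace

variable (hS : IsSixSpace H)
include hS

/-- The group generated by the transvections at isotropic vectors orthogonal to `a`. -/
noncomputable def pointGroup (a : V) : Subgroup H.SIsom :=
  closure {t | ∃ (w : V) (hw : H.h w w = 0), H.h w a = 0 ∧ t = hS.tv hw}

theorem tv_mem_pointGroup {a w : V} (hw : H.h w w = 0) (h : H.h w a = 0) : hS.tv hw ∈ hS.pointGroup a :=
  subset_closure ⟨w, hw, h, rfl⟩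

theorem pointGroup_fix {a : V} {k : H.SIsom} (hk : k ∈ hS.pointGroup a) : k.1.1 a = a := by
  induction hk using closure_induction with
  | mem t ht =>
    obtain ⟨w, hw, h, rfl⟩ := ht
    rw [hS.tv_apply hw, H.eq_zero_symm h, zero_smul, add_zero]
  | one => rfl
  | mul x y _ _ hx hy => rw [HermSpace.smul_mul_apply, hy, hx]
  | inv x _ hx =>
    conv_lhs => rw [← hx]
    exact H.inv_apply_self x.1 a

/-- A scalar transformation of determinant one. -/
theorem exists_center_scalar [Finite F] {c : F} (hc : c ≠ 0) :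
    ∃ z ∈ center H.SIsom, ∀ x, z.1.1 x = c • x := by
  haveI := hS.fd
  have hN : c * H.σ c = 1 := hS.norm c hc
  have hσ : H.σ c = c * c := by
    by_cases h1 : c = 1
    · subst h1; rw [map_one, one_mul]
    have hσc0 : H.σ c ≠ 0 := (map_ne_zero _).2 hc
    have hsne : 1 + c ≠ 0 := fun e => h1 (hS.toFour.eq_of_add e).symm
    have h2 := hS.norm (1 + c) hsne
    rw [map_add, map_one] at h2
    -- `1 + c + σ c = 0`
    have h3 : H.σ c = 1 + c := by linear_combination h2 - hN - (1 + c) * hS.two
    have h4 : c * (1 + c) = 1 := by rw [← h3]; exact hN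
    rw [h3]; linear_combination -h4 + c * hS.two
  have h3 : c * (c * c) = 1 := by rw [← hσ]; exact hN
  have h6 : c ^ Module.finrank F V = 1 := by
    rw [hS.dim]; linear_combination (c * (c * c) + 1) * h3
  let g : H.Isom := ⟨LinearEquiv.smulOfUnit (Units.mk0 c hc), fun x y => by
    change H.h (c • x) (c • y) = H.h x y
    rw [H.smul_left, H.smul_right, ← mul_assoc, hN, one_mul]⟩
  have hg : g ∈ H.SIsom := by
    rw [HermSpace.mem_SIsom]
    apply Units.ext
    rw [LinearEquiv.coe_det, Units.val_one]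
    change LinearMap.det (c • (LinearMap.id : V →ₗ[F] V)) = 1
    rw [LinearMap.det_smul, LinearMap.det_id, mul_one, h6]
  exact ⟨⟨g, hg⟩, (H.mem_center_SIsom_iff (by rw [hS.dim]; norm_num)).2 ⟨c, hN, h6, fun _ => rfl⟩, fun _ => rfl⟩

/-- Moving a partner by an isotropic vector of the orthogonal complement. -/
theorem partner_step {a u u' : V} (p : Pair H ⊤ a u) (p' : Pair H ⊤ a u')
    (hy : H.h (u' + u + H.h (u' + u) u • a) (u' + u + H.h (u' + u) u • a) = 0) :
    ∃ k ∈ hS.pointGroup a, k.1.1 u = u' := by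
  have hq := hS.toFour
  set δ := u' + u with hδ
  set α := H.h δ u with hα
  set y := δ + α • a with hydef
  have haa := p.iso_left
  have hδa : H.h δ a = 0 := by rw [hδ, H.add_left, p.flip, p'.flip]; exact hq.add_self 1
  have hya : H.h y a = 0 := by rw [hydef, H.add_left, H.smul_left, haa, hδa, mul_zero, add_zero]
  have hyu : H.h y u = 0 := by
    rw [hydef, H.add_left, H.smul_left, p.prod, mul_one, ← hα]; exact hq.add_self α
  have hay := H.eq_zero_symm hya
  have huy := H.eq_zero_symm hyu
  have hu' : u' = u + (α • a + y) := by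
    rw [hydef, ← add_assoc (α • a), add_comm (α • a) δ, hq.vadd_cancel, hδ, add_left_comm, hq.vadd_self, add_zero]
  have hiso : H.σ α = α := by
    have h0 := p'.iso_right
    rw [hu'] at h0
    simp only [H.add_left, H.add_right, H.smul_left, H.smul_right, haa, p.iso_right, p.prod, p.flip, hya, hay,
      hyu, huy, hy, mul_zero, mul_one, add_zero, zero_add] at h0
    exact hq.eq_of_add h0
  have hw : H.h (y + a) (y + a) = 0 := by
    simp only [H.add_left, H.add_right, hy, hya, hay, haa, add_zero]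
  have hwa : H.h (y + a) a = 0 := by rw [H.add_left, hya, haa, add_zero]
  have hk : (hS.tv haa * hS.tv hw).1.1 u = u + y := by
    rw [HermSpace.smul_mul_apply, hS.tv_apply hw, H.add_right, huy, p.flip, zero_add, one_smul,
      hS.tv_apply haa, H.add_left, H.add_left, p.flip, hya, haa, add_zero, add_zero, one_smul]
    rw [← add_assoc u y a, hq.vadd_cancel]
  have hkm : hS.tv haa * hS.tv hw ∈ hS.pointGroup a :=
    mul_mem (hS.tv_mem_pointGroup haa haa) (hS.tv_mem_pointGroup hw hwa)
  rcases hq.fixed_cases hiso with h0 | h1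
  · exact ⟨_, hkm, by rw [hk, hu', h0, zero_smul, zero_add]⟩
  · refine ⟨hS.tv haa * (hS.tv haa * hS.tv hw), mul_mem (hS.tv_mem_pointGroup haa haa) hkm, ?_⟩
    rw [HermSpace.smul_mul_apply, hk, hS.tv_apply haa, H.add_left, p.flip, hya, add_zero, one_smul, hu', h1,
      one_smul, add_assoc, add_comm y a]

/-- Transitivity on partners. -/
theorem partner_transitive [Finite F] {a u u' : V} (p : Pair H ⊤ a u) (p' : Pair H ⊤ a u') :
    ∃ k ∈ hS.pointGroup a, k.1.1 u = u' := by
  haveI := hS.fd
  have hq := hS.toFour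
  set δ := u' + u with hδ
  set y := δ + H.h δ u • a with hydef
  by_cases hy : H.h y y = 0
  · exact hS.partner_step p p' hy
  have hy1 := hS.self_eq_one hy
  have haa := p.iso_left
  have hδa : H.h δ a = 0 := by rw [hδ, H.add_left, p.flip, p'.flip]; exact hq.add_self 1
  have hyW : y ∈ perp2 H ⊤ a u := by
    have := p.proj_mem hq (x := δ) Submodule.mem_top
    rwa [hδa, zero_smul, add_zero] at this
  obtain ⟨θ, hθ⟩ := H.conj.exists_trace_one
  have hy0 : y ≠ 0 := fun e => hy (by rw [e, H.zero_left])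
  have hd : 2 ≤ Module.finrank F (perp2 H (⊤ : Submodule F V) a u) := by
    have := p.finrank hq
    rw [hS.finrank_top_eq] at this
    omega
  obtain ⟨z, hzW, hzz, hzy⟩ := exists_iso_prod hq (p.nondeg hq hS.nondegOn_top) hd hyW hy0 θ
  obtain ⟨-, hza, hzu⟩ := mem_perp2.mp hzW
  obtain ⟨-, hya, hyu⟩ := mem_perp2.mp hyW
  have haz := H.eq_zero_symm hza
  have huz := H.eq_zero_symm hzu
  have hay := H.eq_zero_symm hya
  have huy := H.eq_zero_symm hyu
  have hyz : H.h y z = H.σ θ := by rw [H.symm, hzy]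
  set u₂ := u + (y + z) with hu₂
  have hyzz : H.h (y + z) (y + z) = 0 := by
    simp only [H.add_left, H.add_right, hy1, hzz, hzy, hyz]
    linear_combination hθ + hS.two
  have p₂ : Pair H ⊤ a u₂ := ⟨Submodule.mem_top, Submodule.mem_top, haa, by
      rw [hu₂]; simp only [H.add_left, H.add_right, p.iso_right, huy, huz, hyu, hzu, zero_add]
      simpa only [H.add_left, H.add_right] using hyzz, by
      rw [hu₂, H.add_right, H.add_right, p.prod, hay, haz, add_zero, add_zero]⟩
  have hm1 : u₂ + u = y + z := by rw [hu₂, add_comm u, hq.vadd_cancel]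
  obtain ⟨k₁, hk₁, hk₁u⟩ := hS.partner_step p p₂ (by
    rw [hm1, H.add_left y z u, hyu, hzu, add_zero, zero_smul, add_zero]; exact hyzz)
  have hm2 : u' + u₂ = H.h δ u • a + z := by
    have hu'e : u' = δ + u := by rw [hδ, hq.vadd_cancel]
    have hδe : δ = y + H.h δ u • a := by rw [hydef, hq.vadd_cancel]
    rw [hu'e, hu₂]
    nth_rw 1 [hδe]
    rw [show y + H.h δ u • a + u + (u + (y + z)) = (y + y) + (u + u) + (H.h δ u • a + z) by abel, hq.vadd_self,
      hq.vadd_self, add_zero, zero_add]
  obtain ⟨k₂, hk₂, hk₂u⟩ := hS.partner_step p₂ p' (by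
    rw [hm2]
    simp only [H.add_left, H.add_right, H.smul_left, H.smul_right, haa, haz, hza, hzz, mul_zero, add_zero])
  exact ⟨k₂ * k₁, mul_mem hk₂ hk₁, by rw [HermSpace.smul_mul_apply, hk₁u, hk₂u]⟩

/-- Every transformation fixing `a` and a partner is in the group generated by the orthogonal transvections. -/
theorem fix_pair_mem [Finite F] {a u : V} (p : Pair H ⊤ a u) {g : H.SIsom} (ga : g.1.1 a = a)
    (gu : g.1.1 u = u) : g ∈ hS.pointGroup a := by
  haveI := hS.fd
  have hq := hS.toFour
  set W := perp2 H (⊤ : Submodule F V) a u with hW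
  have hWn : H.NondegOn W := p.nondeg hq hS.nondegOn_top
  have hWd : Module.finrank F W = 4 := by
    have : Module.finrank F W + 2 = 6 := (p.finrank hq).trans hS.finrank_top_eq
    omega
  have hgW : g.1 ∈ H.subStab W := H.mem_subStab_of_map_le fun x hx => by
    obtain ⟨-, hxa, hxu⟩ := mem_perp2.mp hx
    refine mem_perp2.mpr ⟨Submodule.mem_top, ?_, ?_⟩
    · conv_lhs => rw [← ga]
      rw [H.map_form, hxa]
    · conv_lhs => rw [← gu]
      rw [H.map_form, hxu]
  set HW := H.restrict W hWn with hHW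
  set g' : HW.Isom := (H.subStabRestrict W hWn ⟨g.1, hgW⟩).1 with hg'
  have hg'e : ∀ x : W, ((g'.1 x : W) : V) = g.1.1 (x : V) := fun x => rfl
  have hW4 : 4 ≤ Module.finrank F W := hWd.ge
  obtain ⟨v, hvW, hv1⟩ := exists_unit hWn (by omega)
  have hv' : HW.h ⟨v, hvW⟩ ⟨v, hvW⟩ = 1 := hv1
  set z : (normUnits H.σ).ker := ⟨HW.detHom g', HW.det_mem_norm_ker g'⟩ with hz
  -- after a quasireflection the restriction has determinant one
  set t := g' * (HW.qrefl hv' z)⁻¹ with ht
  have htS : t ∈ HW.SIsom := by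
    show HW.detHom t = 1
    rw [ht, map_mul, map_inv, show HW.detHom (HW.qrefl hv' z) = (z.1 : Fˣ) from HW.det_qrefl hv' z]
    exact mul_inv_cancel _
  have hSW : ∀ t : HW.SIsom, ∃ k ∈ hS.pointGroup a,
      (∀ x : W, k.1.1 (x : V) = ((t.1.1 x : W) : V)) ∧ k.1.1 a = a ∧ k.1.1 u = u := by
    have htop := (HermSpace.threeTransposition (H := HW) hW4 hS.two hS.norm).2.2
    intro t
    have ht : t ∈ closure HW.oneTransv := htop ▸ mem_top t
    induction ht using closure_induction with
    | mem t ht =>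
      obtain ⟨w, -, hw, hwe⟩ := ht
      have hwv : H.h (w : V) (w : V) = 0 := hw
      obtain ⟨-, hwa, hwu⟩ := mem_perp2.mp w.2
      refine ⟨hS.tv hwv, hS.tv_mem_pointGroup hwv hwa, fun x => ?_, ?_, ?_⟩
      · rw [hS.tv_apply hwv, hwe x]; rfl
      · rw [hS.tv_apply hwv, H.eq_zero_symm hwa, zero_smul, add_zero]
      · rw [hS.tv_apply hwv, H.eq_zero_symm hwu, zero_smul, add_zero]
    | one => exact ⟨1, one_mem _, fun x => rfl, rfl, rfl⟩
    | mul x y _ _ hx hy =>
      obtain ⟨k, hk, hkW, hka, hku⟩ := hx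
      obtain ⟨l, hl, hlW, hla, hlu⟩ := hy
      refine ⟨k * l, mul_mem hk hl, fun w => ?_, ?_, ?_⟩
      · rw [HermSpace.smul_mul_apply, hlW, hkW]; rfl
      · rw [HermSpace.smul_mul_apply, hla, hka]
      · rw [HermSpace.smul_mul_apply, hlu, hku]
    | inv x _ hx =>
      obtain ⟨k, hk, hkW, hka, hku⟩ := hx
      refine ⟨k⁻¹, inv_mem hk, fun w => ?_, ?_, ?_⟩
      · have := hkW ((x⁻¹).1.1 w)
        rw [show x.1.1 ((x⁻¹).1.1 w) = w from HW.apply_inv_self x.1 w] at this
        conv_lhs => rw [← this]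
        exact H.inv_apply_self k.1 _
      · conv_lhs => rw [← hka]
        exact H.inv_apply_self k.1 a
      · conv_lhs => rw [← hku]
        exact H.inv_apply_self k.1 u
  obtain ⟨k, hk, hkW, hka, hku⟩ := hSW ⟨t, htS⟩
  obtain ⟨-, hva, hvu⟩ := mem_perp2.mp hvW
  have hav := H.eq_zero_symm hva
  have huv := H.eq_zero_symm hvu
  have hge : g.1 = k.1 * H.qrefl hv1 z := by
    refine H.eq_of_fix_orth (p.swap.swap |> fun q => H.nondegOn_hyperbolic q.iso_left q.prod)
      (fun x hx => ?_) fun x hx => ?_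
    · obtain ⟨r, s, rfl⟩ := Submodule.mem_span_pair.mp hx
      rw [HermSpace.mul_apply', map_add, map_smul, map_smul, ga, gu,
        H.qrefl_orth hv1 z (x := r • a + s • u) (by rw [H.add_left, H.smul_left, H.smul_left, hav, huv,
          mul_zero, mul_zero, add_zero]), map_add, map_smul, map_smul, hka, hku]
    · have hxW : x ∈ W := mem_perp2.mpr ⟨Submodule.mem_top, (H.mem_orth_span.1 hx) a (by simp),
        (H.mem_orth_span.1 hx) u (by simp)⟩
      have e : g' = t * HW.qrefl hv' z := by rw [ht, inv_mul_cancel_right]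
      have := hg'e ⟨x, hxW⟩
      rw [e, HermSpace.mul_apply'] at this
      rw [HermSpace.mul_apply', ← this]
      have hmem : (H.qrefl hv1 z).1 x ∈ W := by
        rw [HermSpace.qrefl_apply]; exact W.add_mem hxW (W.smul_mem _ hvW)
      have e2 : ((HW.qrefl hv' z).1 ⟨x, hxW⟩ : W) = (⟨(H.qrefl hv1 z).1 x, hmem⟩ : W) := by
        refine Subtype.ext ?_
        exact (congrArg Subtype.val (HW.qrefl_apply hv' z ⟨x, hxW⟩)).trans (H.qrefl_apply hv1 z x).symm
      rw [e2]
      exact (hkW _).symm
  have hzone : (z.1 : Fˣ) = 1 := by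
    have h := congrArg H.detHom hge
    rw [map_mul, show H.detHom g.1 = 1 from g.2, show H.detHom k.1 = 1 from k.2, one_mul,
      show H.detHom (H.qrefl hv1 z) = (z.1 : Fˣ) from H.det_qrefl hv1 z] at h
    exact h.symm
  have hq1 : H.qrefl hv1 z = 1 := H.isom_ext fun x => by
    rw [HermSpace.qrefl_apply, hzone, Units.val_one, sub_self, zero_mul, zero_smul, add_zero]
    rfl
  rw [hq1, mul_one] at hge
  rwa [show g = k from Subtype.ext hge]

/-- The stabiliser of an isotropic point. -/
theorem point_stab [Finite F] {a : V} (ha0 : a ≠ 0) (ha : H.h a a = 0) {g : H.SIsom} {c : F} (hc : c ≠ 0)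
    (hg : g.1.1 a = c • a) : ∃ k ∈ hS.pointGroup a, ∃ z ∈ center H.SIsom, g = k * z := by
  haveI := hS.fd
  obtain ⟨z, hz, hzs⟩ := hS.exists_center_scalar hc
  obtain ⟨u, p⟩ := hS.exists_top_pair ha0 ha
  set g₁ := g * z⁻¹ with hg₁
  have hzi : ∀ x, (z⁻¹).1.1 (c • x) = x := fun x => by rw [← hzs]; exact H.inv_apply_self z.1 x
  have hg₁a : g₁.1.1 a = a := by
    have e1 : (z⁻¹).1.1 a = c⁻¹ • a := by
      have := hzi (c⁻¹ • a)
      rwa [smul_smul, mul_inv_cancel₀ hc, one_smul] at this
    rw [hg₁, HermSpace.smul_mul_apply, e1, map_smul, hg, smul_smul, inv_mul_cancel₀ hc, one_smul]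
  have p' : Pair H ⊤ a (g₁.1.1 u) := ⟨Submodule.mem_top, Submodule.mem_top, ha,
    by rw [H.map_form, p.iso_right], by
      conv_lhs => rw [← hg₁a]
      rw [H.map_form, p.prod]⟩
  obtain ⟨k, hk, hku⟩ := hS.partner_transitive p p'
  have hm := hS.fix_pair_mem p (g := k⁻¹ * g₁) (by
      rw [HermSpace.smul_mul_apply, hg₁a]
      conv_lhs => rw [← hS.pointGroup_fix hk]
      exact H.inv_apply_self k.1 a)
    (by rw [HermSpace.smul_mul_apply, ← hku]; exact H.inv_apply_self k.1 u)
  refine ⟨k * (k⁻¹ * g₁), mul_mem hk hm, z, hz, ?_⟩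
  rw [hg₁, mul_inv_cancel_left, inv_mul_cancel_right]

end IsSixSpace

end Cfsg.Lib.ThreeTr
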