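import Cfsg.Agent.ThreeTransposition.PSUSix.Lines
import Cfsg.Agent.ThreeTransposition.UnitaryRadical.Geometry
import Cfsg.Agent.Classical.ExtFieldU.RankOne

/-!
Numbers of isotropic vectors of a hermitian space of dimension six over the field with four elements, under
conditions of orthogonality to one or two given isotropic vectors.
-/

set_option autoImplicit false
set_option linter.unusedSectionVars false
set_option linter.style.haveILetI false

namespace Cfsg.Lib.ThreeTr

open Cfsg Cfsg.Lib.Classical Cfsg.Lib.TTUnitary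

universe u v

variable {F : Type u} [Field F] {V : Type v} [AddCommGroup V] [Module F V] {H : HermSpace F V}

namespace IsSixSpace

variable (hS : IsSixSpace H)
include hS

theorem toFour : Four H := ⟨hS.two, hS.norm⟩

theorem q_eq [Finite F] (h4 : Nat.card F = 4) : H.q = 2 := by
  have := H.card_field
  rw [h4] at this
  nlinarith

theorem nondegOn_top [Finite F] : H.NondegOn (⊤ : Submodule F V) := fun v _ h =>
  H.nondeg v fun x => h x Submodule.mem_top

/-- Isotropic vectors of a nondegenerate subspace, the zero vector among them. -/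
theorem iso_card [Finite F] (h4 : Nat.card F = 4) {U : Submodule F V} (hU : H.NondegOn U)
    (hd : 1 ≤ Module.finrank F U) :
    (2 : ℤ) * ({v : V | v ∈ U ∧ H.h v v = 0}).ncard =
      (2 : ℤ) ^ (2 * Module.finrank F U) + (-1) ^ Module.finrank F U * 2 ^ Module.finrank F U := by
  haveI := hS.fd
  have h := ExtFieldU.count_isotropic (H.restrict U hU) hd
  have hq : (H.restrict U hU).q = 2 := by
    rw [show (H.restrict U hU).q = H.q from rfl, hS.q_eq h4]
  rw [hq] at h
  have e : ({v : V | v ∈ U ∧ H.h v v = 0}).ncard = Nat.card {v : U // (H.restrict U hU).h v v = 0} := by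
    rw [← Nat.card_coe_set_eq]
    exact Nat.card_congr
      { toFun := fun v => ⟨⟨v.1, v.2.1⟩, v.2.2⟩
        invFun := fun v => ⟨v.1.1, v.1.2, v.2⟩
        left_inv := fun _ => rfl
        right_inv := fun _ => rfl }
  rw [e]
  push_cast at h
  linear_combination h

/-- Vectors orthogonal to an isotropic `a` are sums of a multiple of `a` and a vector off the pair. -/
theorem perp_split [Finite F] (h4 : Nat.card F = 4) {U : Submodule F V} {a b : V} (p : Pair H U a b)
    (P : V → Prop) (hP : ∀ (t : F) (w : V), P (t • a + w) ↔ P w) :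
    ({v : V | v ∈ U ∧ H.h v v = 0 ∧ H.h v a = 0 ∧ P v}).ncard =
      4 * ({w : V | w ∈ perp2 H U a b ∧ H.h w w = 0 ∧ P w}).ncard := by
  haveI := hS.fd
  haveI : Finite V := Module.finite_of_finite F
  have hq := hS.toFour
  set A := {v : V | v ∈ U ∧ H.h v v = 0 ∧ H.h v a = 0 ∧ P v}
  set B := {w : V | w ∈ perp2 H U a b ∧ H.h w w = 0 ∧ P w}
  have hsa : ∀ (t : F) {w : V}, w ∈ perp2 H U a b →
      H.h (t • a + w) (t • a + w) = H.h w w ∧ H.h (t • a + w) a = 0 ∧ H.h (t • a + w) b = t := by
    intro t w hw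
    obtain ⟨-, hwa, hwb⟩ := mem_perp2.mp hw
    refine ⟨?_, ?_, ?_⟩
    · simp only [H.add_left, H.add_right, H.smul_left, H.smul_right, p.iso_left, hwa, H.eq_zero_symm hwa,
        mul_zero, zero_add]
    · rw [H.add_left, H.smul_left, p.iso_left, hwa, mul_zero, add_zero]
    · rw [H.add_left, H.smul_left, p.prod, hwb, mul_one, add_zero]
  have hA : A = (fun z : F × V => z.1 • a + z.2) '' (Set.univ ×ˢ B) := by
    ext v
    constructor
    · rintro ⟨hvU, hvv, hva, hPv⟩
      set w := v + H.h v b • a with hw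
      have hwm : w ∈ perp2 H U a b := by
        have := p.proj_mem hq hvU
        rwa [hva, zero_smul, add_zero] at this
      have e : v = H.h v b • a + w := by
        rw [hw, add_left_comm, hq.vadd_self, add_zero]
      refine ⟨(H.h v b, w), ⟨Set.mem_univ _, hwm, ?_, ?_⟩, e.symm⟩
      · rw [← (hsa (H.h v b) hwm).1, ← e, hvv]
      · rw [← hP (H.h v b), ← e]; exact hPv
    · rintro ⟨⟨t, w⟩, ⟨-, hwm, hww, hPw⟩, rfl⟩
      obtain ⟨e1, e2, -⟩ := hsa t hwm
      exact ⟨U.add_mem (U.smul_mem _ p.mem_left) (mem_perp2.mp hwm).1, e1.trans hww, e2, (hP t w).2 hPw⟩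
  rw [hA, Set.InjOn.ncard_image, Set.ncard_prod, Set.ncard_univ, h4]
  rintro ⟨t, w⟩ ⟨-, hw, -⟩ ⟨t', w'⟩ ⟨-, hw', -⟩ e
  simp only at e
  have ht : t = t' := by
    have := congrArg (fun v => H.h v b) e
    simp only [(hsa t hw).2.2, (hsa t' hw').2.2] at this
    exact this
  subst ht
  rw [add_right_inj] at e
  rw [e]

theorem finrank_top_eq : Module.finrank F (⊤ : Submodule F V) = 6 := by rw [finrank_top, hS.dim]

/-- All isotropic vectors. -/
theorem iso_all [Finite F] (h4 : Nat.card F = 4) : ({v : V | H.h v v = 0}).ncard = 2080 := by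
  have h := hS.iso_card h4 hS.nondegOn_top (by rw [hS.finrank_top_eq]; norm_num)
  simp only [Submodule.mem_top, true_and, hS.finrank_top_eq] at h
  norm_num at h
  omega

theorem perp2_top [Finite F] (h4 : Nat.card F = 4) {a b : V} (p : Pair H ⊤ a b) :
    Module.finrank F (perp2 H ⊤ a b) = 4 ∧ H.NondegOn (perp2 H ⊤ a b) ∧
      ({v : V | v ∈ perp2 H ⊤ a b ∧ H.h v v = 0}).ncard = 136 := by
  haveI := hS.fd
  have hd : Module.finrank F (perp2 H ⊤ a b) = 4 := by
    have := p.finrank hS.toFour
    rw [hS.finrank_top_eq] at this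
    omega
  refine ⟨hd, p.nondeg hS.toFour hS.nondegOn_top, ?_⟩
  have h := hS.iso_card h4 (p.nondeg hS.toFour hS.nondegOn_top) (by omega)
  rw [hd] at h
  norm_num at h
  omega

theorem exists_top_pair [Finite F] {a : V} (ha0 : a ≠ 0) (ha : H.h a a = 0) : ∃ b, Pair H ⊤ a b := by
  haveI := hS.fd
  exact exists_pair hS.nondegOn_top Submodule.mem_top ha0 ha

/-- Isotropic vectors orthogonal to one. -/
theorem iso_one [Finite F] (h4 : Nat.card F = 4) {a : V} (ha0 : a ≠ 0) (ha : H.h a a = 0) :
    ({v : V | H.h v v = 0 ∧ H.h v a = 0}).ncard = 544 := by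
  obtain ⟨b, p⟩ := hS.exists_top_pair ha0 ha
  have h := hS.perp_split h4 p (fun _ => True) fun _ _ => Iff.rfl
  simp only [Submodule.mem_top, true_and, and_true] at h
  rw [h, (hS.perp2_top h4 p).2.2]

/-- Isotropic vectors orthogonal to two independent orthogonal ones. -/
theorem iso_two [Finite F] (h4 : Nat.card F = 4) {a c : V} (ha0 : a ≠ 0) (ha : H.h a a = 0) (hc : H.h c c = 0)
    (hac : H.h c a = 0) (hind : ∀ t : F, c ≠ t • a) :
    ({v : V | H.h v v = 0 ∧ H.h v a = 0 ∧ H.h v c = 0}).ncard = 160 := by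
  haveI := hS.fd
  have hq := hS.toFour
  obtain ⟨b, p⟩ := hS.exists_top_pair ha0 ha
  obtain ⟨hd4, hnd, -⟩ := hS.perp2_top h4 p
  set W := perp2 H (⊤ : Submodule F V) a b with hW
  set c' := c + H.h c b • a with hc'def
  have hc'W : c' ∈ W := by
    have := p.proj_mem hq (x := c) Submodule.mem_top
    rwa [hac, zero_smul, add_zero] at this
  have hc'0 : c' ≠ 0 := fun e => hind _ (hq.eq_of_vadd e)
  have hc'c' : H.h c' c' = 0 := by
    simp only [hc'def, H.add_left, H.add_right, H.smul_left, H.smul_right, ha, hc, hac, H.eq_zero_symm hac,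
      mul_zero, add_zero]
  have h := hS.perp_split h4 p (fun v => H.h v c = 0) fun t w => by
    rw [H.add_left, H.smul_left, H.eq_zero_symm hac, mul_zero, zero_add]
  simp only [Submodule.mem_top, true_and] at h
  rw [h]
  have e : {w : V | w ∈ W ∧ H.h w w = 0 ∧ H.h w c = 0} = {w : V | w ∈ W ∧ H.h w w = 0 ∧ H.h w c' = 0} := by
    ext w
    simp only [Set.mem_ofPred_eq]
    constructor
    · rintro ⟨h1, h2, h3⟩
      exact ⟨h1, h2, by rw [hc'def, H.add_right, H.smul_right, h3, (mem_perp2.mp h1).2.1, mul_zero, add_zero]⟩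
    · rintro ⟨h1, h2, h3⟩
      refine ⟨h1, h2, ?_⟩
      rwa [hc'def, H.add_right, H.smul_right, (mem_perp2.mp h1).2.1, mul_zero, add_zero] at h3
  rw [e]
  obtain ⟨d, p'⟩ := exists_pair hnd hc'W hc'0 hc'c'
  have hd2 : Module.finrank F (perp2 H W c' d) = 2 := by
    have := p'.finrank hq
    omega
  have h2 := hS.perp_split h4 p' (fun _ => True) fun _ _ => Iff.rfl
  have h3 := hS.iso_card h4 (p'.nondeg hq hnd) (by omega)
  rw [hd2] at h3
  simp only [and_true] at h2
  rw [h2]
  norm_num at h3
  omega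

/-- Isotropic vectors orthogonal to two nonorthogonal ones. -/
theorem iso_pair [Finite F] (h4 : Nat.card F = 4) {a b : V} (ha : H.h a a = 0) (hb : H.h b b = 0)
    (hab : H.h a b ≠ 0) : ({v : V | H.h v v = 0 ∧ H.h v a = 0 ∧ H.h v b = 0}).ncard = 136 := by
  have p : Pair H ⊤ a (H.h a b • b) := ⟨Submodule.mem_top, Submodule.mem_top, ha,
    by rw [hS.toFour.h_smul_smul hab, hb], by rw [H.smul_right, hS.toFour.norm_flip hab]⟩
  rw [← (hS.perp2_top h4 p).2.2]
  congr 1
  ext v
  simp only [Set.mem_ofPred_eq, mem_perp2, Submodule.mem_top, true_and, H.smul_right, mul_eq_zero,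
    H.conj.eq_zero, hab, false_or]
  tauto

/-- Orthogonal to all isotropic vectors orthogonal to a nonorthogonal pair: proportional to one of the three. -/
theorem double_perp_pair [Finite F] {a b w : V} (ha : H.h a a = 0) (hb : H.h b b = 0) (hab : H.h a b = 1)
    (hw : H.h w w = 0) (hw0 : w ≠ 0)
    (h : ∀ u, H.h u u = 0 → H.h u a = 0 → H.h u b = 0 → H.h u w = 0) :
    ∃ t : F, t ≠ 0 ∧ (w = t • a ∨ w = t • b ∨ w = t • (a + b)) := by
  haveI := hS.fd
  have hq := hS.toFour
  have p : Pair H ⊤ a b := ⟨Submodule.mem_top, Submodule.mem_top, ha, hb, hab⟩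
  set W := perp2 H (⊤ : Submodule F V) a b with hW
  have hnd : H.NondegOn W := p.nondeg hq hS.nondegOn_top
  have hd : Module.finrank F W = 4 := by
    have : Module.finrank F W + 2 = 6 := (p.finrank hq).trans hS.finrank_top_eq
    omega
  set w' := w + H.h w b • a + H.h w a • b with hw'def
  have hw'W : w' ∈ W := p.proj_mem hq Submodule.mem_top
  have hw'0 : w' = 0 := by
    by_contra hne
    obtain ⟨z, hz, hzz, hzw⟩ := exists_iso_prod hq hnd (by omega) hw'W hne 1
    obtain ⟨-, hza, hzb⟩ := mem_perp2.mp hz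
    rw [hw'def, H.add_right, H.add_right, H.smul_right, H.smul_right, hza, hzb, mul_zero, mul_zero, add_zero,
      add_zero, h z hzz hza hzb] at hzw
    exact zero_ne_one hzw
  have e : w = H.h w b • a + H.h w a • b := hq.eq_of_vadd (by rw [← add_assoc]; exact hw'0)
  set α := H.h w b
  set β := H.h w a
  by_cases hα : α = 0
  · refine ⟨β, fun hβ => hw0 ?_, Or.inr (Or.inl ?_)⟩
    · rw [e, hα, hβ, zero_smul, zero_smul, add_zero]
    · rw [e, hα, zero_smul, zero_add]
  by_cases hβ : β = 0
  · refine ⟨α, hα, Or.inl ?_⟩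
    rw [e, hβ, zero_smul, add_zero]
  have hba : H.h b a = 1 := p.flip
  have h1 : α * H.σ β + β * H.σ α = 0 := by
    have h0 := hw
    rw [e] at h0
    simp only [H.add_left, H.add_right, H.smul_left, H.smul_right, ha, hb, hab, hba, mul_zero, mul_one,
      zero_add, add_zero] at h0
    linear_combination h0
  have h2 := hS.norm α hα
  have h3 := hS.norm β hβ
  have h4 : α * α = β * β := by
    linear_combination (α * β) * h1 - (α * α) * h3 - (β * β) * h2 - (β * β) * hS.two
  have h5 : (α + β) * (α + β) = 0 := by linear_combination h4 + (α * β + β * β) * hS.two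
  have hαβ : α = β := hq.eq_of_add (mul_self_eq_zero.mp h5)
  refine ⟨α, hα, Or.inr (Or.inr ?_)⟩
  rw [e, ← hαβ, smul_add]

/-- The conjugate of a transvection by a nonorthogonal one. -/
theorem tv_conj_third {a b : V} (ha : H.h a a = 0) (hb : H.h b b = 0) (hab : H.h a b = 1)
    (hsum : H.h (a + b) (a + b) = 0) : hS.tv ha * hS.tv hb * hS.tv ha = hS.tv hsum := by
  have hq := hS.toFour
  have e : ∀ {v : V} (hv : H.h v v = 0), hS.tv hv = TTUnitary.tv hq v := fun {v} hv =>
    H.sisom_ext fun x => by rw [hS.tv_apply hv, TTUnitary.tv_apply hq hv]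
  rw [e ha, e hb, e hsum, tv_third hq ha hb (by rw [H.symm, hab, map_one]), add_comm]

end IsSixSpace

end Cfsg.Lib.ThreeTr
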