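import Cfsg.Agent.ThreeTransposition.M22Count.TorusSeven

/-!
An element of order five of the special unitary group of dimension six over the field with four elements: a
nondegenerate fixed plane with three isotropic points, and the elements commuting with it and fixing these points.
-/

set_option autoImplicit false
set_option linter.unusedSectionVars false
set_option linter.style.haveILetI false

namespace Cfsg.Lib.ThreeTr.Five

open Cfsg Subgroup Cfsg.Lib.Classical Cfsg.Lib.TTUnitary Polynomial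
open Cfsg.Lib.ThreeTr.Seven (lin lin_apply lin_pow lin_one)

universe u v

variable {F : Type u} [Field F] {V : Type v} [AddCommGroup V] [Module F V] {H : HermSpace F V}

/-- An isometry of order five. -/
structure IsFive (t : H.SIsom) : Prop where
  five : t ^ 5 = 1
  ne : t ≠ 1

/-- The fixed space. -/
noncomputable def Fx (t : H.SIsom) : Submodule F V := LinearMap.ker (aeval (lin t) (X - 1 : F[X]))

/-- The space of a quadratic factor. -/
noncomputable def Z (t : H.SIsom) (w : F) : Submodule F V :=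
  LinearMap.ker (aeval (lin t) (X ^ 2 + C w * X + 1 : F[X]))

theorem mem_Fx {t : H.SIsom} {x : V} : x ∈ Fx t ↔ t.1.1 x = x := by
  rw [Fx, LinearMap.mem_ker, map_sub, aeval_X, map_one, LinearMap.sub_apply, Module.End.one_apply, sub_eq_zero]
  rfl

theorem mem_Z {t : H.SIsom} {w : F} {x : V} : x ∈ Z t w ↔ t.1.1 (t.1.1 x) + w • t.1.1 x + x = 0 := by
  simp [Z, lin, sq, Module.End.mul_apply]

variable (hS : IsSixSpace H) [Finite F] (h4 : Nat.card F = 4) {t : H.SIsom} {ω : F}
include hS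

theorem sq_Z {x : V} (hx : x ∈ Z t ω) : t.1.1 (t.1.1 x) = ω • t.1.1 x + x := by
  have := mem_Z.1 hx
  rw [add_assoc] at this
  exact hS.toFour.eq_of_vadd this

theorem map_Z {s : H.SIsom} (hs : Commute s t) {x : V} (hx : x ∈ Z t ω) : s.1.1 x ∈ Z t ω := by
  have h : ∀ y, s.1.1 (t.1.1 y) = t.1.1 (s.1.1 y) := fun y => by
    rw [← HermSpace.smul_mul_apply, hs.eq, HermSpace.smul_mul_apply]
  rw [mem_Z] at hx ⊢
  rw [← h, ← h, ← map_smul, ← map_add, ← map_add, hx, map_zero]

theorem map_Fx {s : H.SIsom} (hs : Commute s t) {x : V} (hx : x ∈ Fx t) : s.1.1 x ∈ Fx t := by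
  rw [mem_Fx] at hx ⊢
  rw [← HermSpace.smul_mul_apply, ← hs.eq, HermSpace.smul_mul_apply, hx]

omit hS in
theorem exists_omega (hS : IsSixSpace H) (h4 : Nat.card F = 4) : ∃ w : F, w ≠ 0 ∧ w ≠ 1 ∧ w * w + w + 1 = 0 := by
  classical
  haveI := Fintype.ofFinite F
  obtain ⟨w, hw⟩ := Finset.card_pos.1 (show 0 < ((Finset.univ : Finset F) \ {0, 1}).card by
    rw [Finset.card_sdiff, Finset.inter_univ, Finset.card_univ, Fintype.card_eq_nat_card, h4]
    have := Finset.card_le_two (a := (0 : F)) (b := 1)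
    omega)
  simp at hw
  refine ⟨w, hw.1, hw.2, (mul_eq_zero.1 (show (w - 1) * (w * w + w + 1) = 0 from ?_)).resolve_left
    (sub_ne_zero.2 hw.2)⟩
  linear_combination (Seven.cube_cases h4 w).resolve_left hw.1

include h4
variable (hω : ω * ω + ω + 1 = 0)
include hω

theorem omega_ne : ω ≠ 0 ∧ ω ≠ 1 ∧ ω + 1 ≠ 0 := by
  refine ⟨?_, ?_, ?_⟩
  · rintro rfl; simp at hω
  · rintro rfl; exact one_ne_zero (α := F) (by linear_combination hω - hS.two)
  · intro e
    exact one_ne_zero (α := F) (by linear_combination hω - ω * e)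

theorem conj_omega : H.σ ω + ω = 1 := by
  have h1 := hS.norm ω (omega_ne hS h4 hω).1
  have h2 : ω * (ω + 1) = 1 := by linear_combination hω - hS.two
  have : ω * (H.σ ω - (ω + 1)) = 0 := by linear_combination h1 - h2
  have := (mul_eq_zero.1 this).resolve_left (omega_ne hS h4 hω).1
  linear_combination this + ω * hS.two

omit hω in
theorem iso_Z (hw : H.σ ω + ω = 1) (ht5 : t ^ 5 = 1) : ∀ x ∈ Z t ω, ∀ y ∈ Z t ω, H.h x y = 0 := by
  set T := t.1.1
  have h : ∀ x y, H.h (T x) (T y) = H.h x y := H.map_form t.1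
  have one : ∀ u ∈ Z t ω, ∀ v ∈ Z t ω, H.h (T u) v = 0 := by
    intro u hu v hv
    have e : H.h u v = H.h (T (T u)) (T (T v)) := by rw [h, h]
    rw [sq_Z hS hv, H.add_right, H.smul_right, h, sq_Z hS hu, H.add_left, H.smul_left] at e
    linear_combination -(H.h (T u) v) * hw - e
  intro u hu v hv
  have hc : Commute (t ^ 4) t := (Commute.refl t).pow_left 4
  have := one _ (map_Z hS hc hu) v hv
  rwa [show T ((t ^ 4).1.1 u) = u by
    show t.1.1 ((t ^ 4).1.1 u) = u
    rw [← HermSpace.smul_mul_apply, ← pow_succ', ht5]; rfl] at this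

theorem orth_Fx {x y : V} (hx : x ∈ Fx t) (hy : y ∈ Z t ω) : H.h x y = 0 := by
  have h := H.map_form t.1
  have hx' := mem_Fx.1 hx
  have e1 : H.h x (t.1.1 y) = H.h x y := by conv_lhs => rw [← hx', h]
  have e2 : H.h x (t.1.1 (t.1.1 y)) = H.h x y := by conv_lhs => rw [← hx', h, e1]
  rw [sq_Z hS hy, H.add_right, H.smul_right, e1] at e2
  have hw := conj_omega hS h4 hω
  have hne : H.σ ω ≠ 0 := (_root_.map_ne_zero _).2 (omega_ne hS h4 hω).1
  exact (mul_eq_zero.1 (show H.σ ω * H.h x y = 0 by linear_combination e2)).resolve_left hne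

/-- A nonzero vector of a quadratic space and its image. -/
theorem pair_indep {x : V} (hx : x ∈ Z t ω) (hx0 : x ≠ 0) : LinearIndependent F ![x, t.1.1 x] := by
  rw [LinearIndependent.pair_iff]
  intro a b hab
  by_cases hb : b = 0
  · subst hb
    rw [zero_smul, add_zero] at hab
    exact ⟨(smul_eq_zero.1 hab).resolve_right hx0, rfl⟩
  exfalso
  obtain ⟨c, hc⟩ : ∃ c : F, t.1.1 x = c • x := by
    refine ⟨-(a / b), ?_⟩
    have : b • t.1.1 x = (-a) • x := by rw [neg_smul]; exact eq_neg_of_add_eq_zero_right hab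
    rw [← one_smul F (t.1.1 x), ← inv_mul_cancel₀ hb, ← smul_smul, this, smul_smul]
    congr 1
    ring
  have e := mem_Z.1 hx
  rw [hc, map_smul, hc, smul_smul, smul_smul] at e
  have e' : (c * c + ω * c + 1) • x = 0 := by rw [add_smul, add_smul, one_smul]; exact e
  have hq := (smul_eq_zero.1 e').resolve_right hx0
  rcases Seven.cube_cases h4 c with rfl | hc3
  · simp at hq
  have h5 : ω * (c - ω) = 0 := by
    linear_combination c * hq - hc3 - ω * hq + (c - 1) * hω + (ω - c) * hS.two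
  have hcw : c = ω := by
    linear_combination (mul_eq_zero.1 h5).resolve_left (omega_ne hS h4 hω).1
  subst hcw
  exact one_ne_zero (α := F) (by linear_combination hq - (c * c) * hS.two)

theorem finrank_Z (ht5 : t ^ 5 = 1) : Module.finrank F (Z t ω) = 0 ∨ Module.finrank F (Z t ω) = 2 := by
  haveI := hS.fd
  by_cases hbot : Z t ω = ⊥
  · left; rw [hbot, finrank_bot]
  right
  obtain ⟨x, hx, hx0⟩ := Submodule.exists_mem_ne_zero_of_ne_bot hbot
  have key : ∀ {y : V}, y ∈ Z t ω → y ≠ 0 →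
      Module.finrank F (Submodule.span F (Set.range ![y, t.1.1 y])) = 2 ∧
        Submodule.span F (Set.range ![y, t.1.1 y]) ≤ Z t ω ∧
        ∀ z ∈ Submodule.span F (Set.range ![y, t.1.1 y]), t.1.1 z ∈ Submodule.span F (Set.range ![y, t.1.1 y]) := by
    intro y hy hy0
    refine ⟨by rw [finrank_span_eq_card (pair_indep hS h4 hω hy hy0), Fintype.card_fin], ?_, ?_⟩
    · rw [Submodule.span_le, Set.range_subset_iff]
      intro i; fin_cases i
      exacts [hy, map_Z hS (Commute.refl t) hy]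
    · intro z hz
      induction hz using Submodule.span_induction with
      | mem z hz =>
        obtain ⟨i, rfl⟩ := hz
        fin_cases i
        · exact Submodule.subset_span ⟨1, rfl⟩
        · show t.1.1 (t.1.1 y) ∈ _
          rw [sq_Z hS hy]
          exact Submodule.add_mem _ (Submodule.smul_mem _ _ (Submodule.subset_span ⟨1, rfl⟩))
            (Submodule.subset_span ⟨0, rfl⟩)
      | zero => rw [map_zero]; exact Submodule.zero_mem _
      | add a b _ _ ha hb => rw [map_add]; exact Submodule.add_mem _ ha hb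
      | smul c a _ ha => rw [map_smul]; exact Submodule.smul_mem _ _ ha
  obtain ⟨hU, hUZ, hUinv⟩ := key hx hx0
  have h3 := Seven.finrank_le_three hS (iso_Z hS h4 (conj_omega hS h4 hω) ht5)
  have h2 := Submodule.finrank_mono hUZ
  by_contra hne
  obtain ⟨y, hy, hyU⟩ : ∃ y ∈ Z t ω, y ∉ Submodule.span F (Set.range ![x, t.1.1 x]) := by
    by_contra hcon
    push Not at hcon
    have := Submodule.finrank_mono (show Z t ω ≤ Submodule.span F (Set.range ![x, t.1.1 x]) from hcon)
    omega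
  have hy0 : y ≠ 0 := fun e => hyU (e ▸ Submodule.zero_mem _)
  obtain ⟨hU', hUZ', hUinv'⟩ := key hy hy0
  set U := Submodule.span F (Set.range ![x, t.1.1 x])
  set U' := Submodule.span F (Set.range ![y, t.1.1 y])
  have hsum := Submodule.finrank_sup_add_finrank_inf_eq U U'
  have hsup := Submodule.finrank_mono (sup_le hUZ hUZ')
  have hinf : U ⊓ U' ≠ ⊥ := fun e => by rw [e, finrank_bot] at hsum; omega
  obtain ⟨z, hz, hz0⟩ := Submodule.exists_mem_ne_zero_of_ne_bot hinf
  obtain ⟨hW, -, -⟩ := key (hUZ hz.1) hz0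
  have heq : ∀ (W : Submodule F V), Module.finrank F W = 2 → z ∈ W → t.1.1 z ∈ W →
      Submodule.span F (Set.range ![z, t.1.1 z]) = W := fun W hW2 hzW hTW =>
    Submodule.eq_of_le_of_finrank_eq (Submodule.span_le.2 (Set.range_subset_iff.2 fun i => by
      fin_cases i
      exacts [hzW, hTW])) (by rw [hW, hW2])
  apply hyU
  rw [← heq U hU hz.1 (hUinv z hz.1), heq U' hU' hz.2 (hUinv' z hz.2)]
  exact Submodule.subset_span ⟨0, rfl⟩

variable (ht : IsFive t)
include ht

theorem split : Fx t ⊔ (Z t ω ⊔ Z t (ω + 1)) = ⊤ ∧ Module.finrank F (Fx t) = 2 ∧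
    Module.finrank F (Z t ω) = 2 ∧ Module.finrank F (Z t (ω + 1)) = 2 := by
  haveI := hS.fd
  have hω' : (ω + 1) * (ω + 1) + (ω + 1) + 1 = 0 := by linear_combination hω + (ω + 1) * hS.two
  set T := lin t with hT
  have h2 : (2 : F[X]) = 0 := by rw [show (2 : F[X]) = C (2 : F) from (map_ofNat C 2).symm, hS.two, map_zero]
  have hR : (C ω * C ω + C ω + 1 : F[X]) = 0 := by
    rw [← C_1, ← C_mul, ← C_add, ← C_add, hω, C_0]
  have h5 : aeval T (X ^ 5 - 1 : F[X]) = 0 := by
    rw [map_sub, map_pow, aeval_X, map_one, hT, ← lin_pow, ht.five, lin_one, sub_self]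
  set S : F[X] := X ^ 4 + X ^ 3 + X ^ 2 + X + 1 with hSdef
  have hC : (C (ω + 1) : F[X]) = C ω + 1 := by rw [C_add, C_1]
  set q₁ : F[X] := X ^ 2 + C ω * X + 1 with hq₁
  set q₂ : F[X] := X ^ 2 + C (ω + 1) * X + 1 with hq₂
  have hbez : (1 + X + C ω) * q₁ + (X + C ω) * q₂ = 1 := by
    rw [hq₁, hq₂, hC]
    linear_combination ((X ^ 2 + C ω * X) + (X + C ω) * (X ^ 2 + C ω * X + 1)) * h2
  have key : (1 + S) * (q₁ * q₂) = (X ^ 5 - 1) * (X ^ 3 + 2 * X ^ 2 + 3 * X + 4 : F[X]) := by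
    rw [hSdef, hq₁, hq₂, hC]
    linear_combination (3 * (X ^ 4 + X ^ 3 + X ^ 2 + X + 1) +
      (1 + (X ^ 4 + X ^ 3 + X ^ 2 + X + 1)) * (C ω * X ^ 3 + C ω * X)) * h2 +
      ((1 + (X ^ 4 + X ^ 3 + X ^ 2 + X + 1)) * X ^ 2) * hR
  have htop : Fx t ⊔ (Z t ω ⊔ Z t (ω + 1)) = ⊤ := by
    refine eq_top_iff.2 fun x _ => ?_
    have hid : (1 : F[X]) = S + (1 + X + C ω) * q₁ * (1 + S) + (X + C ω) * q₂ * (1 + S) := by
      linear_combination -(1 + S) * hbez - S * h2
    have e := congrArg (fun r : F[X] => aeval T r x) hid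
    simp only [map_add (aeval T) (_ + _), map_add (aeval T) S, map_one, LinearMap.add_apply,
      Module.End.one_apply] at e
    rw [e, add_assoc]
    refine Submodule.add_mem_sup ?_ (Submodule.add_mem _ (Submodule.mem_sup_right ?_) (Submodule.mem_sup_left ?_))
    · rw [Fx, LinearMap.mem_ker, ← Module.End.mul_apply, ← map_mul,
        show (X - 1) * S = (X ^ 5 - 1 : F[X]) by rw [hSdef]; ring, h5]
      rfl
    · rw [Z, ← hq₂, LinearMap.mem_ker, ← Module.End.mul_apply, ← map_mul,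
        show q₂ * ((1 + X + C ω) * q₁ * (1 + S)) = (1 + X + C ω) * ((1 + S) * (q₁ * q₂)) by ring, key, map_mul,
        map_mul, h5, zero_mul, mul_zero]
      rfl
    · rw [Z, ← hq₁, LinearMap.mem_ker, ← Module.End.mul_apply, ← map_mul,
        show q₁ * ((X + C ω) * q₂ * (1 + S)) = (X + C ω) * ((1 + S) * (q₁ * q₂)) by ring, key, map_mul,
        map_mul, h5, zero_mul, mul_zero]
      rfl
  have hdis : Z t ω ⊓ Z t (ω + 1) = ⊥ := by
    rw [eq_bot_iff]
    rintro x ⟨a, b⟩
    rw [Submodule.mem_bot]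
    have := congrArg (fun r : F[X] => aeval T r x) hbez
    rw [Z, SetLike.mem_coe, LinearMap.mem_ker, ← hT, ← hq₁] at a
    rw [Z, SetLike.mem_coe, LinearMap.mem_ker, ← hT, ← hq₂] at b
    simp only [map_add (aeval T) (_ * _), map_mul (aeval T) (1 + X + C ω), map_mul (aeval T) (X + C ω), map_one,
      LinearMap.add_apply, Module.End.mul_apply, Module.End.one_apply, a, b, map_zero, add_zero] at this
    exact this.symm
  have c1 := finrank_Z hS h4 hω ht.five
  have c2 := finrank_Z hS h4 hω' ht.five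
  -- a nonzero factor forces the other
  have hne : ∀ w w' : F, w * w + w + 1 = 0 → Fx t ⊔ (Z t w ⊔ Z t w') = ⊤ → Z t w' = ⊥ → Z t w = ⊥ := by
    intro w w' hw hst hbot
    rw [hbot, sup_bot_eq] at hst
    rw [eq_bot_iff]
    intro z hz
    rw [Submodule.mem_bot]
    refine H.nondeg z fun x => ?_
    obtain ⟨a, ha, b, hb, rfl⟩ := Submodule.mem_sup.1 (show x ∈ Fx t ⊔ Z t w by rw [hst]; trivial)
    rw [H.add_left, orth_Fx hS h4 hw ha hz, iso_Z hS h4 (conj_omega hS h4 hw) ht.five b hb z hz, add_zero]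
  have hA := Submodule.finrank_add_le_finrank_add_finrank (Fx t) (Z t ω ⊔ Z t (ω + 1))
  have hB := Submodule.finrank_sup_add_finrank_inf_eq (Z t ω) (Z t (ω + 1))
  rw [htop, finrank_top, hS.dim] at hA
  rw [hdis, finrank_bot] at hB
  have hboth : Z t ω ≠ ⊥ ∧ Z t (ω + 1) ≠ ⊥ := by
    have hno : ¬ (Z t ω = ⊥ ∧ Z t (ω + 1) = ⊥) := fun ⟨a, b⟩ => ht.ne (H.sisom_ext fun x => by
      have hx : x ∈ Fx t := by
        have : Fx t = ⊤ := by rwa [a, b, sup_bot_eq, sup_bot_eq] at htop
        rw [this]; trivial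
      exact mem_Fx.1 hx)
    exact ⟨fun a => hno ⟨a, hne (ω + 1) ω hω' (by rwa [sup_comm (Z t (ω + 1))]) a⟩,
      fun b => hno ⟨hne ω (ω + 1) hω htop b, b⟩⟩
  have hd1 : Module.finrank F (Z t ω) = 2 := c1.resolve_left fun e => hboth.1 (Submodule.finrank_eq_zero.1 e)
  have hd2 : Module.finrank F (Z t (ω + 1)) = 2 := c2.resolve_left fun e => hboth.2 (Submodule.finrank_eq_zero.1 e)
  have hle : Fx t ≤ H.orth (Z t ω ⊔ Z t (ω + 1)) := fun a ha => H.mem_orth.2 fun y hy => by
    obtain ⟨p, hp, q, hq, rfl⟩ := Submodule.mem_sup.1 hy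
    rw [H.add_right, orth_Fx hS h4 hω ha hp, orth_Fx hS h4 hω' ha hq, add_zero]
  have hC' := Submodule.finrank_mono hle
  rw [H.finrank_orth, hS.dim] at hC'
  exact ⟨htop, by omega, hd1, hd2⟩

theorem nondeg_Fx {x : V} (hx : x ∈ Fx t) (h0 : ∀ y ∈ Fx t, H.h y x = 0) : x = 0 := by
  have hω' : (ω + 1) * (ω + 1) + (ω + 1) + 1 = 0 := by linear_combination hω + (ω + 1) * hS.two
  refine H.nondeg x fun y => ?_
  obtain ⟨a, ha, b, hb, rfl⟩ := Submodule.mem_sup.1
    (show y ∈ Fx t ⊔ (Z t ω ⊔ Z t (ω + 1)) by rw [(split hS h4 hω ht).1]; trivial)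
  obtain ⟨p, hp, q, hq, rfl⟩ := Submodule.mem_sup.1 hb
  rw [H.add_left, H.add_left, h0 a ha, H.eq_zero_symm (orth_Fx hS h4 hω hx hp),
    H.eq_zero_symm (orth_Fx hS h4 hω' hx hq), add_zero, add_zero]

theorem exists_base : ∃ e₁ e₂ : V, e₁ ∈ Fx t ∧ e₂ ∈ Fx t ∧ H.h e₁ e₁ = 1 ∧ H.h e₂ e₂ = 1 ∧ H.h e₁ e₂ = 0 ∧
    ∀ x ∈ Fx t, x = H.h x e₁ • e₁ + H.h x e₂ • e₂ := by
  haveI := hS.fd
  obtain ⟨-, hd, -, -⟩ := split hS h4 hω ht
  obtain ⟨e₁, he₁, hn₁⟩ : ∃ x ∈ Fx t, H.h x x ≠ 0 := by
    by_contra hcon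
    push Not at hcon
    obtain ⟨x, hx, hx0⟩ : ∃ x ∈ Fx t, x ≠ 0 := Submodule.exists_mem_ne_zero_of_ne_bot fun e => by
      rw [e, finrank_bot] at hd; omega
    refine hx0 (nondeg_Fx hS h4 hω ht hx fun y hy => ?_)
    by_contra hne
    obtain ⟨θ, hθ⟩ := H.conj.exists_trace_one
    set c := θ / H.h y x
    have h := hcon _ ((Fx t).add_mem ((Fx t).smul_mem c hy) hx)
    rw [H.add_left, H.add_right, H.add_right, H.smul_left, H.smul_left, H.smul_right, H.smul_right,
      hcon y hy, hcon x hx, H.symm x y, ← map_mul, show c * H.h y x = θ from div_mul_cancel₀ θ hne] at h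
    exact one_ne_zero (α := F) (by linear_combination h - hθ)
  have hn₁' := hS.self_eq_one hn₁
  obtain ⟨y, hy, hyn⟩ : ∃ y ∈ Fx t, y ∉ Submodule.span F {e₁} := by
    by_contra hcon
    push Not at hcon
    have h1 := Submodule.finrank_mono (show Fx t ≤ Submodule.span F {e₁} from hcon)
    rw [finrank_span_singleton (show e₁ ≠ 0 from fun e => hn₁ (by rw [e, H.zero_left]))] at h1
    omega
  set e₂ := y - H.h y e₁ • e₁ with he₂def
  have he₂ : e₂ ∈ Fx t := (Fx t).sub_mem hy ((Fx t).smul_mem _ he₁)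
  have h21 : H.h e₂ e₁ = 0 := by rw [he₂def, H.sub_left, H.smul_left, hn₁', mul_one, sub_self]
  have hspan : ∀ x ∈ Fx t, ∃ a b : F, x = a • e₁ + b • e₂ := by
    intro x hx
    have he20 : e₂ ≠ 0 := fun e => hyn (Submodule.mem_span_singleton.2 ⟨_, (sub_eq_zero.1 e).symm⟩)
    have hind : LinearIndependent F ![e₁, e₂] := by
      rw [LinearIndependent.pair_iff]
      intro a b hab
      have h1 := congrArg (fun v => H.h v e₁) hab
      simp only [H.add_left, H.smul_left, h21, hn₁', mul_zero, add_zero, mul_one, H.zero_left] at h1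
      subst h1
      rw [zero_smul, zero_add] at hab
      exact ⟨rfl, (smul_eq_zero.1 hab).resolve_right he20⟩
    have heq : Submodule.span F (Set.range ![e₁, e₂]) = Fx t := Submodule.eq_of_le_of_finrank_eq
      (Submodule.span_le.2 (Set.range_subset_iff.2 fun i => by fin_cases i; exacts [he₁, he₂]))
      (by rw [finrank_span_eq_card hind, hd, Fintype.card_fin])
    rw [← heq, Submodule.mem_span_range_iff_exists_fun] at hx
    obtain ⟨c, hc⟩ := hx
    exact ⟨c 0, c 1, by rw [← hc, Fin.sum_univ_two]; rfl⟩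
  have hn₂ : H.h e₂ e₂ ≠ 0 := by
    intro hz
    refine hyn (Submodule.mem_span_singleton.2 ⟨H.h y e₁, (sub_eq_zero.1 (nondeg_Fx hS h4 hω ht he₂
      fun x hx => ?_)).symm⟩)
    obtain ⟨a, b, rfl⟩ := hspan x hx
    rw [H.add_left, H.smul_left, H.smul_left, hz, H.eq_zero_symm h21, mul_zero, mul_zero, add_zero]
  refine ⟨e₁, e₂, he₁, he₂, hn₁', hS.self_eq_one hn₂, H.eq_zero_symm h21, fun x hx => ?_⟩
  obtain ⟨a, b, rfl⟩ := hspan x hx
  simp only [H.add_left, H.smul_left, hn₁', hS.self_eq_one hn₂, h21, H.eq_zero_symm h21, mul_zero, mul_one,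
    add_zero, zero_add]

theorem rigid {s : H.SIsom} (hs : Commute s t) (hF : ∀ y ∈ Fx t, s.1.1 y = y) {x : V} (hx : x ∈ Z t ω)
    (hx0 : x ≠ 0) (hfx : s.1.1 x = x) : s = 1 := by
  haveI := hS.fd
  obtain ⟨htop, -, hd1, -⟩ := split hS h4 hω ht
  have hω' : (ω + 1) * (ω + 1) + (ω + 1) + 1 = 0 := by linear_combination hω + (ω + 1) * hS.two
  have heq : Submodule.span F (Set.range ![x, t.1.1 x]) = Z t ω := Submodule.eq_of_le_of_finrank_eq
    (Submodule.span_le.2 (Set.range_subset_iff.2 fun i => by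
      fin_cases i
      exacts [hx, map_Z hS (Commute.refl t) hx]))
    (by rw [finrank_span_eq_card (pair_indep hS h4 hω hx hx0), hd1, Fintype.card_fin])
  have h1 : ∀ y ∈ Z t ω, s.1.1 y = y := by
    intro y hy
    rw [← heq] at hy
    induction hy using Submodule.span_induction with
    | mem y hy =>
      obtain ⟨i, rfl⟩ := hy
      fin_cases i
      · exact hfx
      · show s.1.1 (t.1.1 x) = t.1.1 x
        rw [← HermSpace.smul_mul_apply, hs.eq, HermSpace.smul_mul_apply, hfx]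
    | zero => exact map_zero _
    | add a b _ _ ha hb => rw [map_add, ha, hb]
    | smul c a _ ha => rw [map_smul, ha]
  refine H.sisom_ext fun y => ?_
  show s.1.1 y = y
  obtain ⟨a, ha, b, hb, rfl⟩ := Submodule.mem_sup.1
    (show y ∈ Fx t ⊔ (Z t ω ⊔ Z t (ω + 1)) by rw [htop]; trivial)
  obtain ⟨p, hp, q, hq, rfl⟩ := Submodule.mem_sup.1 hb
  rw [map_add, map_add, hF a ha, h1 p hp]
  congr 2
  refine H.ext_of_forall fun z => ?_
  obtain ⟨c, hc, d, hd, rfl⟩ := Submodule.mem_sup.1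
    (show z ∈ Fx t ⊔ (Z t ω ⊔ Z t (ω + 1)) by rw [htop]; trivial)
  obtain ⟨e, he, f, hf, rfl⟩ := Submodule.mem_sup.1 hd
  have hiso := iso_Z hS h4 (conj_omega hS h4 hω') ht.five
  rw [H.add_left, H.add_left, H.add_left, H.add_left, orth_Fx hS h4 hω' hc (map_Z hS hs hq),
    orth_Fx hS h4 hω' hc hq, hiso f hf _ (map_Z hS hs hq), hiso f hf q hq]
  conv_rhs => rw [← H.map_form s.1 e q, h1 e he]

/-- An element of order dividing three commuting with `t` and fixing the fixed plane. -/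
theorem cube_trivial {r : H.SIsom} (hr : Commute r t) (hF : ∀ y ∈ Fx t, r.1.1 y = y) (h3 : r ^ 3 = 1) : r = 1 := by
  haveI := hS.fd
  obtain ⟨htop, -, hd1, hd2⟩ := split hS h4 hω ht
  have hω' : (ω + 1) * (ω + 1) + (ω + 1) + 1 = 0 := by linear_combination hω + (ω + 1) * hS.two
  have hω0 := (omega_ne hS h4 hω).1
  have hω3 : ω * (ω * ω) = 1 := by linear_combination (ω - 1) * hω
  have hsum : ω * ω + ω = 1 := by linear_combination hω - hS.two
  have hr3 : ∀ y, r.1.1 (r.1.1 (r.1.1 y)) = y := fun y => by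
    rw [← HermSpace.smul_mul_apply, ← HermSpace.smul_mul_apply, ← pow_three', h3]; rfl
  obtain ⟨x, hx, hx0⟩ : ∃ x ∈ Z t ω, x ≠ 0 := Submodule.exists_mem_ne_zero_of_ne_bot fun e => by
    rw [e, finrank_bot] at hd1; omega
  obtain ⟨c, hc, u, hu, hu0, hru⟩ : ∃ c : F, c ≠ 0 ∧ ∃ u ∈ Z t ω, u ≠ 0 ∧ r.1.1 u = c • u := by
    have hmem := fun y (hy : y ∈ Z t ω) (c : F) => (Z t ω).add_mem (map_Z hS hr hy) ((Z t ω).smul_mem c hy)
    by_cases e1 : r.1.1 x + (ω * ω) • x = 0
    · exact ⟨ω * ω, mul_ne_zero hω0 hω0, x, hx, hx0, hS.toFour.eq_of_vadd e1⟩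
    set u₁ := r.1.1 x + (ω * ω) • x with hu₁
    by_cases e2 : r.1.1 u₁ + ω • u₁ = 0
    · exact ⟨ω, hω0, u₁, hmem x hx _, e1, hS.toFour.eq_of_vadd e2⟩
    refine ⟨1, one_ne_zero, _, hmem u₁ (hmem x hx _) _, e2, ?_⟩
    have hu₂ : r.1.1 u₁ + ω • u₁ = r.1.1 (r.1.1 x) + r.1.1 x + x := by
      rw [hu₁, map_add, map_smul, smul_add, smul_smul, hω3, one_smul,
        show ∀ a b c d : V, a + b + (c + d) = a + (b + c) + d from fun a b c d => by abel, ← add_smul, hsum, one_smul]
    rw [one_smul, hu₂, map_add, map_add, hr3]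
    abel
  by_cases hc1 : c = 1
  · exact rigid hS h4 hω ht hr hF hu hu0 (by rw [hru, hc1, one_smul])
  exfalso
  -- `r` is a scalar on the two quadratic spaces
  have hcom : ∀ y, r.1.1 (t.1.1 y) = t.1.1 (r.1.1 y) := fun y => by
    rw [← HermSpace.smul_mul_apply, hr.eq, HermSpace.smul_mul_apply]
  have heq : Submodule.span F (Set.range ![u, t.1.1 u]) = Z t ω := Submodule.eq_of_le_of_finrank_eq
    (Submodule.span_le.2 (Set.range_subset_iff.2 fun i => by
      fin_cases i
      exacts [hu, map_Z hS (Commute.refl t) hu]))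
    (by rw [finrank_span_eq_card (pair_indep hS h4 hω hu hu0), hd1, Fintype.card_fin])
  have h1 : ∀ y ∈ Z t ω, r.1.1 y = c • y := by
    intro y hy
    rw [← heq] at hy
    induction hy using Submodule.span_induction with
    | mem y hy =>
      obtain ⟨i, rfl⟩ := hy
      fin_cases i
      · exact hru
      · show r.1.1 (t.1.1 u) = c • t.1.1 u
        rw [hcom, hru, map_smul]
    | zero => rw [map_zero, smul_zero]
    | add a b _ _ ha hb => rw [map_add, ha, hb, smul_add]
    | smul d a _ ha => rw [map_smul, ha, smul_smul, smul_smul, mul_comm]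
  have h2 : ∀ y ∈ Z t (ω + 1), r.1.1 y = c • y := by
    intro y hy
    refine H.ext_of_forall fun z => ?_
    obtain ⟨a, ha, b, hb, rfl⟩ := Submodule.mem_sup.1
      (show z ∈ Fx t ⊔ (Z t ω ⊔ Z t (ω + 1)) by rw [htop]; trivial)
    obtain ⟨p, hp, q, hq, rfl⟩ := Submodule.mem_sup.1 hb
    have hiso := iso_Z hS h4 (conj_omega hS h4 hω') ht.five
    rw [H.smul_right, H.add_left, H.add_left, H.add_left, H.add_left, orth_Fx hS h4 hω' ha (map_Z hS hr hy),
      orth_Fx hS h4 hω' ha hy, hiso q hq _ (map_Z hS hr hy), hiso q hq y hy, add_zero, add_zero, zero_add, zero_add]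
    have e := H.map_form r.1 p y
    rw [h1 p hp, H.smul_left] at e
    calc H.h p (r.1.1 y) = c * H.σ c * H.h p (r.1.1 y) := by rw [hS.norm c hc, one_mul]
      _ = H.σ c * H.h p y := by rw [← e]; ring
  obtain ⟨e₁, e₂, he₁, he₂, -, -, -, hFspan⟩ := exists_base hS h4 hω ht
  obtain ⟨v, hv, hv0⟩ : ∃ v ∈ Z t (ω + 1), v ≠ 0 := Submodule.exists_mem_ne_zero_of_ne_bot fun e => by
    rw [e, finrank_bot] at hd2; omega
  have heq' : Submodule.span F (Set.range ![v, t.1.1 v]) = Z t (ω + 1) := Submodule.eq_of_le_of_finrank_eq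
    (Submodule.span_le.2 (Set.range_subset_iff.2 fun i => by
      fin_cases i
      exacts [hv, map_Z hS (Commute.refl t) hv]))
    (by rw [finrank_span_eq_card (pair_indep hS h4 hω' hv hv0), hd2, Fintype.card_fin])
  set f : Fin 6 → V := ![e₁, e₂, u, t.1.1 u, v, t.1.1 v] with hf
  have hsp : ⊤ ≤ Submodule.span F (Set.range f) := by
    rw [← htop, ← heq, ← heq']
    refine sup_le (fun x hx => ?_) (sup_le (Submodule.span_mono ?_) (Submodule.span_mono ?_))
    · rw [hFspan x hx]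
      exact Submodule.add_mem _ (Submodule.smul_mem _ _ (Submodule.subset_span ⟨0, rfl⟩))
        (Submodule.smul_mem _ _ (Submodule.subset_span ⟨1, rfl⟩))
    · rintro x ⟨i, rfl⟩; fin_cases i
      exacts [⟨2, rfl⟩, ⟨3, rfl⟩]
    · rintro x ⟨i, rfl⟩; fin_cases i
      exacts [⟨4, rfl⟩, ⟨5, rfl⟩]
  set b := basisOfTopLeSpanOfCardEqFinrank f hsp (by rw [Fintype.card_fin, hS.dim]) with hb
  have hbf : ⇑b = f := coe_basisOfTopLeSpanOfCardEqFinrank _ _ _
  have himg : (lin r) ∘ f = fun i => (![1, 1, c, c, c, c] : Fin 6 → F) i • f i := by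
    funext i
    fin_cases i <;>
      simp [hf, lin_apply, hF e₁ he₁, hF e₂ he₂, h1 u hu, h1 _ (map_Z hS (Commute.refl t) hu), h2 v hv,
        h2 _ (map_Z hS (Commute.refl t) hv)]
  have hdet := b.det_comp (lin r) b
  have hd1' : LinearMap.det (lin r) = 1 := by
    have := congrArg Units.val ((HermSpace.mem_SIsom (H := H)).1 r.2)
    rwa [LinearEquiv.coe_det, Units.val_one] at this
  rw [b.det_self, mul_one, hd1', hbf, himg, AlternatingMap.map_smul_univ, ← hbf, b.det_self] at hdet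
  apply hc1
  have hc3 := (Seven.cube_cases h4 c).resolve_left hc
  have hc4 : c * c * c * c = 1 := by simpa [Fin.prod_univ_six] using hdet
  linear_combination hc4 - c * hc3

/-- Elements commuting with `t` and fixing the fixed plane are powers of `t`. -/
theorem pointwise {s : H.SIsom} (hs : Commute s t) (hF : ∀ y ∈ Fx t, s.1.1 y = y) : ∃ i : ℕ, s = t ^ i := by
  classical
  haveI := hS.fd
  haveI : Finite V := Module.finite_of_finite F
  haveI : Finite H.SIsom :=
    Finite.of_injective (fun g : H.SIsom => (g.1.1 : V → V)) fun g k e => H.sisom_ext fun x => congrFun e x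
  obtain ⟨-, -, hd1, -⟩ := split hS h4 hω ht
  let K : Subgroup H.SIsom :=
    { carrier := {g | Commute g t ∧ ∀ y ∈ Fx t, g.1.1 y = y}
      mul_mem' := fun {a b} ha hb => ⟨ha.1.mul_left hb.1, fun y hy => by
        rw [HermSpace.smul_mul_apply, hb.2 y hy, ha.2 y hy]⟩
      one_mem' := ⟨Commute.one_left t, fun y _ => rfl⟩
      inv_mem' := fun {a} ha => ⟨ha.1.inv_left, fun y hy => by
        conv_lhs => rw [← ha.2 y hy]
        rw [← HermSpace.smul_mul_apply, inv_mul_cancel]; rfl⟩ }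
  have hK : ∀ {g}, g ∈ K ↔ Commute g t ∧ ∀ y ∈ Fx t, g.1.1 y = y := Iff.rfl
  obtain ⟨x, hx, hx0⟩ : ∃ x ∈ Z t ω, x ≠ 0 := Submodule.exists_mem_ne_zero_of_ne_bot fun e => by
    rw [e, finrank_bot] at hd1; omega
  let f : K → {y : Z t ω // y ≠ 0} := fun g => ⟨⟨g.1.1.1 x, map_Z hS (hK.1 g.2).1 hx⟩,
    fun e => hx0 (g.1.1.1.injective (by rw [map_zero]; exact congrArg Subtype.val e))⟩
  have hinj : Function.Injective f := by
    intro a b e
    have e' : a.1.1.1 x = b.1.1.1 x := congrArg (fun y => ((y.1 : Z t ω) : V)) e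
    have hm : (b⁻¹ * a : K).1 = b.1⁻¹ * a.1 := rfl
    have := rigid hS h4 hω ht (s := b.1⁻¹ * a.1) (hm ▸ (hK.1 (b⁻¹ * a : K).2).1) (hm ▸ (hK.1 (b⁻¹ * a : K).2).2) hx hx0
      (by rw [HermSpace.smul_mul_apply, e', ← HermSpace.smul_mul_apply, inv_mul_cancel]; rfl)
    exact (Subtype.ext (inv_mul_eq_one.1 this)).symm
  have hle : Nat.card K ≤ 15 := by
    refine (Nat.card_le_card_of_injective f hinj).trans ?_
    have h16 : Nat.card (Z t ω) = 16 := by rw [Module.natCard_eq_pow_finrank (K := F), h4, hd1]; norm_num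
    haveI := Fintype.ofFinite (Z t ω)
    rw [Nat.card_eq_fintype_card, Fintype.card_subtype_compl, Fintype.card_subtype_eq, Fintype.card_eq_nat_card, h16]
  haveI : Fact (Nat.Prime 5) := ⟨by norm_num⟩
  have htK : t ∈ K := ⟨Commute.refl t, fun y hy => mem_Fx.1 hy⟩
  have hot : orderOf t = 5 := orderOf_eq_prime ht.five ht.ne
  have h5 : 5 ∣ Nat.card K := by
    rw [← hot, ← Subgroup.orderOf_mk _ htK]
    exact orderOf_dvd_natCard _
  have hpos : 0 < Nat.card K := Nat.card_pos
  have h10 : ¬ 2 ∣ Nat.card K := by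
    intro e
    haveI : Fact (Nat.Prime 2) := ⟨Nat.prime_two⟩
    obtain ⟨r, hr⟩ := exists_prime_orderOf_dvd_card' (G := K) 2 e
    have hr2 : (r : H.SIsom) * r = 1 := by
      rw [← pow_two, ← hr, ← Subgroup.coe_pow, pow_orderOf_eq_one]; rfl
    have hrr : ∀ y, r.1.1.1 (r.1.1.1 y) = y := fun y => by rw [← HermSpace.smul_mul_apply, hr2]; rfl
    have hrc := (hK.1 r.2).1
    have hrF := (hK.1 r.2).2
    have hone : (r : H.SIsom) = 1 := by
      by_cases e0 : r.1.1.1 x + x = 0
      · exact rigid hS h4 hω ht hrc hrF hx hx0 (hS.toFour.eq_of_vadd e0)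
      · exact rigid hS h4 hω ht hrc hrF ((Z t ω).add_mem (map_Z hS hrc hx) hx) e0
          (by rw [map_add, hrr, add_comm])
    have : r = 1 := Subtype.ext hone
    rw [this, orderOf_one] at hr
    norm_num at hr
  have h15 : ¬ 3 ∣ Nat.card K := by
    intro e
    haveI : Fact (Nat.Prime 3) := ⟨Nat.prime_three⟩
    obtain ⟨r, hr⟩ := exists_prime_orderOf_dvd_card' (G := K) 3 e
    have hone := cube_trivial hS h4 hω ht (hK.1 r.2).1 (hK.1 r.2).2
      (by rw [← Subgroup.coe_pow, ← hr, pow_orderOf_eq_one]; rfl)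
    have : r = 1 := Subtype.ext hone
    rw [this, orderOf_one] at hr
    norm_num at hr
  have hcard : Nat.card K = 5 := by omega
  have hall : zpowers t = K := Subgroup.eq_of_le_of_card_ge (zpowers_le.2 htK) (by rw [hcard, Nat.card_zpowers, hot])
  obtain ⟨n, hn⟩ := (isOfFinOrder_of_finite t).mem_powers_iff_mem_zpowers.2
    (hall ▸ (⟨hs, hF⟩ : s ∈ K) : s ∈ zpowers t)
  exact ⟨n, hn.symm⟩

omit hω in
/-- The three isotropic points of the fixed plane. -/
theorem points : ∃ v : {b : F // b ≠ 0} → V,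
    (∀ b, v b ∈ Fx t ∧ v b ≠ 0 ∧ H.h (v b) (v b) = 0) ∧
    (∀ b b', b ≠ b' → H.h (v b) (v b') ≠ 0) ∧
    (∀ x ∈ Fx t, x ≠ 0 → H.h x x = 0 → ∃ b, ∃ a : F, a ≠ 0 ∧ x = a • v b) ∧
    ∀ s : H.SIsom, Commute s t → (∀ b, ∃ c : F, s.1.1 (v b) = c • v b) →
      ∃ z ∈ center H.SIsom, ∃ i : ℕ, s = z * t ^ i := by
  obtain ⟨ω, hω0, hω1, hω⟩ := exists_omega hS h4
  obtain ⟨e₁, e₂, he₁, he₂, n₁, n₂, n12, hspan⟩ := exists_base hS h4 hω ht
  have n21 := H.eq_zero_symm n12
  have hcoef : ∀ a b : F, H.h (a • e₁ + b • e₂) e₁ = a ∧ H.h (a • e₁ + b • e₂) e₂ = b := fun a b => by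
    simp [H.add_left, H.smul_left, n₁, n₂, n12, n21]
  refine ⟨fun b => e₁ + b.1 • e₂, fun b => ⟨(Fx t).add_mem he₁ ((Fx t).smul_mem _ he₂), fun e => ?_, ?_⟩, ?_, ?_, ?_⟩
  · have := (hcoef 1 b.1).1
    rw [one_smul, show e₁ + b.1 • e₂ = 0 from e, H.zero_left] at this
    exact zero_ne_one this
  · simp only [H.add_left, H.add_right, H.smul_left, H.smul_right, n₁, n₂, n12, n21, mul_zero, mul_one, add_zero,
      zero_add]
    rw [hS.norm b.1 b.2]
    exact hS.add_self 1
  · intro b b' hne he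
    simp only [H.add_left, H.add_right, H.smul_left, H.smul_right, n₁, n₂, n12, n21, mul_zero, mul_one, add_zero,
      zero_add] at he
    apply hne
    apply Subtype.ext
    have hn := hS.norm b'.1 b'.2
    linear_combination b'.1 * he - b.1 * hn - b'.1 * hS.two
  · intro x hx hx0 hxx
    have hxe := hspan x hx
    set a := H.h x e₁
    set a' := H.h x e₂
    rw [hxe] at hxx
    simp only [H.add_left, H.add_right, H.smul_left, H.smul_right, n₁, n₂, n12, n21, mul_zero, mul_one, add_zero,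
      zero_add] at hxx
    have ha : a ≠ 0 := fun e => hx0 (by
      rw [e, zero_mul, zero_add] at hxx
      have : a' = 0 := by
        rcases mul_eq_zero.1 hxx with h | h
        · exact h
        · exact (map_eq_zero _).1 h
      rw [hxe, e, this, zero_smul, zero_smul, add_zero])
    have ha' : a' ≠ 0 := fun e => by
      rw [e, zero_mul, add_zero, hS.norm a ha] at hxx
      exact one_ne_zero hxx
    refine ⟨⟨a' / a, div_ne_zero ha' ha⟩, a, ha, ?_⟩
    rw [smul_add, smul_smul, mul_div_cancel₀ a' ha]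
    exact hxe
  · intro s hs hfix
    have hne2 : ω + 1 ≠ 0 := (omega_ne hS h4 hω).2.2
    obtain ⟨β, hβ⟩ := hfix ⟨1, one_ne_zero⟩
    obtain ⟨α, hα⟩ := hfix ⟨ω, hω0⟩
    obtain ⟨γ, hγ⟩ := hfix ⟨ω + 1, hne2⟩
    simp only [map_add, map_smul] at hβ hα hγ
    rw [one_smul] at hβ
    set A := H.h (s.1.1 e₁) e₁
    set A' := H.h (s.1.1 e₁) e₂
    set B := H.h (s.1.1 e₂) e₁
    set B' := H.h (s.1.1 e₂) e₂
    have p1 := congrArg (fun y => H.h y e₁) hβ
    have p2 := congrArg (fun y => H.h y e₂) hβ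
    have q1 := congrArg (fun y => H.h y e₁) hα
    have q2 := congrArg (fun y => H.h y e₂) hα
    have r1 := congrArg (fun y => H.h y e₁) hγ
    have r2 := congrArg (fun y => H.h y e₂) hγ
    simp only [H.add_left, H.smul_left, n₁, n₂, n12, n21, mul_zero, mul_one, add_zero, zero_add] at p1 p2 q1 q2 r1 r2
    change A + B = β at p1
    change A' + B' = β at p2
    change A + ω * B = α at q1
    change A' + ω * B' = α * ω at q2
    change A + (ω + 1) * B = γ at r1
    change A' + (ω + 1) * B' = γ * (ω + 1) at r2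
    -- the difference of the last two rows
    have hB : B = γ - α := by linear_combination r1 - q1
    have hB' : B' = γ * (ω + 1) - α * ω := by linear_combination r2 - q2
    have hA : A = β - B := by linear_combination p1
    have hA' : A' = β - B' := by linear_combination p2
    have i1 : β - α + (ω - 1) * (γ - α) = 0 := by rw [← hB]; linear_combination q1 - hA
    have i2 : β - α * ω + (ω - 1) * (γ * (ω + 1) - α * ω) = 0 := by rw [← hB']; linear_combination q2 - hA'
    have hαγ : α = γ := by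
      have h6 : (ω - 1) * (ω * (γ - α)) = 0 := by linear_combination i2 - i1
      have h7 := (mul_eq_zero.1 h6).resolve_left (sub_ne_zero.2 hω1)
      linear_combination -((mul_eq_zero.1 h7).resolve_left hω0)
    have hαβ : α = β := by linear_combination (ω - 1) * (-hαγ) - i1
    have hB0 : B = 0 := by rw [hB, ← hαγ, sub_self]
    have hA'0 : A' = 0 := by rw [hA', hB', ← hαγ, ← hαβ]; ring
    have hs1 : s.1.1 e₁ = α • e₁ := by
      rw [hspan _ (map_Fx hS hs he₁)]
      change A • e₁ + A' • e₂ = α • e₁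
      rw [hA'0, hA, hB0, sub_zero, ← hαβ, zero_smul, add_zero]
    have hs2 : s.1.1 e₂ = α • e₂ := by
      rw [hspan _ (map_Fx hS hs he₂)]
      change B • e₁ + B' • e₂ = α • e₂
      rw [hB0, hB', ← hαγ, zero_smul, zero_add]
      congr 1
      ring
    have hα0 : α ≠ 0 := fun e => by
      rw [e, zero_smul] at hs1
      have := H.map_form s.1 e₁ e₁
      rw [hs1, H.zero_left, n₁] at this
      exact zero_ne_one this
    obtain ⟨z, hz, hzs⟩ := hS.exists_center_scalar hα0
    have hzt : Commute z t := (Subgroup.mem_center_iff.1 hz t).symm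
    obtain ⟨i, hi⟩ := pointwise hS h4 hω ht (s := z⁻¹ * s) (hzt.inv_left.mul_left hs) fun y hy => by
      have : s.1.1 y = α • y := by
        conv_lhs => rw [hspan y hy]
        rw [map_add, map_smul, map_smul, hs1, hs2]
        conv_rhs => rw [hspan y hy]
        rw [smul_add, smul_comm α (H.h y e₁), smul_comm α (H.h y e₂)]
      rw [HermSpace.smul_mul_apply, this, ← hzs, ← HermSpace.smul_mul_apply, inv_mul_cancel]; rfl
    exact ⟨z, hz, i, by rw [← hi, mul_inv_cancel_left]⟩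

end Cfsg.Lib.ThreeTr.Five
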