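import Cfsg.Agent.ThreeTransposition.M22Count.Local

/-!
An element of order seven of the special unitary group of dimension six over the field with four elements without
fixed isotropic vectors: its centraliser consists of its powers times scalars.
-/

set_option autoImplicit false
set_option linter.unusedSectionVars false
set_option linter.style.haveILetI false

namespace Cfsg.Lib.ThreeTr.Seven

open Cfsg Subgroup Cfsg.Lib.Classical Cfsg.Lib.TTUnitary Polynomial

universe u v

variable {F : Type u} [Field F] {V : Type v} [AddCommGroup V] [Module F V]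

/-- The cyclic triple of a vector under an endomorphism. -/
def triple (T : Module.End F V) (x : V) : Fin 3 → V := ![x, T x, T (T x)]

/-- A vector killed by an irreducible cubic generates a space of dimension three. -/
theorem triple_indep {q : F[X]} (hq : Irreducible q) (hd : q.natDegree = 3) {T : Module.End F V} {x : V}
    (hx0 : x ≠ 0) (hx : aeval T q x = 0) : LinearIndependent F (triple T x) := by
  rw [Fintype.linearIndependent_iff]
  intro g hg
  set p : F[X] := C (g 0) + C (g 1) * X + C (g 2) * X ^ 2 with hp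
  have hpx : aeval T p x = 0 := by
    simpa [hp, Fin.sum_univ_three, triple, sq, Module.End.mul_apply] using hg
  have hp0 : p = 0 := by
    by_contra hne
    have hdeg : p.natDegree ≤ 2 := by rw [hp]; compute_degree
    have hcop : IsCoprime q p := hq.coprime_iff_not_dvd.2 fun hdv => by
      have := natDegree_le_of_dvd hdv hne
      omega
    obtain ⟨a, b, hab⟩ := hcop
    apply hx0
    have := congrArg (fun r : F[X] => aeval T r x) hab
    simpa [map_add, map_mul, Module.End.mul_apply, hx, hpx] using this.symm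
  intro i
  have h := congrArg (fun r : F[X] => r.coeff i) hp0
  fin_cases i <;> simpa [hp, coeff_X, coeff_C] using h

/-- A cubic whose value at every element is nonzero. -/
theorem irreducible_cubic {q : F[X]} (hd : q.natDegree = 3) (h : ∀ a : F, q.eval a ≠ 0) : Irreducible q :=
  Polynomial.irreducible_of_degree_le_three_of_not_isRoot (by simp [hd]) h

section Four

variable {H : HermSpace F V} (hS : IsSixSpace H) [Finite F] (h4 : Nat.card F = 4)
include hS h4

omit hS in
theorem cube_cases (a : F) : a = 0 ∨ a ^ 3 = 1 := by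
  by_cases ha : a = 0
  · exact Or.inl ha
  · haveI := Fintype.ofFinite F
    right
    have := FiniteField.pow_card_sub_one_eq_one a ha
    rwa [Fintype.card_eq_nat_card, h4] at this

theorem irreducible_one : Irreducible (X ^ 3 + X + 1 : F[X]) := by
  refine irreducible_cubic (by compute_degree!) fun a => ?_
  rcases cube_cases h4 a with rfl | ha
  · simp
  · simp only [eval_add, eval_pow, eval_X, eval_one]
    intro e
    have : a = 0 := by linear_combination e - ha - hS.two
    rw [this] at ha; simp at ha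

theorem irreducible_two : Irreducible (X ^ 3 + X ^ 2 + 1 : F[X]) := by
  refine irreducible_cubic (by compute_degree!) fun a => ?_
  rcases cube_cases h4 a with rfl | ha
  · simp
  · simp only [eval_add, eval_pow, eval_X, eval_one]
    intro e
    have : a ^ 2 = 0 := by linear_combination e - ha - hS.two
    rw [pow_eq_zero_iff two_ne_zero] at this
    rw [this] at ha; simp at ha

omit hS in
theorem irreducible_pure {w : F} (hw0 : w ≠ 0) (hw : w ≠ 1) : Irreducible (X ^ 3 - C w : F[X]) := by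
  refine irreducible_cubic (by compute_degree!) fun a => ?_
  simp only [eval_sub, eval_pow, eval_X, eval_C, sub_ne_zero]
  rcases cube_cases h4 a with rfl | ha
  · simpa using hw0.symm
  · rw [ha]; exact hw.symm

omit h4 in
/-- A totally isotropic subspace has dimension at most three. -/
theorem finrank_le_three {W : Submodule F V} (hW : ∀ x ∈ W, ∀ y ∈ W, H.h x y = 0) : Module.finrank F W ≤ 3 := by
  haveI := hS.fd
  have hle : W ≤ H.orth W := fun x hx => H.mem_orth.2 fun y hy => hW x hx y hy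
  have := Submodule.finrank_mono hle
  rw [H.finrank_orth, hS.dim] at this
  have := Submodule.finrank_le W
  rw [hS.dim] at this
  omega

omit h4 in
/-- Two independent vectors span an isotropic one. -/
theorem exists_iso {W : Submodule F V} (hW : 2 ≤ Module.finrank F W) : ∃ x ∈ W, x ≠ 0 ∧ H.h x x = 0 := by
  haveI := hS.fd
  obtain ⟨f, hf⟩ := exists_linearIndependent_of_le_finrank hW
  by_contra hc
  push Not at hc
  have hne : ∀ x ∈ W, x ≠ 0 → H.h x x = 1 := fun x hx hx0 => hS.self_eq_one (hc x hx hx0)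
  obtain ⟨hu0, hw⟩ : (f 1 : V) ≠ 0 ∧ ∀ a : F, a • (f 1 : V) ≠ (f 0 : V) := by
    refine ⟨fun e => hf.ne_zero 1 (Subtype.ext e), fun a e => ?_⟩
    have h := hf
    rw [linearIndependent_fin2] at h
    exact h.2 a (Subtype.ext e)
  set u : V := (f 1 : V) with hu
  set w : V := (f 0 : V) - H.h (f 0 : V) u • u with hwdef
  have huW : u ∈ W := (f 1).2
  have hwW : w ∈ W := W.sub_mem (f 0).2 (W.smul_mem _ huW)
  have huu := hne u huW hu0
  have hw0 : w ≠ 0 := fun e => hw _ (sub_eq_zero.1 e).symm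
  have hww := hne w hwW hw0
  have hwu : H.h w u = 0 := by rw [hwdef, H.sub_left, H.smul_left, huu, mul_one, sub_self]
  have hsum : w + u ≠ 0 := fun e => by
    have : H.h (w + u) u = 0 := by rw [e, H.zero_left]
    rw [H.add_left, hwu, huu, zero_add] at this
    exact one_ne_zero this
  refine hc (w + u) (W.add_mem hwW huW) hsum ?_
  rw [H.add_left, H.add_right, H.add_right, hww, huu, hwu, H.eq_zero_symm hwu]
  linear_combination hS.two

end Four

/-- The data: an isometry of order dividing seven without fixed isotropic vectors. -/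
structure IsFree {H : HermSpace F V} (t : H.SIsom) : Prop where
  seven : t ^ 7 = 1
  free : ∀ x, x ≠ 0 → H.h x x = 0 → t.1.1 x ≠ x

variable {H : HermSpace F V} (hS : IsSixSpace H) [Finite F] (h4 : Nat.card F = 4) {t : H.SIsom} (ht : IsFree t)

/-- The linear map of an element. -/
def lin (s : H.SIsom) : Module.End F V := s.1.1.toLinearMap

theorem lin_apply (s : H.SIsom) (x : V) : lin s x = s.1.1 x := rfl

theorem lin_one : lin (1 : H.SIsom) = 1 := rfl

theorem lin_mul (r s : H.SIsom) : lin (r * s) = lin r * lin s := rfl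

theorem lin_pow (s : H.SIsom) (n : ℕ) : lin (s ^ n) = lin s ^ n := by
  induction n with
  | zero => rfl
  | succ n ih => rw [pow_succ, pow_succ, lin_mul, ih]

/-- The first cubic. -/
noncomputable def W₁ (t : H.SIsom) : Submodule F V := LinearMap.ker (aeval (lin t) (X ^ 3 + X + 1 : F[X]))

/-- The second cubic. -/
noncomputable def W₂ (t : H.SIsom) : Submodule F V := LinearMap.ker (aeval (lin t) (X ^ 3 + X ^ 2 + 1 : F[X]))

theorem mem_W₁ {x : V} : x ∈ W₁ t ↔ t.1.1 (t.1.1 (t.1.1 x)) + t.1.1 x + x = 0 := by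
  simp [W₁, lin, pow_succ, Module.End.mul_apply]

theorem mem_W₂ {x : V} : x ∈ W₂ t ↔ t.1.1 (t.1.1 (t.1.1 x)) + t.1.1 (t.1.1 x) + x = 0 := by
  simp [W₂, lin, pow_succ, Module.End.mul_apply]

include hS

theorem cube_W₁ {x : V} (hx : x ∈ W₁ t) : t.1.1 (t.1.1 (t.1.1 x)) = t.1.1 x + x := by
  have := mem_W₁.1 hx
  rw [add_assoc] at this
  exact hS.toFour.eq_of_vadd this

theorem cube_W₂ {x : V} (hx : x ∈ W₂ t) : t.1.1 (t.1.1 (t.1.1 x)) = t.1.1 (t.1.1 x) + x := by
  have := mem_W₂.1 hx
  rw [add_assoc] at this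
  exact hS.toFour.eq_of_vadd this

theorem iso_W₁ : ∀ x ∈ W₁ t, ∀ y ∈ W₁ t, H.h x y = 0 := by
  intro u hu v hv
  set T := t.1.1
  have h : ∀ x y, H.h (T x) (T y) = H.h x y := H.map_form t.1
  have e3 := cube_W₁ hS hu
  have f3 := cube_W₁ hS hv
  have k0 : H.h u v = H.h (T (T u)) v + (H.h (T u) v + H.h u v) := by
    calc H.h u v = H.h (T (T (T u))) (T (T (T v))) := by rw [h, h, h]
      _ = _ := by rw [f3, H.add_right, h, e3, H.add_left]
  have k1 : H.h (T u) v = (H.h (T u) v + H.h u v) + (H.h (T (T u)) v + H.h (T u) v) := by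
    calc H.h (T u) v = H.h (T (T (T (T u)))) (T (T (T v))) := by rw [h, h, h]
      _ = _ := by
        rw [f3, H.add_right, h]
        congr 1
        · rw [e3, H.add_left]
        · rw [e3, map_add, H.add_left]
  linear_combination k0 - k1

theorem iso_W₂ : ∀ x ∈ W₂ t, ∀ y ∈ W₂ t, H.h x y = 0 := by
  intro u hu v hv
  set T := t.1.1
  have h : ∀ x y, H.h (T x) (T y) = H.h x y := H.map_form t.1
  have e3 := cube_W₂ hS hu
  have f3 := cube_W₂ hS hv
  have k0 : H.h u v = H.h (T u) v + (H.h (T (T u)) v + H.h u v) := by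
    calc H.h u v = H.h (T (T (T u))) (T (T (T v))) := by rw [h, h, h]
      _ = _ := by rw [f3, H.add_right, h, h, e3, H.add_left]
  have k1 : H.h (T u) v = H.h (T (T u)) v + ((H.h (T (T u)) v + H.h u v) + H.h (T u) v) := by
    calc H.h (T u) v = H.h (T (T (T (T u)))) (T (T (T v))) := by rw [h, h, h]
      _ = _ := by
        rw [f3, H.add_right, h, h]
        congr 1
        rw [e3, map_add, H.add_left, e3, H.add_left]
  linear_combination -k1 - H.h (T (T u)) v * hS.two

include h4

theorem finrank_cases (W : Submodule F V) (q : F[X]) (hq : Irreducible q) (hd : q.natDegree = 3)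
    (hW : W = LinearMap.ker (aeval (lin t) q)) (hiso : ∀ x ∈ W, ∀ y ∈ W, H.h x y = 0) :
    Module.finrank F W = 0 ∨ Module.finrank F W = 3 := by
  haveI := hS.fd
  by_cases hbot : W = ⊥
  · left; rw [hbot, finrank_bot]
  · right
    obtain ⟨x, hx, hx0⟩ := Submodule.exists_mem_ne_zero_of_ne_bot hbot
    refine le_antisymm (finrank_le_three hS hiso) ?_
    have hxk : aeval (lin t) q x = 0 := by rw [hW] at hx; exact hx
    have hind := triple_indep hq hd hx0 hxk
    have hmem : ∀ y ∈ W, lin t y ∈ W := fun y hy => by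
      rw [hW, LinearMap.mem_ker] at hy ⊢
      have : aeval (lin t) q * lin t = lin t * aeval (lin t) q := by
        simpa using ((Commute.all q X).map (aeval (lin t))).eq
      have h2 := LinearMap.congr_fun this y
      rw [Module.End.mul_apply, Module.End.mul_apply, hy, map_zero] at h2
      exact h2
    have hmem' : ∀ i, triple (lin t) x i ∈ W := by
      intro i; fin_cases i
      exacts [hx, hmem _ hx, hmem _ (hmem _ hx)]
    have hind' : LinearIndependent F fun i => (⟨triple (lin t) x i, hmem' i⟩ : W) :=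
      LinearIndependent.of_comp W.subtype hind
    simpa using hind'.fintype_card_le_finrank

include ht

theorem split : W₁ t ⊔ W₂ t = ⊤ ∧ Module.finrank F (W₁ t) = 3 ∧ Module.finrank F (W₂ t) = 3 := by
  haveI := hS.fd
  set T := lin t with hT
  have h2 : (2 : F[X]) = 0 := by rw [show (2 : F[X]) = C (2 : F) from (map_ofNat C 2).symm, hS.two, map_zero]
  have h7 : aeval T (X ^ 7 - 1 : F[X]) = 0 := by
    rw [map_sub, map_pow, aeval_X, map_one, hT, ← lin_pow, ht.seven, lin_one, sub_self]
  set S : F[X] := X ^ 6 + X ^ 5 + X ^ 4 + X ^ 3 + X ^ 2 + X + 1 with hSdef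
  have hcov : ∀ x : V, x ∈ LinearMap.ker (aeval T (X - 1 : F[X])) ⊔ (W₁ t ⊔ W₂ t) := by
    intro x
    have hid : (1 : F[X]) = S + (X ^ 3 + X ^ 2 + X + 1) * (X ^ 3 + X + 1) * (1 + S) +
        X ^ 3 * (X ^ 3 + X ^ 2 + 1) * (1 + S) := by
      linear_combination -(S + (X ^ 6 + X ^ 5 + X ^ 4 + 2 * X ^ 3 + X ^ 2 + X) * (1 + S)) * h2
    have key : (1 + S) * ((X ^ 3 + X + 1) * (X ^ 3 + X ^ 2 + 1)) =
        (X ^ 7 - 1) * (X ^ 5 + 2 * X ^ 4 + 3 * X ^ 3 + 4 * X ^ 2 + 5 * X + 6 : F[X]) := by
      rw [hSdef]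
      linear_combination (4 * (X ^ 6 + X ^ 5 + X ^ 4 + X ^ 3 + X ^ 2 + X + 1) +
        X ^ 3 * (1 + (X ^ 6 + X ^ 5 + X ^ 4 + X ^ 3 + X ^ 2 + X + 1))) * h2
    have e := congrArg (fun r : F[X] => aeval T r x) hid
    simp only [map_add, map_one, LinearMap.add_apply, Module.End.one_apply] at e
    rw [e, add_assoc]
    refine Submodule.add_mem_sup ?_ (Submodule.add_mem _ (Submodule.mem_sup_right ?_) (Submodule.mem_sup_left ?_))
    · rw [LinearMap.mem_ker, ← Module.End.mul_apply, ← map_mul,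
        show (X - 1) * S = (X ^ 7 - 1 : F[X]) by rw [hSdef]; ring, h7]
      rfl
    · rw [W₂, LinearMap.mem_ker, ← Module.End.mul_apply, ← map_mul,
        show (X ^ 3 + X ^ 2 + 1) * ((X ^ 3 + X ^ 2 + X + 1) * (X ^ 3 + X + 1) * (1 + S)) =
          (X ^ 3 + X ^ 2 + X + 1) * ((1 + S) * ((X ^ 3 + X + 1) * (X ^ 3 + X ^ 2 + 1))) by ring, key, map_mul,
        map_mul, h7, zero_mul, mul_zero]
      rfl
    · rw [W₁, LinearMap.mem_ker, ← Module.End.mul_apply, ← map_mul,
        show (X ^ 3 + X + 1) * (X ^ 3 * (X ^ 3 + X ^ 2 + 1) * (1 + S)) =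
          X ^ 3 * ((1 + S) * ((X ^ 3 + X + 1) * (X ^ 3 + X ^ 2 + 1))) by ring, key, map_mul,
        map_mul, h7, zero_mul, mul_zero]
      rfl
  have hfix : Module.finrank F (LinearMap.ker (aeval T (X - 1 : F[X]))) ≤ 1 := by
    by_contra hc
    obtain ⟨x, hx, hx0, hxx⟩ := exists_iso hS
      (W := LinearMap.ker (aeval T (X - 1 : F[X]))) (by omega)
    refine ht.free x hx0 hxx ?_
    rw [LinearMap.mem_ker, map_sub, aeval_X, map_one, LinearMap.sub_apply, Module.End.one_apply] at hx
    exact sub_eq_zero.1 hx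
  have h1 := finrank_cases hS h4 (t := t) (W₁ t) _ (irreducible_one hS h4) (by compute_degree!) rfl (iso_W₁ hS)
  have h2' := finrank_cases hS h4 (t := t) (W₂ t) _ (irreducible_two hS h4) (by compute_degree!) rfl (iso_W₂ hS)
  have htop : LinearMap.ker (aeval T (X - 1 : F[X])) ⊔ (W₁ t ⊔ W₂ t) = ⊤ := eq_top_iff.2 fun x _ => hcov x
  have hA := Submodule.finrank_add_le_finrank_add_finrank (LinearMap.ker (aeval T (X - 1 : F[X]))) (W₁ t ⊔ W₂ t)
  have hB := Submodule.finrank_add_le_finrank_add_finrank (W₁ t) (W₂ t)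
  rw [htop, finrank_top, hS.dim] at hA
  have hd1 : Module.finrank F (W₁ t) = 3 := by omega
  have hd2 : Module.finrank F (W₂ t) = 3 := by omega
  refine ⟨?_, hd1, hd2⟩
  have hdis : W₁ t ⊓ W₂ t = ⊥ := by
    rw [eq_bot_iff]
    rintro x ⟨a, b⟩
    rw [Submodule.mem_bot]
    by_contra hx0
    obtain ⟨p, q, hpq⟩ : IsCoprime (X ^ 3 + X + 1 : F[X]) (X ^ 3 + X ^ 2 + 1) :=
      ⟨X ^ 3 + X ^ 2 + X + 1, X ^ 3, by
        linear_combination (X ^ 6 + X ^ 5 + X ^ 4 + 2 * X ^ 3 + X ^ 2 + X) * h2⟩
    have := congrArg (fun r : F[X] => aeval T r x) hpq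
    rw [W₁, SetLike.mem_coe, LinearMap.mem_ker] at a
    rw [W₂, SetLike.mem_coe, LinearMap.mem_ker] at b
    simp only [map_add (aeval T) (p * _), map_mul (aeval T) p, map_mul (aeval T) q, map_one (aeval T),
      LinearMap.add_apply, Module.End.mul_apply, Module.End.one_apply] at this
    rw [← hT] at a b
    rw [a, b, map_zero, map_zero, add_zero] at this
    exact hx0 this.symm
  have := Submodule.finrank_sup_add_finrank_inf_eq (W₁ t) (W₂ t)
  rw [hdis, finrank_bot, hd1, hd2] at this
  exact Submodule.eq_top_of_finrank_eq (by rw [hS.dim]; omega)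

theorem span_eq (q : F[X]) (hq : Irreducible q) (hd : q.natDegree = 3) (T : Module.End F V) (W : Submodule F V)
    (hW : Module.finrank F W = 3) {x : V} (hx0 : x ≠ 0) (hx : aeval T q x = 0) (hmem : ∀ i, triple T x i ∈ W) :
    W = Submodule.span F (Set.range (triple T x)) := by
  haveI := hS.fd
  refine (Submodule.eq_of_le_of_finrank_eq (Submodule.span_le.2 (Set.range_subset_iff.2 hmem)) ?_).symm
  rw [hW, finrank_span_eq_card (triple_indep hq hd hx0 hx), Fintype.card_fin]

theorem map_W₁ {s : H.SIsom} (hs : Commute s t) {x : V} (hx : x ∈ W₁ t) : s.1.1 x ∈ W₁ t := by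
  have h : ∀ y, s.1.1 (t.1.1 y) = t.1.1 (s.1.1 y) := fun y => by
    rw [← HermSpace.smul_mul_apply, hs.eq, HermSpace.smul_mul_apply]
  rw [mem_W₁] at hx ⊢
  rw [← h, ← h, ← h, ← map_add, ← map_add, hx, map_zero]

theorem map_W₂ {s : H.SIsom} (hs : Commute s t) {x : V} (hx : x ∈ W₂ t) : s.1.1 x ∈ W₂ t := by
  have h : ∀ y, s.1.1 (t.1.1 y) = t.1.1 (s.1.1 y) := fun y => by
    rw [← HermSpace.smul_mul_apply, hs.eq, HermSpace.smul_mul_apply]
  rw [mem_W₂] at hx ⊢
  rw [← h, ← h, ← h, ← map_add, ← map_add, hx, map_zero]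

/-- An element commuting with `t` and fixing a nonzero vector of the first space is trivial. -/
theorem rigid {s : H.SIsom} (hs : Commute s t) {x : V} (hx : x ∈ W₁ t) (hx0 : x ≠ 0) (hfx : s.1.1 x = x) :
    s = 1 := by
  obtain ⟨htop, hd1, -⟩ := split hS h4 ht
  have h : ∀ y, s.1.1 (t.1.1 y) = t.1.1 (s.1.1 y) := fun y => by
    rw [← HermSpace.smul_mul_apply, hs.eq, HermSpace.smul_mul_apply]
  have hW := span_eq hS h4 ht (X ^ 3 + X + 1) (irreducible_one hS h4) (by compute_degree!) (lin t) (W₁ t) hd1 hx0 hx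
    (fun i => by
      have ht' : Commute t t := Commute.refl t
      fin_cases i
      exacts [hx, map_W₁ hS h4 ht ht' hx, map_W₁ hS h4 ht ht' (map_W₁ hS h4 ht ht' hx)])
  have hfix1 : ∀ y ∈ W₁ t, s.1.1 y = y := by
    intro y hy
    rw [hW] at hy
    induction hy using Submodule.span_induction with
    | mem y hy =>
      obtain ⟨i, rfl⟩ := hy
      fin_cases i
      · exact hfx
      · show s.1.1 (t.1.1 x) = t.1.1 x
        rw [h, hfx]
      · show s.1.1 (t.1.1 (t.1.1 x)) = t.1.1 (t.1.1 x)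
        rw [h, h, hfx]
    | zero => exact map_zero _
    | add a b _ _ ha hb => rw [map_add, ha, hb]
    | smul c a _ ha => rw [map_smul, ha]
  refine H.sisom_ext fun y => ?_
  show s.1.1 y = y
  obtain ⟨a, ha, b, hb, rfl⟩ := Submodule.mem_sup.1 (show y ∈ W₁ t ⊔ W₂ t by rw [htop]; trivial)
  rw [map_add, hfix1 a ha]
  congr 1
  refine H.ext_of_forall fun z => ?_
  obtain ⟨c, hc, e, he, rfl⟩ := Submodule.mem_sup.1 (show z ∈ W₁ t ⊔ W₂ t by rw [htop]; trivial)
  rw [H.add_left, H.add_left, iso_W₂ hS e he _ (map_W₂ hS h4 ht hs hb), iso_W₂ hS e he b hb, add_zero, add_zero]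
  conv_rhs => rw [← H.map_form s.1 c b, hfix1 c hc]

theorem exists_mem_W₁ : ∃ x ∈ W₁ t, x ≠ 0 := by
  obtain ⟨-, hd1, -⟩ := split hS h4 ht
  refine Submodule.exists_mem_ne_zero_of_ne_bot fun e => ?_
  rw [e, finrank_bot] at hd1
  omega

theorem card_centralizer_le : Nat.card ↥(centralizer ({t} : Set H.SIsom)) ≤ 63 := by
  classical
  haveI := hS.fd
  haveI : Finite V := Module.finite_of_finite F
  obtain ⟨x, hx, hx0⟩ := exists_mem_W₁ hS h4 ht
  let f : ↥(centralizer ({t} : Set H.SIsom)) → {y : W₁ t // y ≠ 0} := fun s =>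
    ⟨⟨s.1.1.1 x, map_W₁ hS h4 ht (mem_centralizer_singleton_iff.1 s.2) hx⟩,
      fun e => hx0 (s.1.1.1.injective (by rw [map_zero]; exact congrArg Subtype.val e))⟩
  have hinj : Function.Injective f := by
    intro r s e
    have e' : r.1.1.1 x = s.1.1.1 x := congrArg (fun y => ((y.1 : W₁ t) : V)) e
    have := rigid hS h4 ht (s := (s.1)⁻¹ * r.1)
      ((Commute.inv_left (mem_centralizer_singleton_iff.1 s.2)).mul_left (mem_centralizer_singleton_iff.1 r.2)) hx hx0
      (by rw [HermSpace.smul_mul_apply, e', ← HermSpace.smul_mul_apply, inv_mul_cancel]; rfl)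
    exact (Subtype.ext (inv_mul_eq_one.1 this)).symm
  refine (Nat.card_le_card_of_injective f hinj).trans ?_
  have h64 : Nat.card (W₁ t) = 64 := by
    rw [Module.natCard_eq_pow_finrank (K := F), h4, (split hS h4 ht).2.1]; norm_num
  haveI := Fintype.ofFinite (W₁ t)
  rw [Nat.card_eq_fintype_card, Fintype.card_subtype_compl, Fintype.card_subtype_eq, Fintype.card_eq_nat_card, h64]

/-- An element of order dividing three commuting with `t` is a scalar. -/
theorem scalar_of_cube {r : H.SIsom} (hr : Commute r t) (h3 : r ^ 3 = 1) :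
    ∃ c : F, c ≠ 0 ∧ ∀ y, r.1.1 y = c • y := by
  obtain ⟨x, hx, hx0⟩ := exists_mem_W₁ hS h4 ht
  obtain ⟨ω, hω0, hω1⟩ : ∃ ω : F, ω ≠ 0 ∧ ω ≠ 1 := by
    haveI := Fintype.ofFinite F
    classical
    obtain ⟨w, hw⟩ := Finset.card_pos.1 (show 0 < ((Finset.univ : Finset F) \ {0, 1}).card by
      rw [Finset.card_sdiff, Finset.inter_univ, Finset.card_univ, Fintype.card_eq_nat_card, h4]
      have := Finset.card_le_two (a := (0 : F)) (b := 1)
      omega)
    simp at hw
    exact ⟨w, hw.1, hw.2⟩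
  have hω : ω * ω = ω + 1 := by
    have h1 := ((cube_cases h4 ω).resolve_left hω0)
    have : (ω - 1) * (ω * ω + ω + 1) = 0 := by linear_combination h1
    have h := (mul_eq_zero.1 this).resolve_left (sub_ne_zero.2 hω1)
    linear_combination h - (ω + 1) * hS.two
  have hω3 : ω * (ω * ω) = 1 := by rw [← pow_three]; exact (cube_cases h4 ω).resolve_left hω0
  have hr3 : ∀ y, r.1.1 (r.1.1 (r.1.1 y)) = y := fun y => by
    rw [← HermSpace.smul_mul_apply, ← HermSpace.smul_mul_apply, ← pow_three', h3]; rfl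
  obtain ⟨c, hc, u, hu, hu0, hru⟩ : ∃ c : F, c ≠ 0 ∧ ∃ u ∈ W₁ t, u ≠ 0 ∧ r.1.1 u = c • u := by
    have hmem := fun y (hy : y ∈ W₁ t) (c : F) => (W₁ t).add_mem (map_W₁ hS h4 ht hr hy) ((W₁ t).smul_mem c hy)
    by_cases e1 : r.1.1 x + (ω * ω) • x = 0
    · exact ⟨ω * ω, mul_ne_zero hω0 hω0, x, hx, hx0, hS.toFour.eq_of_vadd e1⟩
    set u₁ := r.1.1 x + (ω * ω) • x with hu₁
    by_cases e2 : r.1.1 u₁ + ω • u₁ = 0
    · exact ⟨ω, hω0, u₁, hmem x hx _, e1, hS.toFour.eq_of_vadd e2⟩
    refine ⟨1, one_ne_zero, _, hmem u₁ (hmem x hx _) _, e2, ?_⟩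
    have hsum : ω * ω + ω = 1 := by linear_combination hω + ω * hS.two
    have hu₂ : r.1.1 u₁ + ω • u₁ = r.1.1 (r.1.1 x) + r.1.1 x + x := by
      rw [hu₁, map_add, map_smul, smul_add, smul_smul, hω3, one_smul,
        show ∀ a b c d : V, a + b + (c + d) = a + (b + c) + d from fun a b c d => by abel, ← add_smul, hsum, one_smul]
    rw [one_smul, hu₂, map_add, map_add, hr3]
    abel
  obtain ⟨z, hz, hzs⟩ := hS.exists_center_scalar hc
  refine ⟨c, hc, fun y => ?_⟩
  have hzt : Commute z⁻¹ t := (show Commute z t from (Subgroup.mem_center_iff.1 hz t).symm).inv_left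
  have := rigid hS h4 ht (s := z⁻¹ * r) (hzt.mul_left hr) hu hu0
    (by rw [HermSpace.smul_mul_apply, hru, ← hzs, ← HermSpace.smul_mul_apply, inv_mul_cancel]; rfl)
  rw [← inv_mul_eq_one.1 this, hzs]

theorem no_ninth {s : H.SIsom} (hs : Commute s t) (h9 : orderOf s = 9) : False := by
  haveI := hS.fd
  obtain ⟨c, hc0, hc⟩ := scalar_of_cube hS h4 ht (hs.pow_left 3)
    (by rw [← pow_mul, show 3 * 3 = orderOf s by omega, pow_orderOf_eq_one])
  have hc1 : c ≠ 1 := by
    rintro rfl
    have : s ^ 3 = 1 := H.sisom_ext fun y => by rw [hc, one_smul]; rfl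
    have := orderOf_dvd_of_pow_eq_one this
    rw [h9] at this
    norm_num at this
  obtain ⟨htop, hd1, hd2⟩ := split hS h4 ht
  obtain ⟨x, hx, hx0⟩ := exists_mem_W₁ hS h4 ht
  obtain ⟨y, hy, hy0⟩ : ∃ y ∈ W₂ t, y ≠ 0 := Submodule.exists_mem_ne_zero_of_ne_bot fun e => by
    rw [e, finrank_bot] at hd2; omega
  have hq := irreducible_pure h4 hc0 hc1
  have hs3 : ∀ v, s.1.1 (s.1.1 (s.1.1 v)) = c • v := fun v => by
    rw [← hc v, pow_three', HermSpace.smul_mul_apply, HermSpace.smul_mul_apply]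
  have hker : ∀ v, aeval (lin s) (X ^ 3 - C c) v = 0 := fun v => by
    simp [pow_three, Module.End.mul_apply, lin_apply, hs3]
  have e1 := span_eq hS h4 ht _ hq (by compute_degree!) (lin s) (W₁ t) hd1 hx0 (hker x) (fun i => by
    fin_cases i
    exacts [hx, map_W₁ hS h4 ht hs hx, map_W₁ hS h4 ht hs (map_W₁ hS h4 ht hs hx)])
  have e2 := span_eq hS h4 ht _ hq (by compute_degree!) (lin s) (W₂ t) hd2 hy0 (hker y) (fun i => by
    fin_cases i
    exacts [hy, map_W₂ hS h4 ht hs hy, map_W₂ hS h4 ht hs (map_W₂ hS h4 ht hs hy)])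
  set f : Fin 6 → V := ![x, s.1.1 x, s.1.1 (s.1.1 x), y, s.1.1 y, s.1.1 (s.1.1 y)] with hf
  have hsp : ⊤ ≤ Submodule.span F (Set.range f) := by
    rw [← htop, e1, e2, ← Submodule.span_union]
    refine Submodule.span_mono ?_
    rintro v (⟨i, rfl⟩ | ⟨i, rfl⟩) <;> fin_cases i
    exacts [⟨0, rfl⟩, ⟨1, rfl⟩, ⟨2, rfl⟩, ⟨3, rfl⟩, ⟨4, rfl⟩, ⟨5, rfl⟩]
  set b := basisOfTopLeSpanOfCardEqFinrank f hsp (by rw [Fintype.card_fin, hS.dim]) with hb
  have hbf : ⇑b = f := coe_basisOfTopLeSpanOfCardEqFinrank _ _ _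
  set σ : Equiv.Perm (Fin 6) := Equiv.swap 0 1 * Equiv.swap 1 2 * (Equiv.swap 3 4 * Equiv.swap 4 5) with hσ
  have himg : (lin s) ∘ f = fun i => (![1, 1, c, 1, 1, c] : Fin 6 → F) i • f (σ i) := by
    funext i
    fin_cases i <;> simp [hf, hσ, lin_apply, hs3, Equiv.swap_apply_def]
  have hdet := b.det_comp (lin s) b
  have hd1' : LinearMap.det (lin s) = 1 := by
    have h := (HermSpace.mem_SIsom (H := H)).1 s.2
    have := congrArg Units.val h
    rwa [LinearEquiv.coe_det, Units.val_one] at this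
  rw [b.det_self, mul_one, hd1', hbf, himg, AlternatingMap.map_smul_univ,
    show (fun i => f (σ i)) = f ∘ σ from rfl, AlternatingMap.map_perm, ← hbf, b.det_self] at hdet
  have hsign : Equiv.Perm.sign σ = 1 := by
    rw [hσ]
    simp [Equiv.Perm.sign_mul, Equiv.Perm.sign_swap']
  rw [hsign] at hdet
  have hcc : c * c = 1 := by
    simpa [Fin.prod_univ_six] using hdet
  apply hc1
  have h3 := (cube_cases h4 c).resolve_left hc0
  linear_combination h3 - c * hcc

/-- Elements commuting with `t` are scalars times powers of `t`. -/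
theorem centraliser {s : H.SIsom} (hs : Commute s t) : ∃ z ∈ center H.SIsom, ∃ i : ℕ, s = z * t ^ i := by
  classical
  haveI := hS.fd
  haveI : Finite V := Module.finite_of_finite F
  haveI : Finite H.SIsom :=
    Finite.of_injective (fun g : H.SIsom => (g.1.1 : V → V)) fun g k e => H.sisom_ext fun x => congrFun e x
  set C := centralizer ({t} : Set H.SIsom) with hC
  obtain ⟨x, hx, hx0⟩ := exists_mem_W₁ hS h4 ht
  obtain ⟨ω, hω0, hω1⟩ : ∃ ω : F, ω ≠ 0 ∧ ω ≠ 1 := by
    haveI := Fintype.ofFinite F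
    obtain ⟨w, hw⟩ := Finset.card_pos.1 (show 0 < ((Finset.univ : Finset F) \ {0, 1}).card by
      rw [Finset.card_sdiff, Finset.inter_univ, Finset.card_univ, Fintype.card_eq_nat_card, h4]
      have := Finset.card_le_two (a := (0 : F)) (b := 1)
      omega)
    simp at hw
    exact ⟨w, hw.1, hw.2⟩
  obtain ⟨z, hz, hzs⟩ := hS.exists_center_scalar hω0
  have hzt : Commute z t := (Subgroup.mem_center_iff.1 hz t).symm
  haveI : Fact (Nat.Prime 3) := ⟨Nat.prime_three⟩
  haveI : Fact (Nat.Prime 7) := ⟨by norm_num⟩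
  have hoz : orderOf z = 3 := by
    refine orderOf_eq_prime (H.sisom_ext fun y => ?_) fun e => hω1 ?_
    · show (z ^ 3).1.1 y = y
      rw [pow_three, HermSpace.smul_mul_apply, HermSpace.smul_mul_apply, hzs, hzs, hzs, smul_smul, smul_smul,
        ← pow_three', (cube_cases h4 ω).resolve_left hω0, one_smul]
    · have h1 := hzs x
      rw [e] at h1
      have : (ω - 1) • x = 0 := by rw [sub_smul, one_smul, sub_eq_zero]; exact h1.symm
      exact sub_eq_zero.1 ((smul_eq_zero.1 this).resolve_right hx0)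
  have hot : orderOf t = 7 := by
    refine orderOf_eq_prime ht.seven fun e => ?_
    have := mem_W₁.1 hx
    rw [e] at this
    exact hx0 (by simpa [hS.vadd_self] using this)
  have hozt : orderOf (z * t) = 21 := by
    rw [hzt.orderOf_mul_eq_mul_orderOf_of_coprime (by rw [hoz, hot]; norm_num), hoz, hot]
  have hmem : z * t ∈ C := mem_centralizer_singleton_iff.2 ((hzt.mul_left (Commute.refl t)).eq)
  have h21 : 21 ∣ Nat.card C := by
    rw [← hozt, ← Subgroup.orderOf_mk _ hmem]
    exact orderOf_dvd_natCard _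
  have hle := card_centralizer_le hS h4 ht
  rw [← hC] at hle
  have hpos : 0 < Nat.card C := Nat.card_pos
  have h42 : Nat.card C ≠ 42 := by
    intro e
    haveI : Fact (Nat.Prime 2) := ⟨Nat.prime_two⟩
    obtain ⟨r, hr⟩ := exists_prime_orderOf_dvd_card' (G := C) 2 (by rw [e]; norm_num)
    have hr2 : (r : H.SIsom) * r = 1 := by
      rw [← pow_two, ← hr, ← Subgroup.coe_pow, pow_orderOf_eq_one]; rfl
    have hrc := mem_centralizer_singleton_iff.1 r.2
    have hrr : ∀ y, r.1.1.1 (r.1.1.1 y) = y := fun y => by rw [← HermSpace.smul_mul_apply, hr2]; rfl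
    have hone : (r : H.SIsom) = 1 := by
      by_cases e0 : r.1.1.1 x + x = 0
      · exact rigid hS h4 ht hrc hx hx0 (hS.toFour.eq_of_vadd e0)
      · exact rigid hS h4 ht hrc ((W₁ t).add_mem (map_W₁ hS h4 ht hrc hx) hx) e0
          (by rw [map_add, hrr, add_comm])
    have : r = 1 := Subtype.ext hone
    rw [this, orderOf_one] at hr
    norm_num at hr
  have h63 : Nat.card C ≠ 63 := by
    intro e
    obtain ⟨P, hP⟩ := Sylow.exists_subgroup_card_pow_prime (G := C) 3 (n := 2) (by rw [e]; norm_num)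
    by_cases hall : ∀ r ∈ P, r ^ 3 = 1
    · let g : P → {c : F // c ≠ 0} := fun r =>
        ⟨(scalar_of_cube hS h4 ht (mem_centralizer_singleton_iff.1 r.1.2)
          (by rw [← Subgroup.coe_pow, hall _ r.2]; rfl)).choose,
         (scalar_of_cube hS h4 ht (mem_centralizer_singleton_iff.1 r.1.2)
          (by rw [← Subgroup.coe_pow, hall _ r.2]; rfl)).choose_spec.1⟩
      have hg : Function.Injective g := by
        intro a b eab
        refine Subtype.ext (Subtype.ext (H.sisom_ext fun y => ?_))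
        rw [(scalar_of_cube hS h4 ht (mem_centralizer_singleton_iff.1 a.1.2)
          (by rw [← Subgroup.coe_pow, hall _ a.2]; rfl)).choose_spec.2 y,
          (scalar_of_cube hS h4 ht (mem_centralizer_singleton_iff.1 b.1.2)
          (by rw [← Subgroup.coe_pow, hall _ b.2]; rfl)).choose_spec.2 y]
        exact congrArg (fun c : {c : F // c ≠ 0} => c.1 • y) eab
      have h1 := Nat.card_le_card_of_injective g hg
      haveI := Fintype.ofFinite F
      rw [hP, Nat.card_eq_fintype_card, Fintype.card_subtype_compl, Fintype.card_subtype_eq,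
        Fintype.card_eq_nat_card, h4] at h1
      omega
    · push Not at hall
      obtain ⟨r, hr, hr3⟩ := hall
      have h9 : r ^ 9 = 1 := by
        have := congrArg Subtype.val (pow_card_eq_one' (G := P) (x := ⟨r, hr⟩))
        rwa [hP, Subgroup.coe_pow] at this
      have := orderOf_eq_prime_pow (p := 3) (n := 1) (by simpa using hr3) (by simpa using h9)
      exact no_ninth hS h4 ht (mem_centralizer_singleton_iff.1 r.2) (by rw [← Subgroup.orderOf_coe] at this; simpa using this)
  have hcard : Nat.card C = 21 := by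
    obtain ⟨m, hm⟩ := h21
    have : m ≤ 3 := by omega
    interval_cases m <;> omega
  have hall : zpowers (z * t) = C := Subgroup.eq_of_le_of_card_ge (zpowers_le.2 hmem)
    (by rw [hcard, Nat.card_zpowers, hozt])
  obtain ⟨n, hn⟩ := (isOfFinOrder_of_finite (z * t)).mem_powers_iff_mem_zpowers.2
    (hall ▸ mem_centralizer_singleton_iff.2 hs.eq : s ∈ zpowers (z * t))
  exact ⟨z ^ n, pow_mem hz n, n, by rw [← hzt.mul_pow]; exact hn.symm⟩

end Cfsg.Lib.ThreeTr.Seven
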