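import Cfsg.Agent.ThreeTransposition.M22Count.Local

/-!
An element of order seven of the special unitary group in dimension six over the field with four elements that fixes
no isotropic vector: modulo the centre it generates its own centraliser.
-/

set_option autoImplicit false
set_option linter.unusedSectionVars false
set_option linter.unusedSimpArgs false
set_option linter.style.haveILetI false

namespace Cfsg.Lib.ThreeTr

open Cfsg Subgroup Cfsg.Lib.Classical

universe u v

/-- A vector killed by a cubic without roots spans three dimensions. -/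
theorem cyclic_three {F : Type u} [Field F] {M : Type v} [AddCommGroup M] [Module F M] (f : M →ₗ[F] M)
    {α β γ : F} (hr : ∀ a : F, a * a * a ≠ α * (a * a) + β * a + γ) {m : M} (hm : m ≠ 0)
    (hf : f (f (f m)) = α • f (f m) + β • f m + γ • m) : LinearIndependent F ![m, f m, f (f m)] := by
  have heig : ∀ a : F, f m ≠ a • m := fun a e => hr a (by
    rw [e, map_smul, e, map_smul, map_smul, e] at hf
    simp only [smul_smul, ← add_smul] at hf
    have := smul_left_injective F hm hf
    linear_combination this)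
  refine Fintype.linearIndependent_iff.2 fun g hg => ?_
  rw [Fin.sum_univ_three] at hg
  simp only [Matrix.cons_val_zero, Matrix.cons_val_one, Matrix.cons_val] at hg
  have h2 : g 2 = 0 := by
    by_contra h2
    set A := -((g 2)⁻¹ * g 1)
    set B := -((g 2)⁻¹ * g 0)
    have e2 : f (f m) = A • f m + B • m := by
      have e' := congrArg (fun z => (g 2)⁻¹ • z) (eq_neg_of_add_eq_zero_right hg)
      simp only [smul_smul, inv_mul_cancel₀ h2, one_smul, smul_neg, smul_add] at e'
      rw [e']
      simp only [A, B, neg_smul]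
      abel
    rw [e2, map_add, map_smul, map_smul, e2] at hf
    have e3 : (A * A + B - α * A - β) • f m + (A * B - α * B - γ) • m = 0 := by
      rw [← sub_eq_zero] at hf
      rw [← hf]
      module
    by_cases hAB : A * A + B - α * A - β = 0
    · rw [hAB, zero_smul, zero_add, smul_eq_zero] at e3
      refine hr (α - A) ?_
      linear_combination (α - A) * hAB + e3.resolve_right hm
    · apply heig (-((A * A + B - α * A - β)⁻¹ * (A * B - α * B - γ)))
      rw [neg_smul, mul_smul, eq_neg_of_add_eq_zero_right e3, smul_neg, neg_neg, smul_smul, inv_mul_cancel₀ hAB,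
        one_smul]
  rw [h2, zero_smul, add_zero] at hg
  have h1 : g 1 = 0 := by
    by_contra h1
    apply heig (-((g 1)⁻¹ * g 0))
    rw [neg_smul, mul_smul, eq_neg_of_add_eq_zero_left hg, smul_neg, neg_neg, smul_smul, inv_mul_cancel₀ h1,
      one_smul]
  rw [h1, zero_smul, add_zero, smul_eq_zero] at hg
  intro i
  fin_cases i
  exacts [hg.resolve_right hm, h1, h2]

/-- An endomorphism of a space of dimension three whose cube is a scalar that is not a cube has that scalar as
determinant. -/
theorem det_of_cube {F : Type u} [Field F] {M : Type v} [AddCommGroup M] [Module F M] [FiniteDimensional F M]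
    (hd : Module.finrank F M = 3) (f : M →ₗ[F] M) {c : F} (hc : ∀ a : F, a * a * a ≠ c)
    (hf : ∀ x, f (f (f x)) = c • x) : LinearMap.det f = c := by
  obtain ⟨m, hm⟩ : ∃ m : M, m ≠ 0 := by
    haveI := Module.nontrivial_of_finrank_pos (R := F) (M := M) (by omega)
    exact exists_ne 0
  classical
  have hli := cyclic_three f (α := 0) (β := 0) (γ := c) (fun a e => hc a (by rw [e]; ring)) hm (by rw [hf]; simp)
  let b := basisOfLinearIndependentOfCardEqFinrank hli (by simp [hd])
  have hb : ∀ i, b i = ![m, f m, f (f m)] i := fun i => by simp [b]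
  have hM : LinearMap.toMatrix b b f = !![0, 0, c; 1, 0, 0; 0, 1, 0] := by
    ext i j
    rw [LinearMap.toMatrix_apply, hb]
    fin_cases j
    · show b.repr (f m) i = _
      rw [show f m = b 1 by rw [hb]; rfl, b.repr_self]
      fin_cases i <;> simp
    · show b.repr (f (f m)) i = _
      rw [show f (f m) = b 2 by rw [hb]; rfl, b.repr_self]
      fin_cases i <;> simp
    · show b.repr (f (f (f m))) i = _
      rw [hf, show m = b 0 by rw [hb]; rfl, map_smul, b.repr_self]
      fin_cases i <;> simp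
  rw [← LinearMap.det_toMatrix b, hM, Matrix.det_fin_three]
  simp

namespace IsSixSpace

variable {F : Type u} [Field F] [Finite F] {V : Type v} [AddCommGroup V] [Module F V] {H : HermSpace F V}
  (hS : IsSixSpace H)
include hS

theorem cube_eq_one (h4 : Nat.card F = 4) {a : F} (ha : a ≠ 0) : a * a * a = 1 := by
  haveI := Fintype.ofFinite F
  rw [Nat.card_eq_fintype_card] at h4
  have := FiniteField.pow_card_sub_one_eq_one a ha
  rw [h4] at this
  simpa [pow_succ, pow_zero] using this

theorem no_root_seven (h4 : Nat.card F = 4) (a : F) : a * a * a + a + 1 ≠ 0 := by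
  intro e
  by_cases ha : a = 0
  · subst ha; simp at e
  rw [hS.cube_eq_one h4 ha] at e
  exact ha (by linear_combination e - hS.two)

/-- The first cubic kernel of an element of order seven: totally isotropic, spanned by each of its nonzero
vectors. -/
theorem kernel_facts (h4 : Nat.card F = 4) {T : H.SIsom} (hT : T ^ 7 = 1) :
    (∀ v w : V, T.1.1 (T.1.1 (T.1.1 v)) + T.1.1 v + v = 0 → T.1.1 (T.1.1 (T.1.1 w)) + T.1.1 w + w = 0 →
      H.h v w = 0) ∧
    ∀ v : V, v ≠ 0 → T.1.1 (T.1.1 (T.1.1 v)) + T.1.1 v + v = 0 →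
      LinearIndependent F ![v, T.1.1 v, T.1.1 (T.1.1 v)] := by
  set τ : V →ₗ[F] V := (T.1.1 : V →ₗ[F] V) with hτ
  have hτ7 : ∀ x, τ (τ (τ (τ (τ (τ (τ x)))))) = x := by
    intro x
    have := congrArg (fun g : H.SIsom => g.1.1 x) hT
    simp only [pow_succ, pow_zero, one_mul, HermSpace.smul_mul_apply] at this
    exact this
  have hback : ∀ x y, H.h x (τ y) = H.h (τ (τ (τ (τ (τ (τ x)))))) y := fun x y => by
    conv_rhs => rw [← H.map_form T.1 (τ (τ (τ (τ (τ (τ x)))))) y]
    show _ = H.h (τ (τ (τ (τ (τ (τ (τ x))))))) (τ y)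
    rw [hτ7]
  have two : ∀ x : V, x + x = 0 := fun x => by rw [← one_smul F x, ← add_smul, hS.add_self, zero_smul]
  refine ⟨fun w v (hw : τ (τ (τ w)) + τ w + w = 0) (hv : τ (τ (τ v)) + τ v + v = 0) => ?_,
    fun v hv0 (hv : τ (τ (τ v)) + τ v + v = 0) => ?_⟩
  · have e : v = τ (τ (τ (τ v + v))) + τ (τ (τ v + v)) + (τ v + v) := by
      simp only [map_add]
      calc v = v + (τ (τ (τ (τ v))) + τ (τ v) + τ v) := by
            rw [show τ (τ (τ (τ v))) + τ (τ v) + τ v = τ (τ (τ (τ v)) + τ v + v) by simp only [map_add], hv, map_zero,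
              add_zero]
        _ = v + (τ (τ (τ (τ v))) + τ (τ v) + τ v) + (τ (τ (τ v)) + τ (τ (τ v))) := by rw [two, add_zero]
        _ = _ := by abel
    rw [e, H.add_right, H.add_right]
    simp only [hback, hτ7]
    rw [← H.add_left, ← H.add_left,
      show τ (τ (τ (τ w))) + τ (τ (τ (τ (τ w)))) + w = τ (τ (τ (τ (τ (τ (τ w)) + τ w + w)))) by
        simp only [map_add, hτ7]; abel, hw, map_zero, map_zero, map_zero, map_zero, H.zero_left]
  · refine cyclic_three τ (α := 0) (β := 1) (γ := 1) (fun a e => hS.no_root_seven h4 a ?_) hv0 ?_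
    · linear_combination e + (a + 1) * hS.two
    · rw [zero_smul, zero_add, one_smul, one_smul]
      calc _ = τ (τ (τ v)) + ((τ v + v) + (τ v + v)) := by rw [two, add_zero]
        _ = (τ (τ (τ v)) + τ v + v) + (τ v + v) := by abel
        _ = _ := by rw [hv, zero_add]

set_option maxHeartbeats 1000000 in
/-- Modulo the centre, the centraliser of an element of order seven without fixed isotropic vectors is generated
by it. -/
theorem seven_centralizer (h4 : Nat.card F = 4) {T : H.SIsom} (hT : T ^ 7 = 1)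
    (hfix : ∀ v : V, v ≠ 0 → H.h v v = 0 → T.1.1 v ≠ v) {S : H.SIsom} (hST : Commute S T) :
    ∃ i : ℕ, S * (T ^ i)⁻¹ ∈ center H.SIsom := by
  classical
  haveI := hS.fd
  haveI : Finite V := Module.finite_of_finite F
  obtain ⟨isoP, cycP⟩ := hS.kernel_facts h4 hT
  obtain ⟨isoQ, cycQ⟩ := hS.kernel_facts h4 (T := T⁻¹) (by rw [inv_pow, hT, inv_one])
  set τ : V →ₗ[F] V := (T.1.1 : V →ₗ[F] V)
  have hτ7 : ∀ x, τ (τ (τ (τ (τ (τ (τ x)))))) = x := by
    intro x
    have := congrArg (fun g : H.SIsom => g.1.1 x) hT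
    simp only [pow_succ, pow_zero, one_mul, HermSpace.smul_mul_apply] at this
    exact this
  have hinv : ∀ x, (T⁻¹).1.1 (τ x) = x := fun x => by
    show (T⁻¹).1.1 (T.1.1 x) = x
    rw [← HermSpace.smul_mul_apply, inv_mul_cancel]; rfl
  let P : V →ₗ[F] V := τ ∘ₗ τ ∘ₗ τ + τ + LinearMap.id
  let Q : V →ₗ[F] V := τ ∘ₗ τ ∘ₗ τ + τ ∘ₗ τ + LinearMap.id
  have hP : ∀ x, P x = τ (τ (τ x)) + τ x + x := fun x => rfl
  have hQ : ∀ x, Q x = τ (τ (τ x)) + τ (τ x) + x := fun x => rfl
  have two : ∀ x : V, x + x = 0 := fun x => by rw [← one_smul F x, ← add_smul, hS.add_self, zero_smul]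
  set W := LinearMap.ker P with hW
  set W' := LinearMap.ker Q with hW'
  have mW : ∀ {x}, x ∈ W ↔ τ (τ (τ x)) + τ x + x = 0 := fun {x} => LinearMap.mem_ker
  have mW' : ∀ {x}, x ∈ W' ↔ τ (τ (τ x)) + τ (τ x) + x = 0 := fun {x} => LinearMap.mem_ker
  have hinv1 : ∀ x, (T⁻¹).1.1 x = τ (τ (τ (τ (τ (τ x))))) := fun x => by
    conv_lhs => rw [← hτ7 x]
    rw [hinv]
  have toInv : ∀ x, x ∈ W' → (T⁻¹).1.1 ((T⁻¹).1.1 ((T⁻¹).1.1 x)) + (T⁻¹).1.1 x + x = 0 := fun x hx => by
    simp only [hinv1, hτ7]
    rw [show τ (τ (τ (τ x))) + τ (τ (τ (τ (τ (τ x))))) + x = τ (τ (τ (τ (τ (τ (τ x)) + τ (τ x) + x)))) by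
      simp only [map_add, hτ7]; abel, mW'.1 hx, map_zero, map_zero, map_zero, map_zero]
  have isoW : W ≤ H.orth W := fun w hw v hv => isoP w v (mW.1 hw) (mW.1 hv)
  have isoW' : W' ≤ H.orth W' := fun w hw v hv => isoQ w v (toInv w hw) (toInv v hv)
  have dimle : ∀ U : Submodule F V, U ≤ H.orth U → Module.finrank F U ≤ 3 := by
    intro U hU
    have := Submodule.finrank_mono hU
    rw [H.finrank_orth, hS.dim] at this
    omega
  have hτmem : ∀ x ∈ W, τ x ∈ W := fun x hx => mW.2 (by
    rw [show τ (τ (τ (τ x))) + τ (τ x) + τ x = τ (τ (τ (τ x)) + τ x + x) by simp only [map_add], mW.1 hx, map_zero])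
  have spanW : ∀ v ∈ W, v ≠ 0 → Module.finrank F W = 3 ∧ W ≤ Submodule.span F {v, τ v, τ (τ v)} := by
    intro v hv hv0
    have hli : LinearIndependent F ![v, τ v, τ (τ v)] := cycP v hv0 (mW.1 hv)
    have hle : Submodule.span F (Set.range ![v, τ v, τ (τ v)]) ≤ W := by
      rw [Submodule.span_le]
      rintro _ ⟨i, rfl⟩
      fin_cases i
      exacts [hv, hτmem v hv, hτmem _ (hτmem v hv)]
    have h3 : Module.finrank F (Submodule.span F (Set.range ![v, τ v, τ (τ v)])) = 3 := by
      rw [finrank_span_eq_card hli, Fintype.card_fin]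
    have h5 := Submodule.finrank_mono hle
    have h6 := dimle W isoW
    refine ⟨by omega, ?_⟩
    rw [← Submodule.eq_of_le_of_finrank_le hle (by omega)]
    refine Submodule.span_mono ?_
    rintro _ ⟨i, rfl⟩
    fin_cases i <;> simp
  have dim3' : W' ≠ ⊥ → Module.finrank F W' = 3 := fun hne => by
    obtain ⟨v, hv, hv0⟩ := Submodule.exists_mem_ne_zero_of_ne_bot hne
    have hli := cycQ v hv0 (toInv v hv)
    have hmem : ∀ x ∈ W', (T⁻¹).1.1 x ∈ W' := fun x hx => mW'.2 (by
      simp only [hinv1, hτ7]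
      rw [show τ (τ x) + τ x + τ (τ (τ (τ (τ (τ x))))) = τ (τ (τ (τ (τ (τ (τ (τ (τ x)) + τ (τ x) + x)))))) by
        simp only [map_add, hτ7], mW'.1 hx]
      simp only [map_zero])
    have hle : Submodule.span F (Set.range ![v, (T⁻¹).1.1 v, (T⁻¹).1.1 ((T⁻¹).1.1 v)]) ≤ W' := by
      rw [Submodule.span_le]
      rintro _ ⟨i, rfl⟩
      fin_cases i
      exacts [hv, hmem v hv, hmem _ (hmem v hv)]
    have h5 := Submodule.finrank_mono hle
    rw [finrank_span_eq_card hli, Fintype.card_fin] at h5
    have := dimle W' isoW'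
    omega
  -- the product of the two cubics projects on the fixed vectors
  have hfixed : ∀ x, τ (P (Q x)) = P (Q x) := fun x => by
    refine sub_eq_zero.1 ?_
    rw [sub_eq_add_neg, neg_eq_of_add_eq_zero_left (two (P (Q x)))]
    simp only [hP, hQ, map_add, hτ7]
    calc _ = (x + x) + (τ x + τ x) + (τ (τ x) + τ (τ x)) + (τ (τ (τ x)) + τ (τ (τ x))) + (τ (τ (τ (τ x))) + τ (τ (τ (τ x))))
          + (τ (τ (τ (τ (τ x)))) + τ (τ (τ (τ (τ x))))) + (τ (τ (τ (τ (τ (τ x))))) + τ (τ (τ (τ (τ (τ x))))))
          + (τ (τ (τ x)) + τ (τ (τ x))) + (τ (τ (τ (τ x))) + τ (τ (τ (τ x)))) := by abel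
      _ = 0 := by simp only [two, add_zero]
  have hPz : ∀ z, τ z = z → P z = z := fun z hz => by rw [hP, hz, hz, hz, two, zero_add]
  have hQz : ∀ z, τ z = z → Q z = z := fun z hz => by rw [hQ, hz, hz, hz, two, zero_add]
  have hPQc : ∀ x, Q (P x) = P (Q x) := fun x => by simp only [hP, hQ, map_add]; abel
  have hPτ : ∀ x, P (τ x) = τ (P x) := fun x => by simp only [hP, map_add]
  have hQτ : ∀ x, Q (τ x) = τ (Q x) := fun x => by simp only [hQ, map_add]
  have bez : ∀ x, x = τ (P x) + (Q (τ x) + Q x) := fun x => by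
    simp only [hP, hQ, map_add]
    calc x = x + (τ (τ (τ (τ x))) + τ (τ (τ (τ x)))) + (τ (τ x) + τ (τ x)) + (τ x + τ x)
          + (τ (τ (τ x)) + τ (τ (τ x))) := by simp only [two, add_zero]
      _ = _ := by abel
  have hsplit : ∀ y, P (Q y) = 0 → ∃ w ∈ W, ∃ w' ∈ W', y = w + w' := fun y hy =>
    ⟨Q (τ y) + Q y, W.add_mem (LinearMap.mem_ker.2 (by rw [hQτ, hPτ, hy, map_zero])) (LinearMap.mem_ker.2 hy),
      τ (P y), LinearMap.mem_ker.2 (by rw [hQτ, hPQc, hy, map_zero]), by rw [add_comm]; exact bez y⟩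
  have hnofix : ∀ u, τ u = u → u = 0 := by
    intro u hu
    by_contra hu0
    have hu1 := hS.self_eq_one fun e => hfix u hu0 e hu
    have hline : ∀ y, τ y = y → y = H.h y u • u := by
      intro y hy
      set y' := y - H.h y u • u with hy'
      have hfy : τ y' = y' := by rw [hy', map_sub, map_smul, hy, hu]
      have ho : H.h y' u = 0 := by rw [hy', H.sub_left, H.smul_left, hu1, mul_one, sub_self]
      by_contra hne
      have hy0 : y' ≠ 0 := fun e => hne (sub_eq_zero.1 e)
      have hy1 := hS.self_eq_one fun e => hfix y' hy0 e hfy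
      have hsum : y' + u = 0 := by
        by_contra h0
        refine hfix (y' + u) h0 ?_ (show τ (y' + u) = y' + u by rw [map_add, hfy, hu])
        rw [H.add_left, H.add_right, H.add_right, ho, H.eq_zero_symm ho, hy1, hu1, add_zero, zero_add, hS.add_self]
      have := congrArg (fun z => H.h z u) hsum
      simp only [H.add_left, ho, hu1, H.zero_left, zero_add] at this
      exact one_ne_zero this
    have hhu : ∀ x, H.h u (τ x) = H.h u x := fun x => by
      conv_lhs => rw [← hu]
      exact H.map_form T.1 u x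
    have horth : ∀ x, (x ∈ W ∨ x ∈ W') → H.h x u = 0 := fun x hx => by
      refine H.eq_zero_symm ?_
      rcases hx with hx | hx
      · have := congrArg (H.h u) (mW.1 hx)
        simp only [H.add_right, H.zero_right, hhu] at this
        linear_combination this - H.h u x * hS.two
      · have := congrArg (H.h u) (mW'.1 hx)
        simp only [H.add_right, H.zero_right, hhu] at this
        linear_combination this - H.h u x * hS.two
    set U := Submodule.span F {u}
    have hle : W ⊔ W' ≤ H.orth U := sup_le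
      (fun x hx => H.mem_orth_span.2 fun z hz => (Set.mem_singleton_iff.1 hz) ▸ horth x (Or.inl hx))
      fun x hx => H.mem_orth_span.2 fun z hz => (Set.mem_singleton_iff.1 hz) ▸ horth x (Or.inr hx)
    have htop : (⊤ : Submodule F V) ≤ U ⊔ (W ⊔ W') := by
      intro x _
      set z := P (Q x)
      obtain ⟨w, hw, w', hw', e⟩ := hsplit (x + z) (by
        rw [map_add, map_add, hQz z (hfixed x), hPz z (hfixed x)]
        exact two z)
      rw [show x = z + (w + w') by rw [← e, add_comm x, ← add_assoc, two, zero_add]]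
      refine Submodule.add_mem _ (Submodule.mem_sup_left ?_)
        (Submodule.mem_sup_right (Submodule.add_mem _ (Submodule.mem_sup_left hw) (Submodule.mem_sup_right hw')))
      rw [hline z (hfixed x)]
      exact U.smul_mem _ (Submodule.mem_span_singleton_self u)
    have hU1 : Module.finrank F U = 1 := finrank_span_singleton hu0
    have h1 := Submodule.finrank_mono hle
    rw [H.finrank_orth, hS.dim, hU1] at h1
    have h2 := Submodule.finrank_mono htop
    rw [finrank_top, hS.dim] at h2
    have h3 := Submodule.finrank_sup_add_finrank_inf_eq U (W ⊔ W')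
    have hdisj : W ⊓ W' = ⊥ := eq_bot_iff.2 fun x ⟨hx, hx'⟩ => by
      rw [Submodule.mem_bot, bez x, show P x = 0 from mW.1 hx, map_zero, zero_add, hQτ,
        show Q x = 0 from mW'.1 hx', map_zero, add_zero]
    have h4' := Submodule.finrank_sup_add_finrank_inf_eq W W'
    rw [hdisj, finrank_bot] at h4'
    have hW3 : Module.finrank F W = 0 ∨ Module.finrank F W = 3 := by
      by_cases hW0 : W = ⊥
      · exact Or.inl (by rw [hW0, finrank_bot])
      · obtain ⟨w, hw, hw0⟩ := Submodule.exists_mem_ne_zero_of_ne_bot hW0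
        exact Or.inr (spanW w hw hw0).1
    have hW'3 : Module.finrank F W' = 0 ∨ Module.finrank F W' = 3 := by
      by_cases hW0 : W' = ⊥
      · exact Or.inl (by rw [hW0, finrank_bot])
      · exact Or.inr (dim3' hW0)
    omega
  have hsum : ∀ x, ∃ w ∈ W, ∃ w' ∈ W', x = w + w' := fun x => hsplit x (hnofix _ (hfixed x))
  obtain ⟨w₀, hw₀, hw₀0⟩ : ∃ w ∈ W, w ≠ 0 := by
    by_contra hcon
    push Not at hcon
    have : (⊤ : Submodule F V) ≤ W' := fun x _ => by
      obtain ⟨w, hw, w', hw', rfl⟩ := hsum x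
      rw [hcon w hw, zero_add]; exact hw'
    have h1 := (Submodule.finrank_mono this).trans (dimle W' isoW')
    rw [finrank_top, hS.dim] at h1
    omega
  obtain ⟨hW3, -⟩ := spanW w₀ hw₀ hw₀0
  -- an element of the centraliser with an eigenvector in the first kernel is central
  have hcomm : ∀ {R : H.SIsom}, Commute R T → ∀ x, R.1.1 (τ x) = τ (R.1.1 x) := fun {R} hR x => by
    have := congrArg (fun g : H.SIsom => g.1.1 x) hR.eq
    simp only [HermSpace.smul_mul_apply] at this
    exact this
  have hRW : ∀ {R : H.SIsom}, Commute R T → ∀ x ∈ W, R.1.1 x ∈ W := fun {R} hR x hx => mW.2 (by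
    rw [← hcomm hR, ← hcomm hR, ← hcomm hR, ← map_add, ← map_add, mW.1 hx, map_zero])
  have hRW' : ∀ {R : H.SIsom}, Commute R T → ∀ x ∈ W', R.1.1 x ∈ W' := fun {R} hR x hx => mW'.2 (by
    rw [← hcomm hR, ← hcomm hR, ← hcomm hR, ← map_add, ← map_add, mW'.1 hx, map_zero])
  have hscalar : ∀ {R : H.SIsom}, Commute R T → ∀ (w : V) (c : F), w ∈ W → w ≠ 0 → R.1.1 w = c • w →
      R ∈ center H.SIsom := by
    intro R hR w c hw hw0 he
    have hc0 : c ≠ 0 := fun e => hw0 (R.1.1.injective (by rw [he, e, zero_smul, map_zero]))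
    have hc3 := hS.cube_eq_one h4 hc0
    have honW : ∀ x ∈ W, R.1.1 x = c • x := by
      intro x hx
      have hx' := (spanW w hw hw0).2 hx
      clear hx
      induction hx' using Submodule.span_induction with
      | mem y hy =>
        rcases hy with rfl | rfl | rfl
        · exact he
        · rw [hcomm hR, he, map_smul]
        · rw [hcomm hR, hcomm hR, he, map_smul, map_smul]
      | zero => simp
      | add y z _ _ hy hz => rw [map_add, hy, hz, smul_add]
      | smul a y _ hy => rw [map_smul, hy, smul_comm]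
    have honW' : ∀ x ∈ W', R.1.1 x = c • x := by
      intro x hx
      refine sub_eq_zero.1 (H.nondeg _ fun y => ?_)
      set d := R.1.1 x - c • x
      have hd : d ∈ W' := W'.sub_mem (hRW' hR x hx) (W'.smul_mem c hx)
      obtain ⟨y₁, hy₁, y₂, hy₂, rfl⟩ := hsum y
      refine H.eq_zero_symm ?_
      rw [H.add_right, isoW' hd y₂ hy₂, add_zero]
      have e1 : H.h x y₁ = H.σ c * H.h (R.1.1 x) y₁ := by
        rw [← H.map_form R.1 x y₁, honW y₁ hy₁, H.smul_right]
      show H.h (R.1.1 x - c • x) y₁ = 0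
      rw [H.sub_left, H.smul_left, e1, ← mul_assoc, hS.norm c hc0, one_mul, sub_self]
    refine (H.mem_center_SIsom_iff (by rw [hS.dim]; norm_num)).2 ⟨c, hS.norm c hc0, ?_, fun x => ?_⟩
    · rw [hS.dim]
      linear_combination (c * c * c + 1) * hc3
    · obtain ⟨y, hy, z, hz, rfl⟩ := hsum x
      rw [map_add, honW y hy, honW' z hz, smul_add]
  set Z := center H.SIsom
  set C := centralizer ({T} : Set H.SIsom)
  set K := C.map (QuotientGroup.mk' Z)
  have hCm : ∀ {R : H.SIsom}, R ∈ C ↔ Commute R T := fun {R} => mem_centralizer_singleton_iff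
  haveI : Finite H.SIsom := by
    haveI : Finite (V ≃ₗ[F] V) := Finite.of_injective (fun g => (g : V → V)) fun a b e => LinearEquiv.ext fun x => congrFun e x
    infer_instance
  have hlift : ∀ q : ↥K, ∃ R, Commute R T ∧ QuotientGroup.mk' Z R = q.1 := fun q => by
    obtain ⟨R, hR, e⟩ := q.2
    exact ⟨R, hCm.1 hR, e⟩
  choose R hR hRe using hlift
  -- the quotient has at most twenty one elements
  have hcard : 3 * Nat.card ↥K ≤ 63 := by
    let f : ↥K × Fˣ → {x : ↥W // x ≠ 0} := fun p => ⟨⟨(p.2 : F) • (R p.1).1.1 w₀, W.smul_mem _ (hRW (hR _) w₀ hw₀)⟩,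
      fun e => hw₀0 ((R p.1).1.1.injective (by
        rw [map_zero]
        exact (smul_eq_zero.1 (congrArg Subtype.val e)).resolve_left p.2.ne_zero))⟩
    have hf : Function.Injective f := by
      rintro ⟨p, c⟩ ⟨p', c'⟩ e
      have e1 : (c : F) • (R p).1.1 w₀ = (c' : F) • (R p').1.1 w₀ := congrArg (fun z => (z.1 : V)) e
      have e2 : ((R p')⁻¹ * R p).1.1 w₀ = ((c : F)⁻¹ * c') • w₀ := by
        refine (R p').1.1.injective ?_
        rw [← HermSpace.smul_mul_apply, mul_inv_cancel_left, map_smul, mul_smul, ← e1, smul_smul,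
          inv_mul_cancel₀ c.ne_zero, one_smul]
      have hz := hscalar ((hR p').inv_left.mul_left (hR p)) w₀ _ hw₀ hw₀0 e2
      have hpp : p' = p := Subtype.ext (by rw [← hRe p', ← hRe p]; exact QuotientGroup.eq.2 hz)
      subst hpp
      refine Prod.ext rfl (Units.ext (smul_left_injective F ?_ e1))
      intro e0
      exact hw₀0 ((R p').1.1.injective (by rw [map_zero]; exact e0))
    have hle := Nat.card_le_card_of_injective f hf
    rw [Nat.card_prod, Nat.card_units, h4] at hle
    haveI : Fintype ↥W := Fintype.ofFinite _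
    have hW64 : Nat.card ↥W = 64 := by rw [Module.natCard_eq_pow_finrank (K := F), h4, hW3]; norm_num
    rw [Nat.card_eq_fintype_card (α := {x : ↥W // x ≠ 0}), Fintype.card_subtype_compl,
      Fintype.card_subtype_eq, ← Nat.card_eq_fintype_card, hW64] at hle
    omega
  -- the image of the element has order seven
  set t : ↥K := ⟨QuotientGroup.mk' Z T, T, hCm.2 (Commute.refl T), rfl⟩ with ht
  haveI : Fact (Nat.Prime 7) := ⟨by norm_num⟩
  have ht7 : orderOf t = 7 := by
    refine orderOf_eq_prime (Subtype.ext ?_) fun e => ?_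
    · rw [SubmonoidClass.coe_pow]; show QuotientGroup.mk' Z T ^ 7 = 1; rw [← map_pow, hT, map_one]
    · obtain ⟨k, hk0, hk⟩ := hS.center_scalar ((QuotientGroup.eq_one_iff T).1 (congrArg Subtype.val e))
      have h7 := hτ7 w₀
      have hk' : ∀ x, τ x = k • x := hk
      simp only [hk', smul_smul] at h7
      nth_rewrite 2 [← one_smul F w₀] at h7
      have hk1 : k = 1 := by
        have := smul_left_injective F hw₀0 h7
        have h3 := hS.cube_eq_one h4 hk0
        linear_combination this - k * (k * k * k + 1) * h3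
      exact hfix w₀ hw₀0 (isoW hw₀ w₀ hw₀) (by show τ w₀ = w₀; rw [hk', hk1, one_smul])
  by_cases htop : zpowers t = ⊤
  · have hmem : (⟨QuotientGroup.mk' Z S, S, hCm.2 hST, rfl⟩ : ↥K) ∈ zpowers t := htop ▸ mem_top _
    obtain ⟨i, hi⟩ := (mem_powers_iff_mem_zpowers (G := ↥K)).2 hmem
    refine ⟨i, ?_⟩
    have e : QuotientGroup.mk' Z (T ^ i) = QuotientGroup.mk' Z S := by
      rw [map_pow]; exact congrArg Subtype.val hi
    rw [← QuotientGroup.eq_one_iff]
    show QuotientGroup.mk' Z (S * (T ^ i)⁻¹) = 1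
    rw [map_mul, map_inv, e, mul_inv_cancel]
  exfalso
  -- otherwise there is an element of order two or three
  obtain ⟨q, hq, g, hg⟩ : ∃ q, (q = 2 ∨ q = 3) ∧ ∃ g : ↥K, orderOf g = q := by
    have h7d : 7 ∣ Nat.card ↥K := ht7 ▸ orderOf_dvd_natCard t
    have hne : Nat.card ↥K ≠ 7 := fun e => htop ((card_eq_iff_eq_top _).1 (by rw [Nat.card_zpowers, ht7, e]))
    have hpos : 0 < Nat.card ↥K := Nat.card_pos
    rcases (show Nat.card ↥K = 14 ∨ Nat.card ↥K = 21 by omega) with e | e
    · exact ⟨2, Or.inl rfl, @exists_prime_orderOf_dvd_card' _ _ _ 2 ⟨Nat.prime_two⟩ (by rw [e]; norm_num)⟩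
    · exact ⟨3, Or.inr rfl, @exists_prime_orderOf_dvd_card' _ _ _ 3 ⟨Nat.prime_three⟩ (by rw [e]; norm_num)⟩
  have hR' := hR g
  have hgq : QuotientGroup.mk' Z (R g ^ q) = 1 := by
    rw [map_pow, hRe, ← SubmonoidClass.coe_pow, ← hg, pow_orderOf_eq_one]; rfl
  obtain ⟨c, hc0, hc⟩ := hS.center_scalar ((QuotientGroup.eq_one_iff _).1 hgq)
  suffices hcen : R g ∈ Z by
    have : g = 1 := Subtype.ext (by rw [← hRe g]; exact (QuotientGroup.eq_one_iff _).2 hcen)
    rw [this, orderOf_one] at hg
    omega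
  set σ : V →ₗ[F] V := ((R g).1.1 : V →ₗ[F] V)
  have hmem : ∀ x ∈ W, σ x ∈ W := hRW hR'
  rcases hq with rfl | rfl
  · have h2 : ∀ x, σ (σ x) = c • x := fun x => by
      have := hc x
      rwa [pow_two, HermSpace.smul_mul_apply] at this
    by_cases hu : σ w₀ + (c * c) • w₀ = 0
    · refine hscalar hR' w₀ (c * c) hw₀ hw₀0 ?_
      show σ w₀ = _
      rw [eq_neg_of_add_eq_zero_left hu]
      exact neg_eq_of_add_eq_zero_left (two _)
    · refine hscalar hR' _ (c * c) (W.add_mem (hmem _ hw₀) (W.smul_mem _ hw₀)) hu ?_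
      show σ (σ w₀ + (c * c) • w₀) = _
      rw [map_add, map_smul, h2, smul_add, smul_smul, add_comm]
      congr 2
      linear_combination -c * hS.cube_eq_one h4 hc0
  have h3 : ∀ x, σ (σ (σ x)) = c • x := fun x => by
    have := hc x
    rwa [show R g ^ 3 = R g * R g * R g by rw [pow_succ, pow_two], HermSpace.smul_mul_apply, HermSpace.smul_mul_apply] at this
  by_cases hc1 : c = 1
  · subst hc1
    obtain ⟨ω, hω⟩ := H.conj.exists_trace_one
    have hω0 : ω ≠ 0 := fun e => by rw [e, map_zero, zero_add] at hω; exact zero_ne_one hω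
    have hωω : ω * ω = ω + 1 := by
      have := hS.norm ω hω0
      have hσω : H.σ ω = ω + 1 := by linear_combination hω - ω * hS.two
      rw [hσω] at this
      linear_combination this - ω * hS.two
    have hneg : ∀ {x y : V}, x + y = 0 → x = y := fun {x y} e =>
      (eq_neg_of_add_eq_zero_left e).trans (neg_eq_of_add_eq_zero_left (two y))
    by_cases hu : σ w₀ + w₀ = 0
    · refine hscalar hR' w₀ 1 hw₀ hw₀0 ?_
      rw [one_smul]
      exact hneg hu
    set u₁ := σ w₀ + w₀
    have hu₁ : u₁ ∈ W := W.add_mem (hmem _ hw₀) hw₀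
    by_cases hu2 : σ u₁ + ω • u₁ = 0
    · exact hscalar hR' u₁ ω hu₁ hu (hneg hu2)
    refine hscalar hR' _ (ω + 1) (W.add_mem (hmem _ hu₁) (W.smul_mem ω hu₁)) hu2 (hneg ?_)
    show σ (σ u₁ + ω • u₁) + (ω + 1) • (σ u₁ + ω • u₁) = 0
    simp only [u₁, map_add, map_smul, h3, one_smul, smul_add, smul_smul, add_smul, add_mul, one_mul, hωω]
    calc _ = (σ (σ w₀) + σ (σ w₀)) + (σ w₀ + σ w₀) + (ω • σ (σ w₀) + ω • σ (σ w₀)) + (ω • σ w₀ + ω • σ w₀) +
          (ω • σ w₀ + ω • σ w₀) + (w₀ + w₀) + (ω • w₀ + ω • w₀) := by abel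
      _ = 0 := by simp only [two, add_zero]
  exfalso
  have hnc : ∀ a : F, a * a * a ≠ c := fun a e => by
    by_cases ha : a = 0
    · exact hc0 (by rw [← e, ha]; ring)
    · exact hc1 (e.symm.trans (hS.cube_eq_one h4 ha))
  have hle : W ≤ W.comap σ := hmem
  have hdet : LinearMap.det σ = 1 := by
    have := MonoidHom.mem_ker.1 (R g).2
    rw [← LinearEquiv.coe_det]
    exact congrArg Units.val this
  have hq3 : Module.finrank F (V ⧸ W) = 3 := by
    have := W.finrank_quotient_add_finrank
    rw [hW3, hS.dim] at this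
    omega
  rw [LinearMap.det_eq_det_mul_det W σ hle, det_of_cube hW3 _ hnc, det_of_cube hq3 _ hnc] at hdet
  · exact hc1 (by linear_combination -c * hdet + hS.cube_eq_one h4 hc0)
  · intro x
    induction x using Submodule.Quotient.induction_on with
    | H x => exact congrArg (Submodule.Quotient.mk (p := W)) (h3 x)
  · intro x
    exact Subtype.ext (h3 x.1)

end IsSixSpace

end Cfsg.Lib.ThreeTr
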